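import Cfsg.Agent.H26.L2R
import Cfsg.Agent.H3.HallTransfer
import Cfsg.Agent.H22.Count

/-! Recognition of `PSL₂(q)` by counting, part 2: `Od.psl`, `Tri.psl_even`, the centralizers in `PSL₂(q)` (`OdL`, `EvL`). -/

set_option autoImplicit false
set_option linter.unusedSectionVars false
set_option linter.unusedVariables false

namespace H326
open Cfsg H18 Subgroup
open H21 (PNil)
open scoped MatrixGroups

variable {G : Type*} [Group G] [Finite G] {l m n q a b r : ℕ} {x y t c u z : G} {N K X B : Subgroup G}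

theorem cube_lt {p q : ℕ} (h : p < q) (h1 : 1 < q) : p * (p - 1) * (p + 1) < q * (q - 1) * (q + 1) :=
  Nat.mul_lt_mul_of_le_of_lt (Nat.mul_le_mul h.le (by omega)) (by omega) (Nat.mul_pos (by omega) (by omega))

theorem conj_prime (hr : (orderOf x).Prime) (h : ¬ orderOf x ∣ X.index) : ∃ g, x ∈ cj g X := by
  obtain ⟨g, a, ha, e⟩ := H13.exists_conj_mem hr (k := 1) (x := x) (by simp [pow_orderOf_eq_one]) h
  exact ⟨g, mem_cj'.2 ⟨a, ha, e⟩⟩

omit [Finite G] in
theorem ne_one_of_prime (h : (orderOf x).Prime) : x ≠ 1 := fun k => h.ne_one (orderOf_eq_one_iff.2 k)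

omit [Finite G] in
theorem conj_sq_one {g : G} (h : g⁻¹ * x * g * (g⁻¹ * x * g) = 1) : x * x = 1 := by
  rw [show x * x = g * (g⁻¹ * x * g * (g⁻¹ * x * g)) * g⁻¹ by group, h]; group

theorem inv_eq (hs : t ∈ zpowers c) (ht : z ∈ zpowers c) (s2 : orderOf t = 2) (t2 : orderOf z = 2) : t = z := by
  have := cyc_zpowers.eq_of_card_eq (zpowers_le.2 hs) (zpowers_le.2 ht) (by rw [card_zpowers', card_zpowers', s2, t2])
  obtain e | e := H13.mem_zpowers_two (H9.mul_self_of_orderOf t2) (this ▸ mem_zpowers t)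
  exacts [absurd e (H9.ne_one_of_orderOf s2), e]

namespace Tri
variable (h : Tri G l m n)
include h

theorem idx_eq (e : Nat.card K = l) : K.index = m * n :=
  Nat.eq_of_mul_eq_mul_left (card_pos' (H := K)) (by rw [K.card_mul_index, h.card, e, mul_assoc])

theorem of_spec {H : Type*} [Group H] (hc : Nat.card H = Nat.card G) (hs : ∀ x : H, ∃ y : G, orderOf y = orderOf x) :
    Tri H l m n :=
  ⟨hc.trans h.card, h.lm, h.ln, h.mn, fun x => by
    obtain ⟨y, e⟩ := hs x
    simpa only [← orderOf_dvd_iff_pow_eq_one, e] using h.ord y⟩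

/-- an abelian Hall subgroup is the centralizer of its elements -/
theorem cen_eq (hB : Abel B) (e : Nat.card B = l) (x1 : x ≠ 1) (hx : x ^ l = 1) : Abel C1(x) ∧ Nat.card C1(x) = l := by
  obtain ⟨y, hy, py⟩ := exists_prime_pow_elt x1
  have yl := h.pw x1 hx (zpowers_le.2 C1_self hy)
  obtain ⟨g, hg⟩ := conj_prime (X := B) py fun d => py.ne_one
    (((h.lm.mul_right h.ln).coprime_dvd_left (orderOf_dvd_of_pow_eq_one yl)).eq_one_of_dvd (h.idx_eq e ▸ d))
  have k : ∀ x ∈ cj g B, x ≠ 1 → x ^ l = 1 → cj g B = C1(x) := fun x hx x1 xl =>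
    eq_of_card_ge ((hB.cj g).trans (C_le_C1 hx)) (by
      rw [card_cj, e]; exact Nat.le_of_dvd (e ▸ card_pos') (h.cen x1 xl))
  rw [← k x (k y hg (ne_one_of_prime py) yl ▸ C1_le_of_mem_zpowers hy C1_self) x1 hx]
  exact ⟨hB.cj g, card_cj.trans e⟩

theorem psl_even {F : Type*} [Field F] [Fintype F] {k : ℕ} (hk : 2 ≤ k) (hF : Fintype.card F = 2 ^ k) (hl : l = 2 ^ k)
    (hm : l < m * n) (h2 : ∀ x : G, x ^ l = 1 → x ^ 2 = 1) : Nonempty (G ≃* PSL(2, F)) := by
  have := Fact.mk Nat.prime_two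
  obtain ⟨T⟩ : Nonempty (Sylow 2 G) := inferInstance
  have hT := hall_sylow_top Nat.prime_two T
  have l4 := hl ▸ H13.four_le hk
  have pl : PiNat {2} l := hl ▸ piNat_pow_self Nat.prime_two k
  have d2 : 2 ∣ l := hl ▸ dvd_pow_self 2 (by omega)
  have cT : Nat.card (T : Subgroup G) = l := Nat.dvd_antisymm
    (hT.pi.dvd_of_dvd_mul ((piNat_compl_iff Nat.prime_two).2 fun c => absurd
      (((h.lm.mul_right h.ln).coprime_dvd_left d2).eq_one_of_dvd c) (by decide))
      (mul_assoc l m n ▸ h.card ▸ card_subgroup_dvd_card _))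
    (hT.dvd_of_piNat pl (by rw [card_top, h.card, mul_assoc]; exact dvd_mul_right _ _))
  obtain ⟨K, _, _, e, ⟨f⟩⟩ := Cfsg.Agent.S1230.result T (fun c => by
      obtain ⟨x, e⟩ := Cyc.gen c
      have := orderOf_le_of_pow_eq_one two_pos (h2 x (cT ▸ pow_card_eq_one_of_mem (e ▸ mem_zpowers x)))
      rw [← card_zpowers', e, cT] at this
      omega)
    (fun c => by
      obtain ⟨j, e1, e2⟩ := h.cnt T
      have := h.sum T
      rw [cT, Nat.gcd_self] at e2
      rw [cT, e1] at this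
      obtain rfl | c := Nat.eq_zero_or_pos j
      · have := Nat.le_of_dvd one_pos e2
        omega
      · have := Nat.mul_le_mul_left (m * n) c
        omega)
    fun t ht => by
      have k : ∀ y ∈ C1(t), y ^ 2 = 1 := fun y hy =>
        h2 y (h.pw (H9.ne_one_of_orderOf ht) (orderOf_dvd_iff_pow_eq_one.1 (ht ▸ d2)) hy)
      have k' : ∀ y ∈ C1(t), y⁻¹ = y := fun y hy => H9.inv_eq_of_mul_self (by rw [← sq]; exact k y hy)
      exact ⟨Abel.comm (cent_iff.2 fun x hx y hy => by rw [← k' _ (mul_mem hx hy), mul_inv_rev, k' x hx, k' y hy]), k⟩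
  obtain ⟨g⟩ := H13.psl_congr (F := F) (K := K) (by rw [e, cT, hl, hF])
  exact ⟨f.trans g⟩

/-- one class of `2`-elements -/
theorem sq_of_cen (hm : m * n + 1 = l * l) (d2 : 2 ∣ l) (hc : ∀ x : G, x ≠ 1 → x ^ l = 1 → Nat.card C1(x) = l)
    (hx : x ^ l = 1) : x ^ 2 = 1 := by
  by_cases x1 : x = 1
  · simp [x1]
  have dl : l ∣ Nat.card G := by rw [h.card, mul_assoc]; exact dvd_mul_right _ _
  obtain ⟨j, e1, e2⟩ := h.cnt ⊤
  have s := h.sum ⊤
  rw [card_top, Nat.gcd_eq_left dl] at e2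
  rw [card_top, e1, h.card, mul_assoc, mul_comm] at s
  have jl : j < l := Nat.lt_of_mul_lt_mul_left (a := m * n) (by omega)
  have : (l : ℤ) ∣ j - 1 := by
    have h2 : (l : ℤ) ∣ m * n * j + 1 := by exact_mod_cast Int.natCast_dvd_natCast.2 e2
    have := ((dvd_mul_right (l : ℤ) l).mul_right j).sub h2
    rwa [show (l : ℤ) * l = m * n + 1 by exact_mod_cast hm.symm,
      show ((m : ℤ) * n + 1) * j - (m * n * j + 1) = j - 1 by ring] at this
  have l2 := Nat.le_of_dvd (by omega) d2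
  obtain rfl : j = 1 := by
    have := Int.eq_zero_of_abs_lt_dvd this (abs_lt.2 ⟨by omega, by omega⟩)
    omega
  have := Fact.mk Nat.prime_two
  obtain ⟨t, ht⟩ := exists_prime_orderOf_dvd_card' (G := G) 2 (d2.trans dl)
  have tl := orderOf_dvd_iff_pow_eq_one.1 (ht ▸ d2)
  have t1 := H9.ne_one_of_orderOf ht
  have := Set.eq_of_subset_of_ncard_le (s := {y | ∃ g ∈ (⊤ : Subgroup G), g * t * g⁻¹ = y}) (t := sol ⊤ l)
    (by rintro _ ⟨g, -, rfl⟩; exact ⟨trivial, by simpa using t1, by rw [conj_pow, tl]; simp⟩)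
    (by rw [H22.ncard_conj_by_subgroup, relIndex_top_right, h.idx_eq (hc t t1 tl), e1, mul_one])
  obtain ⟨g, -, rfl⟩ := this.ge ⟨trivial, x1, hx⟩
  rw [conj_pow, ← ht, pow_orderOf_eq_one]; simp
end Tri

namespace Od
variable (h : Od G q a b)
include h

omit [Finite G] in
theorem card2 : 2 * Nat.card G = q * (q - 1) * (q + 1) := by
  rw [h.card, ← h.add]
  obtain e | e := h.ab <;> rw [e]
  · rw [show b + 1 + b - 1 = 2 * b by omega]; ring
  · rw [show a + (a + 1) - 1 = 2 * a by omega]; ring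

theorem exists_inv : ∃ t : G, orderOf t = 2 :=
  have := Fact.mk Nat.prime_two
  exists_prime_orderOf_dvd_card' 2 (h.card ▸ ((dvd_mul_right 2 a).mul_left q).mul_right b)

omit [Finite G] in
theorem b3 : 3 ≤ b ∧ 2 ≤ a := by
  obtain ⟨j, e⟩ := h.ev
  have := h.ab
  have := h.add
  have := h.five
  omega

theorem inv_cen (ht : orderOf t = 2) : Nat.card C1(t) ∣ 2 * a :=
  h.toTri.rot.cen (H9.ne_one_of_orderOf ht) (orderOf_dvd_iff_pow_eq_one.1 (ht ▸ dvd_mul_right 2 a))

theorem ncomm : ¬ IsMulCommutative G := fun c => by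
  obtain ⟨t, ht⟩ := h.exists_inv
  have := Nat.le_of_dvd (by have := h.b3; omega) (h.inv_cen ht)
  rw [(centralizer_eq_top_iff_subset.2 fun x _ => mem_center_iff.2 fun g => c.1.1 g x), card_top, h.card] at this
  have := h.five
  have := h.b3
  have : 5 * (2 * a) * 1 ≤ q * (2 * a) * b := Nat.mul_le_mul (Nat.mul_le_mul_right _ h.five) (by omega)
  omega

theorem psl (hC : H13.C2N G) {F : Type*} [Field F] [Fintype F] (hF : Fintype.card F = q) :
    Nonempty (G ≃* PSL(2, F)) := by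
  have := h.simple
  have c := h.card2
  have q5 := h.five
  have ne : ∀ p n, p * (p - 1) * (p + 1) < 2 * n → 2 * n < (p + 1) * (p + 1 - 1) * (p + 1 + 1) → Nat.card G ≠ n :=
    fun p n a b e => by
      rw [← e, c] at a b
      obtain j | j | j := lt_trichotomy q (p + 1)
      · obtain j | j := (Nat.lt_succ_iff.1 j).eq_or_lt
        · exact a.ne (j ▸ rfl)
        · exact a.not_gt (cube_lt j (by omega))
      · exact b.ne (j ▸ rfl)
      · exact b.not_gt (cube_lt j (by omega))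
  obtain ⟨K, _, _, h3, ⟨e⟩⟩ | ⟨K, _, _, m, hm, hK, ⟨e⟩⟩ | ⟨⟨e⟩⟩ | k := Cfsg.Agent.S3214.result h.ncomm fun t ht =>
    (hasNormalPComplement_iff Nat.prime_two).2 (hC t (H9.mul_self_of_orderOf ht) (H9.ne_one_of_orderOf ht))
  · have d := H10.card_PSL2 (F := K)
    rw [← Nat.card_congr e.toEquiv] at d
    obtain o | o := Nat.even_or_odd (Fintype.card K)
    · rw [Nat.coprime_two_left.2 (Nat.Even.sub_odd (by omega) o odd_one), one_mul] at d
      generalize hp : Fintype.card K = p at *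
      have pq : p < q := by
        by_contra! j
        have := Nat.card_pos (α := G)
        obtain rfl | j := j.eq_or_lt
        · omega
        · have := cube_lt j (by omega)
          omega
      have qp : q ≤ p + 1 := by
        have d1 : q ∣ (p - 1) * (p + 1) * (2 * p) := ⟨(q - 1) * (q + 1), by rw [← mul_assoc q, ← c, d]; ring⟩
        obtain ⟨s, _, j, hs, e⟩ := FiniteField.card' K
        obtain rfl : 2 = s := (Nat.prime_dvd_prime_iff_eq Nat.prime_two hs).1
          (Nat.prime_two.dvd_of_dvd_pow (e ▸ hp ▸ o.two_dvd))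
        have qo : q.Coprime 2 := h.lm.coprime_dvd_right (dvd_mul_right 2 a)
        have d2 := (qo.mul_right (hp ▸ e ▸ qo.pow_right j)).dvd_of_dvd_mul_right d1
        have : (p - 1).Coprime (p + 1) := by
          rw [show p + 1 = 2 + (p - 1) by omega, Nat.coprime_add_self_right, Nat.coprime_two_right]
          exact Nat.Even.sub_odd (by omega) o odd_one
        obtain j | j := (this.isPrimePow_dvd_mul (hF ▸ FiniteField.isPrimePow_card F)).1 d2 <;>
          have := Nat.le_of_dvd (by omega) j <;> omega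
      obtain rfl : q = p + 1 := by omega
      obtain ⟨j, rfl⟩ : ∃ j, p = j + 1 := ⟨p - 1, by omega⟩
      rw [d, Nat.add_sub_cancel, Nat.add_sub_cancel] at c
      obtain rfl : j = 3 := by
        have := Nat.eq_of_mul_eq_mul_left (show 0 < (j + 1) * (j + 2) by positivity)
          (show (j + 1) * (j + 2) * (2 * j) = (j + 1) * (j + 2) * (j + 3) by linarith)
        omega
      obtain ⟨f⟩ := Cfsg.Agent.S0252.result hp
      obtain ⟨g⟩ := Cfsg.Agent.S0253.result hF
      exact ⟨e.trans (f.trans g.symm)⟩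
    · rw [H13.gcd_odd o, c] at d
      obtain ⟨g⟩ := H13.psl_congr (F := F) (K := K) (by
        obtain j | j | j := lt_trichotomy (Fintype.card K) q
        exacts [absurd d (cube_lt j (by omega)).ne', hF ▸ j, absurd d (cube_lt j (by omega)).ne])
      exact ⟨e.trans g⟩
  · have d : 3 ∣ Nat.card G := by
      refine (show Nat.Coprime 3 2 by decide).dvd_of_dvd_mul_left (c ▸ ?_)
      obtain j | j | j : 3 ∣ q ∨ 3 ∣ q - 1 ∨ 3 ∣ q + 1 := by omega
      exacts [(j.mul_right _).mul_right _, (j.mul_left _).mul_right _, j.mul_left _]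
    rw [Nat.card_congr e.toEquiv, H13.card_sz hm hK] at d
    have j : 2 ^ (2 * m + 1) % 3 = 2 := by rw [pow_succ, pow_mul, Nat.mul_mod, Nat.pow_mod]; simp
    generalize 2 ^ (2 * m + 1) = s at *
    have : s ^ 2 % 3 = 1 := by rw [Nat.pow_mod, j]
    simp only [Nat.prime_three.dvd_mul] at d
    omega
  · refine (ne 17 2520 (by decide) (by decide) ?_).elim
    rw [Nat.card_congr e.toEquiv, nat_card_alternatingGroup]; simp [Nat.factorial]
  · exact (ne 34 20160 (by decide) (by decide) (H13.IsL34.card k)).elim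

theorem c2n (hc : ∀ x : G, x ≠ 1 → x ^ (2 * a) = 1 → a ∣ Nat.card C1(x)) : H13.C2N G := fun t t2 t1 =>
  pnil_of_comm fun x hx y hy ox oy => by
    by_cases x1 : x = 1
    · simp [x1]
    have e := C1_mul (mem_C1.1 hx).symm (H13.two_elt t2) (H5.piNat_two_compl.2 ox)
    have d := h.inv_cen (H9.orderOf_eq_two.2 ⟨t2, t1⟩)
    obtain ⟨j, hj⟩ := hc (t * x) (fun k => x1 (PiElt.eq_one' (by
      rw [← inv_eq_of_mul_eq_one_right k]; exact (H13.two_elt t2).inv) (H5.piNat_two_compl.2 ox)))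
      (orderOf_dvd_iff_pow_eq_one.1 ((orderOf_dvd_card (mul_mem C1_self hx)).trans d))
    rw [← card_mul_relIndex (e.le.trans inf_le_left), hj, mul_assoc, mul_comm 2] at d
    exact (mem_C1.1 (e.le (mem_of_odd ((dvd_mul_left _ _).trans
      (Nat.dvd_of_mul_dvd_mul_left (by have := h.b3; omega) d)) hy oy)).2).symm

/-- one class of involutions -/
theorem inv (hc : orderOf c = a) : ∃ z ∈ zpowers c, orderOf z = 2 ∧ Nat.card C1(z) = 2 * a ∧
    ∀ t, orderOf t = 2 → ∃ g, t = g * z * g⁻¹ := by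
  have := h.simple
  have a2 := h.b3
  obtain ⟨z, hz, oz⟩ := cauchy (H := zpowers c) Nat.prime_two (by rw [card_zpowers', hc]; exact h.ev.two_dvd)
  have le : zpowers c ≤ C1(z) := abel_zpowers.trans (C_le_C1 hz)
  have cX : Nat.card (zpowers c) = a := card_zpowers'.trans hc
  have d := h.inv_cen oz
  rw [← card_mul_relIndex le, cX, mul_comm 2] at d
  obtain d | d := (Nat.dvd_prime Nat.prime_two).1 (Nat.dvd_of_mul_dvd_mul_left (by omega) d)
  · obtain ⟨P, hP⟩ := exists_sylow Nat.prime_two (zpowers c)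
    have zP : z ∈ P := hP.mem_of_nml (abel_zpowers.norm hP.le) hz (H13.two_elt (H9.mul_self_of_orderOf oz))
    have := (H13.hall_of_norm Nat.prime_two hP fun g hg => relIndex_eq_one.1 d (mem_C1.2 (mul_inv_eq_iff_eq_mul.1
      (inv_eq (hP.le (conj_mem_N hg zP)) hz (by rw [orderOf_conj, oz]) oz)))).idx_of_le hP.le
    refine ((piNat_compl_iff Nat.prime_two).1 this ⟨q * b, Nat.eq_of_mul_eq_mul_left (show 0 < a by omega) ?_⟩).elim
    rw [relIndex_top_right, ← cX, card_mul_index, h.card, cX]; ring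
  have cK : Nat.card C1(z) = 2 * a := by rw [← card_mul_relIndex le, cX, d, mul_comm]
  have iK : ¬ 2 ∣ C1(z).index := fun k => absurd ((((h.mn.mul_right h.lm.symm).coprime_dvd_left
    (dvd_mul_right 2 a))).eq_one_of_dvd (h.toTri.rot.idx_eq cK ▸ k)) (by decide)
  refine ⟨z, hz, oz, cK, fun t ht => ?_⟩
  obtain ⟨g, hg⟩ := conj_prime (X := C1(z)) (ht ▸ Nat.prime_two) (ht ▸ iK)
  by_contra! k
  obtain ⟨M, hM, i2, -⟩ := H3.thompson_transfer iK d (u := g⁻¹ * t * g)
    (by rw [← inv_inv g, inv_inv g⁻¹, conj_pow, ← ht, pow_orderOf_eq_one]; simp) (mem_cj.1 hg) fun w hw =>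
      k (g * w⁻¹) (by
        rw [← inv_eq hw hz (by rw [orderOf_conj, ← inv_inv g, inv_inv g⁻¹, orderOf_conj, ht]) oz]; group)
  obtain rfl | rfl := hM.eq_bot_or_eq_top
  · exact h.ncomm (isCyclic_of_prime_card (p := 2) (index_bot.symm.trans i2)).isMulCommutative
  · simp at i2

theorem c2n' (hc : orderOf c = a) : H13.C2N G := fun t t2 t1 => by
  obtain ⟨z, hz, oz, cK, k⟩ := h.inv hc
  obtain ⟨g, rfl⟩ := k t (H9.orderOf_eq_two.2 ⟨t2, t1⟩)
  have i : (cj g (zpowers c)).relIndex C1(g * z * g⁻¹) ∣ 2 := by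
    rw [← cj_C1, relIndex_cj, relIndex_eq_of_mul (abel_zpowers.trans (C_le_C1 hz)) (by
      rw [cK, card_zpowers', hc, mul_comm])]
  exact pnil_of_comm fun x hx y hy ox oy => comm_of_cent (abel_zpowers.cj g) (mem_of_odd i hx ox) (mem_of_odd i hy oy)
end Od

/-- the centralizer data of `PSL₂(q)`, `q` odd -/
structure OdL (G : Type*) [Group G] (q a b : ℕ) (c u : G) : Prop extends Od G q a b where
  P : ∃ P : Subgroup G, Abel P ∧ Nat.card P = q
  B : ∃ B : Subgroup G, Abel B ∧ Nat.card B = b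
  oc : orderOf c = a
  u2 : u * u = 1
  uc : u * c * u⁻¹ = c⁻¹
  un : u ∉ zpowers c

omit [Finite G] in
theorem abel_equiv {H : Type*} [Group H] (e : G ≃* H) (h : ∃ P : Subgroup G, Abel P ∧ Nat.card P = q) :
    ∃ P : Subgroup H, Abel P ∧ Nat.card P = q :=
  let ⟨P, h1, h2⟩ := h
  ⟨P.map e.toMonoidHom, have := h1.comm; abel_of_comm inferInstance, (card_map_of_injective e.injective).trans h2⟩

namespace OdL
variable (h : OdL G q a b c u)
include h

omit [Finite G] in
theorem equiv {H : Type*} [Group H] (e : G ≃* H) : OdL H q a b (e c) (e u) :=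
  ⟨⟨h.toTri.equiv e.symm, h.add, h.ab, h.ev, h.five⟩, abel_equiv e h.P, abel_equiv e h.B,
    (e.orderOf_eq c).trans h.oc, by rw [← map_mul, h.u2, map_one], by rw [← map_inv, ← map_mul, ← map_mul, h.uc, map_inv],
    fun ⟨k, j⟩ => h.un ⟨k, e.injective (by simpa using j)⟩⟩

theorem dih : ∃ z ∈ zpowers c, orderOf z = 2 ∧ Nat.card C1(z) = 2 * a ∧ (∀ t, orderOf t = 2 → ∃ g, t = g * z * g⁻¹) ∧
    (zpowers c).relIndex C1(z) = 2 ∧ u ∈ C1(z) ∧
    ∀ w ∈ C1(z), w ∉ zpowers c → w * w = 1 ∧ ∀ y ∈ zpowers c, w * y * w⁻¹ = y⁻¹ := by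
  obtain ⟨z, hz, oz, cK, k⟩ := h.toOd.inv h.oc
  have i : ∀ y ∈ zpowers c, u * y * u⁻¹ = y⁻¹ := fun y hy => H9.inverts_of_mem_zpowers h.uc hy
  have i2 := relIndex_eq_of_mul (abel_zpowers.trans (C_le_C1 hz)) (n := 2) (by rw [cK, card_zpowers', h.oc, mul_comm])
  have uz : u ∈ C1(z) := mem_C1.2 (mul_inv_eq_iff_eq_mul.1
    ((i z hz).trans (H9.inv_eq_of_mul_self (H9.mul_self_of_orderOf oz))))
  refine ⟨z, hz, oz, cK, k, i2, uz, fun w hw wn => ?_⟩
  have m := H9.mul_inv_mem_of_relIndex_two i2 hw uz wn h.un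
  obtain ⟨y, hy, rfl⟩ : ∃ y ∈ zpowers c, w = y * u := ⟨_, m, by group⟩
  refine ⟨by rw [show y * u * (y * u) = y * (u * y * u⁻¹) * (u * u) by group, i y hy, h.u2]; simp, fun v hv => ?_⟩
  rw [show y * u * v * (y * u)⁻¹ = y * (u * v * u⁻¹) * y⁻¹ by group, i v hv,
    comm_of_cent abel_zpowers hy (inv_mem hv), mul_inv_cancel_right]

theorem cenA (hx : x ^ (2 * a) = 1) (x2 : x * x ≠ 1) : Nat.card C1(x) = a := by
  obtain ⟨z, hz, oz, cK, k, i2, uz, out⟩ := h.dih
  have cX : Nat.card (zpowers c) = a := card_zpowers'.trans h.oc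
  have T := h.toTri.rot
  have a2 := h.toOd.b3
  have k1 : ∀ y ∈ zpowers c, y * y ≠ 1 → C1(y) = zpowers c := fun y hy y2 => by
    have le : zpowers c ≤ C1(y) := abel_zpowers.trans (C_le_C1 hy)
    have d := T.cen (x := y) (by rintro rfl; exact y2 (one_mul 1))
      (by rw [mul_comm, pow_mul, ← cX, pow_card_eq_one_of_mem hy, one_pow])
    rw [← card_mul_relIndex le, cX, mul_comm 2] at d
    obtain d | d := (Nat.dvd_prime Nat.prime_two).1 (Nat.dvd_of_mul_dvd_mul_left (by omega) d)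
    · exact le_antisymm (relIndex_eq_one.1 d) le
    have : C1(y) = C1(z) := eq_of_card_eq (fun g hg => mem_C1.2 (mul_inv_eq_iff_eq_mul.1
      (inv_eq (H9.conj_mem_of_relIndex_two d le hg hz) hz (by rw [orderOf_conj, oz]) oz)))
      (by rw [← card_mul_relIndex le, cX, d, cK, mul_comm])
    have e := (out u uz h.un).2 y hy
    rw [conj_eq_self_of_C1 (this.ge uz)] at e
    exact (y2 (by nth_rw 1 [e]; simp)).elim
  suffices ∃ g, g⁻¹ * x * g ∈ zpowers c by
    obtain ⟨g, hg⟩ := this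
    rw [← cX, ← k1 _ hg fun e => x2 (conj_sq_one e), ← card_cj (g := g) (H := C1(g⁻¹ * x * g)), cj_C1]
    simp [mul_assoc]
  have x1 : x ≠ 1 := by rintro rfl; exact x2 (one_mul 1)
  obtain ⟨y, hy, py⟩ := exists_prime_pow_elt x1
  have xy : x ∈ C1(y) := C1_le_of_mem_zpowers hy C1_self
  by_cases y2 : orderOf y = 2
  · obtain ⟨g, rfl⟩ := k y y2
    rw [← cj_C1, mem_cj] at xy
    exact ⟨g, by_contra fun e => x2 (conj_sq_one (out _ xy e).1)⟩
  have yl := orderOf_dvd_of_pow_eq_one (T.pw x1 hx (zpowers_le.2 C1_self hy))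
  obtain ⟨g, hg⟩ := conj_prime (X := C1(z)) py fun d => py.ne_one
    (((T.lm.mul_right T.ln).coprime_dvd_left yl).eq_one_of_dvd (T.idx_eq cK ▸ d))
  have y2' : g⁻¹ * y * g * (g⁻¹ * y * g) ≠ 1 := fun e => y2 ((Nat.prime_dvd_prime_iff_eq py Nat.prime_two).1
    (orderOf_dvd_of_pow_eq_one (by rw [sq, conj_sq_one e])))
  have := k1 _ (by_contra fun e => y2' (out _ (mem_cj.1 hg) e).1) y2'
  exact ⟨g, this ▸ mem_C1.2 (by simp [mul_assoc, ← mul_assoc y, ← mem_C1.1 xy])⟩

theorem cenT (ht : orderOf t = 2) : Nat.card C1(t) = 2 * a := by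
  obtain ⟨z, -, -, cK, k, -⟩ := h.dih
  obtain ⟨g, rfl⟩ := k t ht
  rw [← cj_C1, card_cj, cK]

theorem sizes (x : G) : x = 1 ∨ C1(x).index = 2 * a * b ∨ C1(x).index = b * q ∨ C1(x).index = q * (2 * a) ∨
    C1(x).index = 2 * (b * q) := by
  refine or_iff_not_imp_left.2 fun x1 => ?_
  obtain ⟨P, hP, cP⟩ := h.P
  obtain ⟨B, hB, cB⟩ := h.B
  obtain e | e | e := h.ord x
  · exact .inl (h.toTri.idx_eq (h.toTri.cen_eq hP cP x1 e).2)
  · by_cases x2 : x * x = 1
    · exact .inr (.inl (h.toTri.rot.idx_eq (h.cenT (H9.orderOf_eq_two.2 ⟨x2, x1⟩))))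
    · refine .inr (.inr (.inr (Nat.eq_of_mul_eq_mul_left (card_pos' (H := C1(x))) ?_)))
      rw [card_mul_index, h.card, h.cenA e x2]; ring
  · exact .inr (.inr (.inl (h.toTri.rot.rot.idx_eq (h.toTri.rot.rot.cen_eq hB cB x1 e).2)))
end OdL

section PSL
variable {F : Type*} [Field F] [Fintype F]

theorem psl_unip : ∃ P : Subgroup PSL(2, F), Abel P ∧ Nat.card P = Fintype.card F := by
  let u : F → SL(2, F) := fun a => ⟨!![1, a; 0, 1], by simp⟩
  let φ : Multiplicative F →* PSL(2, F) := MonoidHom.mk' (fun a => QuotientGroup.mk (u a.toAdd)) fun a b => by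
    rw [← QuotientGroup.mk_mul]
    congr 1
    ext i j
    rw [Matrix.SpecialLinearGroup.coe_mul]
    fin_cases i <;> fin_cases j <;> simp [add_comm, u]
  refine ⟨φ.range, abel_of_comm inferInstance, ?_⟩
  rw [← Nat.card_congr (φ.ofInjective ((injective_iff_map_eq_one φ).2 fun a e => ?_)).toEquiv,
    Nat.card_eq_fintype_card, Fintype.card_multiplicative]
  obtain ⟨r, _, e⟩ := Matrix.SpecialLinearGroup.mem_center_iff.1 ((QuotientGroup.eq_one_iff _).1 e)
  simpa [u] using (congrFun (congrFun e 0) 1).symm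

theorem sp_abel (h : H13.Sp G n) : ∃ B : Subgroup G, Abel B ∧ Nat.card B = n :=
  let ⟨x, e⟩ := h; ⟨zpowers x, abel_zpowers, card_zpowers'.trans e⟩

theorem psl_od (ho : Odd (Fintype.card F)) (h5 : 5 ≤ Fintype.card F) :
    ∃ a b c u, OdL PSL(2, F) (Fintype.card F) a b c u := by
  classical
  obtain ⟨p, _, j, hp, e⟩ := FiniteField.card' F
  have dp : p ∣ Fintype.card F := e ▸ dvd_pow_self p j.ne_zero
  have sp := fun n => H13.sp_psl_odd (F := F) (n := n) hp dp (by omega) ho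
  have c := H10.card_PSL2 (F := F)
  obtain ⟨D1, -, -, -, -, ⟨e1⟩⟩ := H10.exists_dihedral_nonsplit (F := F)
  obtain ⟨D2, -, -, -, -, ⟨e2⟩⟩ := H10.exists_dihedral_split (F := F) (by omega)
  rw [H13.gcd_odd ho] at c e1 e2
  have key : ∀ (a b : ℕ) (D : Subgroup PSL(2, F)) (e : D ≃* DihedralGroup a), a + b = Fintype.card F →
      (a = b + 1 ∨ b = a + 1) → Even a → ∃ c u, OdL PSL(2, F) (Fintype.card F) a b c u := fun a b D f h1 h2 h3 => by
    have ab : a.Coprime b := by obtain rfl | rfl := h2 <;> simp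
    have ob : Odd b := by obtain ⟨i, rfl⟩ := h3; rw [Nat.odd_iff]; omega
    have hs : (a = (Fintype.card F + 1) / 2 ∧ b = (Fintype.card F - 1) / 2) ∨
      (b = (Fintype.card F + 1) / 2 ∧ a = (Fintype.card F - 1) / 2) := by omega
    refine ⟨f.symm (.r 1), f.symm (.sr 0), ⟨⟨⟨Nat.eq_of_mul_eq_mul_left two_pos ?_,
      (Nat.coprime_two_right.2 ho).mul_right (by rw [← h1]; simpa using ab.symm), by rw [← h1]; simpa using ab,
      (Nat.coprime_two_left.2 ob).mul_left ab, fun x => ?_⟩, h1, h2, h3, h5⟩, psl_unip,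
      sp_abel ((sp b).2 (by obtain h | h := hs <;> simp [h])), ?_, ?_, ?_, ?_⟩⟩
    · rw [c, ← h1]
      obtain rfl | rfl := h2
      · rw [show b + 1 + b - 1 = 2 * b by omega]; ring
      · rw [show a + (a + 1) - 1 = 2 * a by omega]; ring
    · simp only [← orderOf_dvd_iff_pow_eq_one]
      obtain k | k | k := (sp _).1 ⟨x, rfl⟩
      · exact .inl (k.trans dp)
      all_goals obtain h | h := hs
      exacts [.inr (.inl ((h.1 ▸ k).mul_left 2)), .inr (.inr (h.1 ▸ k)), .inr (.inr (h.2 ▸ k)),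
        .inr (.inl ((h.2 ▸ k).mul_left 2))]
    · rw [orderOf_coe, MulEquiv.orderOf_eq, DihedralGroup.orderOf_r_one]
    · rw [← coe_mul, ← map_mul]; simp
    · rw [← coe_inv, ← coe_inv, ← coe_mul, ← coe_mul, ← map_inv, ← map_inv, ← map_mul, ← map_mul]; simp
    · rintro ⟨k, j⟩
      have : (DihedralGroup.r 1 : DihedralGroup a) ^ k = .sr 0 := f.symm.injective (Subtype.ext (by
        rw [map_zpow]; exact j))
      simp at this
  obtain ⟨i, hi⟩ := ho
  obtain k | k := Nat.even_or_odd i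
  · exact ⟨_, i + 1, key _ _ D2 e2 (by omega) (by omega) (by rwa [show (Fintype.card F - 1) / 2 = i by omega])⟩
  · exact ⟨_, i, key _ _ D1 e1 (by omega) (by omega) (by
      rw [show (Fintype.card F + 1) / 2 = i + 1 by omega]; exact k.add_one)⟩

theorem psl_ev {k : ℕ} (hk : 2 ≤ k) (hF : Fintype.card F = 2 ^ k) :
    Tri PSL(2, F) (2 ^ k) (2 ^ k - 1) (2 ^ k + 1) ∧ (∀ x : PSL(2, F), x ^ 2 ^ k = 1 → x ^ 2 = 1) ∧
      (∃ B : Subgroup PSL(2, F), Abel B ∧ Nat.card B = 2 ^ k - 1) ∧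
      ∃ B : Subgroup PSL(2, F), Abel B ∧ Nat.card B = 2 ^ k + 1 := by
  have sp := fun n => H13.sp_psl_even (F := F) (n := n) hk hF
  have h4 := H13.four_le hk
  have ev : Even (2 ^ k) := (Nat.even_pow' (by omega)).2 even_two
  have c1 : (2 ^ k).Coprime (2 ^ k - 1) := by
    rw [show 2 ^ k = 1 + (2 ^ k - 1) by omega]; simp
  have c2 : (2 ^ k).Coprime (2 ^ k + 1) := by simp
  refine ⟨⟨H13.card_psl _ hF (by rw [Nat.coprime_two_left.2 (Nat.Even.sub_odd (by omega) ev odd_one), one_mul]), c1, c2, ?_,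
    fun x => ?_⟩, fun x hx => ?_, sp_abel ((sp _).2 (by simp)), sp_abel ((sp _).2 (by simp))⟩
  · rw [show 2 ^ k + 1 = 2 + (2 ^ k - 1) by omega, Nat.coprime_add_self_right, Nat.coprime_two_right]
    exact Nat.Even.sub_odd (by omega) ev odd_one
  · simp only [← orderOf_dvd_iff_pow_eq_one]
    obtain j | j | j := (sp _).1 ⟨x, rfl⟩
    exacts [.inl (j.trans ev.two_dvd), .inr (.inr j), .inr (.inl j)]
  · obtain j | j | j := (sp _).1 ⟨x, rfl⟩ <;> rw [orderOf_dvd_iff_pow_eq_one] at j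
    exacts [j, by rw [one_of_cop c2 hx j, one_pow], by rw [one_of_cop c1 hx j, one_pow]]

theorem card_cases (h : 3 < Fintype.card F) :
    (Odd (Fintype.card F) ∧ 5 ≤ Fintype.card F) ∨ ∃ k, 2 ≤ k ∧ Fintype.card F = 2 ^ k := by
  obtain ⟨p, _, j, hp, e⟩ := FiniteField.card' F
  rcases hp.eq_two_or_odd' with rfl | o
  · refine .inr ⟨j, by_contra fun c => ?_, e⟩
    have := Nat.pow_le_pow_right two_pos (show (j : ℕ) ≤ 1 by omega)
    omega
  · have : Odd (Fintype.card F) := e ▸ o.pow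
    exact .inl ⟨this, by obtain ⟨i, hi⟩ := this; omega⟩

theorem spec (hF : 3 < Fintype.card F) {G : Type*} [Group G] [Finite G]
    (hs : Set.range (orderOf : G → ℕ) = Set.range (orderOf : PSL(2, F) → ℕ)) (hc : Nat.card G = Nat.card PSL(2, F)) :
    Nonempty (G ≃* PSL(2, F)) := by
  have k : ∀ x : G, ∃ y : PSL(2, F), orderOf y = orderOf x := fun x => hs.le ⟨x, rfl⟩
  obtain ⟨o, h5⟩ | ⟨j, hj, e⟩ := card_cases hF
  · obtain ⟨a, b, c, u, h⟩ := psl_od o h5
    have h' : Od G _ a b := ⟨h.toTri.of_spec hc k, h.add, h.ab, h.ev, h.five⟩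
    obtain ⟨c', e⟩ := hs.ge ⟨c, h.oc⟩
    exact h'.psl (h'.c2n' e) rfl
  · obtain ⟨h, h2, -⟩ := psl_ev hj e
    have := H13.four_le hj
    refine (h.of_spec hc k).psl_even hj e rfl (lt_of_lt_of_le (by omega) (Nat.le_mul_of_pos_left _ (by omega)))
      fun x => ?_
    obtain ⟨y, e⟩ := k x
    simpa only [← orderOf_dvd_iff_pow_eq_one, e] using h2 y
end PSL

end H326
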