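import Cfsg.Agent.H26.NB
import Cfsg.Agent.H26.NA4
import Cfsg.Agent.H16.AFP
import Cfsg.Agent.H21.ASM
import Cfsg.Agent.H9.FB
import Cfsg.Agent.H20.FC
import Cfsg.Agent.H6.FD1
import Cfsg.Agent.H27.FD2c
import Cfsg.Agent.H18.FE9
import Cfsg.Agent.H13.FF3
import Cfsg.Agent.H27.FM4
import Cfsg.Agent.H16.FG
import Cfsg.Agent.H18.N3
import Cfsg.Agent.H22.U33
import Cfsg.Agent.H17.Dich
import Cfsg.Agent.H2.LyE
import Cfsg.Agent.H9.MS
import Cfsg.Agent.S2239
/-! THOMPSON'S CLASSIFICATION of simple N-groups (`ng_class`) and of minimal simple groups (`ms_class`,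
instance `H9.MS`; `ms_suzuki`: the exponent of a minimal simple Suzuki group is prime). -/
set_option autoImplicit false
namespace H26
open Cfsg Subgroup
open scoped MatrixGroups
universe u

theorem n4 : N4.{u} := fun G _ _ h1 h2 h3 S h4 =>
  n4_of2 (fa2_of H16.afp (H21.asm anf)) H9.fb H120.fc H6.fd1 H27.fd2 H118.fe H13.ff H27.fm
    (P := fun G _ => Nat.card G = 17971200 ∧ ¬ IsMinimalSimple G)
    (fun G _ _ S V T => ⟨H16.fg2 G S V T, H16.fg1 G S V T⟩) G h1 h2 h3 S h4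

/-- the list of simple N-groups -/
def NL (G : Type*) [Group G] : Prop :=
  (∃ (F : Type) (_ : Field F) (_ : Fintype F), 4 ≤ Fintype.card F ∧ Nonempty (G ≃* PSL(2, F))) ∨ Lie.IsoSuzuki G ∨
    Nonempty (G ≃* PSL(3, ZMod 3)) ∨
    (∃ (F : Type) (_ : Field F) (_ : Fintype F), Fintype.card F = 9 ∧ Nonempty (G ≃* PSU 3 F 3)) ∨
    Nonempty (G ≃* alternatingGroup (Fin 7)) ∨ Nat.card G = 7920 ∨ (Nat.card G = 17971200 ∧ ¬ IsMinimalSimple G)

variable {G : Type u} [Group G] [Finite G]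

theorem ng_class (h : NG G) : NL G := by
  have := h.simple
  have se : (∃ H : Subgroup G, IsStronglyEmbedded H) → NL G := fun ⟨_, k⟩ => (ng_se h k).imp_right Or.inl
  obtain ⟨S⟩ : Nonempty (Sylow 2 G) := inferInstance
  by_cases r : PRankLE 2 2 G
  · have := Fintype.ofFinite (GaloisField 2 4)
    have hF : Fintype.card (GaloisField 2 4) = 16 := by
      rw [← Nat.card_eq_fintype_card, GaloisField.card 2 4 (by norm_num)]; rfl
    obtain ⟨P⟩ : Nonempty (Sylow 2 (PSU 3 (GaloisField 2 4) 4)) := inferInstance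
    rcases Cfsg.Agent.S0516.result h.nc r S hF P with ⟨n, -, ⟨e⟩⟩ | k | k | k
    · rcases H22.gw_sylow h.nc S e with ⟨F, _, _, -, k, f⟩ | f
      · exact .inl ⟨F, _, _, k, f⟩
      · exact .inr (.inr (.inr (.inr (.inl f))))
    · obtain ⟨k, x, y, q⟩ := H22.exists_qd k
      have := H22.NG.cent h q.mc.orderOf_u
      obtain ⟨π, c⟩ := H22.cz_sd q (H22.simple_no2 h.nc)
      exact .inr (.inr ((H2.id_sd c).imp_right fun e => .inr (.inr (.inl e))))
    · exact .inr (.inr (.inr (.inl (H22.n1b G h S k))))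
    · exact se (H2.lyons_se hF S P k)
  rcases H17.dich_simple (fun t ht => H17.pLay_C1_of_solv (H22.NG.cent h ht)) r with c | c
  · by_cases k : ∀ M : Subgroup G, IsTwoLocal M → ∃ L : Subgroup G, IsTwoLocal L ∧ (S : Subgroup G) ≤ L ∧ ¬ L ≤ M
    · exact .inr (.inr (.inr (.inr (.inr (.inr (n4 G h r c S k))))))
    · push Not at k
      obtain ⟨M, k1, k2⟩ := k
      exact se (H118.n3 G h r c S M k1 k2)
  · exact se c

theorem ms_class (h : IsMinimalSimple G) : H9.ML G := by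
  rcases ng_class (ng_of_minimalSimple h) with k | k | k | ⟨F, _, _, k, ⟨e⟩⟩ | ⟨⟨e⟩⟩ | k | k
  exacts [.inl k, .inr (.inr k), .inr (.inl k), (H22.psu_not_min k (ms_equiv h e)).elim,
    (not_ms_A7 (ms_equiv h e)).elim, (not_ms_7920 k h).elim, (k.2 h).elim]

instance ms : H9.MS.{u} := ⟨fun _ _ _ h => ms_class h⟩

theorem ms_suzuki {F : Type*} [Field F] [Fintype F] {m : ℕ} (hm : 1 ≤ m) (hF : Fintype.card F = 2 ^ (2 * m + 1))
    (h : IsMinimalSimple (Sz F m)) : (2 * m + 1).Prime := by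
  by_contra c
  obtain ⟨d, h1, h2, h3⟩ := (Nat.not_prime_iff_exists_dvd_lt (by omega)).1 c
  obtain ⟨k, rfl⟩ : Odd d := Odd.of_dvd_nat ⟨m, rfl⟩ h1
  have := Fintype.ofFinite (GaloisField 2 (2 * k + 1))
  have hK : Fintype.card (GaloisField 2 (2 * k + 1)) = 2 ^ (2 * k + 1) := by
    rw [← Nat.card_eq_fintype_card, GaloisField.card 2 _ (by omega)]
  obtain ⟨X, ⟨e⟩⟩ := (Cfsg.Agent.S2239.result hm hF (by omega) hK h1).1
  have : H13.Sz.IsSz F m := ⟨hm, hF⟩
  have : H13.Sz.IsSz (GaloisField 2 (2 * k + 1)) k := ⟨by omega, hK⟩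
  have c1 := H13.Sz.card_Sz (F := F) (m := m)
  have c2 := H13.Sz.card_Sz (F := GaloisField 2 (2 * k + 1)) (m := k)
  have l : 2 ^ (2 * k + 1) < 2 ^ (2 * m + 1) := Nat.pow_lt_pow_right one_lt_two h3
  have l2 : 2 ^ 3 ≤ 2 ^ (2 * k + 1) := Nat.pow_le_pow_right two_pos (by omega)
  rw [hF] at c1
  rw [hK, ← Nat.card_congr e.toEquiv] at c2
  generalize 2 ^ (2 * k + 1) = a at *
  generalize 2 ^ (2 * m + 1) = b at *
  have s := h.2.2 X fun j => by
    rw [j, card_top, c1] at c2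
    have : a ^ 2 * (a ^ 2 + 1) * (a - 1) < b ^ 2 * (b ^ 2 + 1) * (b - 1) := by
      have : a - 1 < b - 1 := by omega
      have : 0 < a - 1 := by omega
      gcongr
    omega
  have := H13.Sz.isSimpleGroup (F := GaloisField 2 (2 * k + 1)) (m := k)
  have := e.isSimpleGroup
  have cm := IsSimpleGroup.comm_iff_isSolvable.2 s
  let _ : CommGroup X := { (inferInstance : Group X) with mul_comm := cm }
  have p := IsSimpleGroup.prime_card (α := X)
  rw [c2, mul_assoc] at p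
  exact Nat.not_prime_mul (by nlinarith) (by
    have : 7 ≤ a - 1 := by omega
    nlinarith [Nat.zero_le (a ^ 2)]) p

end H26
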