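import Mathlib.Tactic

/-! Finite facts on `GL₃(2)` for `BsG`. -/

set_option autoImplicit false
set_option synthInstance.maxSize 4000

namespace H326.BsG

abbrev V := Bool × Bool × Bool
def ad (v w : V) : V := (xor v.1 w.1, xor v.2.1 w.2.1, xor v.2.2 w.2.2)
def sm (b : Bool) (v : V) : V := if b then v else (false, false, false)
abbrev M := V × V × V
def lin (m : M) (v : V) : V := ad (ad (sm v.1 m.1) (sm v.2.1 m.2.1)) (sm v.2.2 m.2.2)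
def mu (m n : M) : M := (lin m n.1, lin m n.2.1, lin m n.2.2)
def vv (n : ℕ) : V := (n % 2 == 1, n / 2 % 2 == 1, n / 4 % 2 == 1)
def mm (a b c : ℕ) : M := (vv a, vv b, vv c)
def cube (m : M) : M := mu m (mu m m)
def St (d m : M) : Prop := ∀ x ∈ [d.1, d.2.1, d.2.2], lin m x ∈ [d.1, d.2.1, d.2.2]
instance (d m : M) : Decidable (St d m) := by unfold St; infer_instance
def Inj (m : M) : Prop := ∀ v, lin m v = vv 0 → v = vv 0
instance (m : M) : Decidable (Inj m) := by unfold Inj; infer_instance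
def tab : List (M × List M) :=
  [(mm 1 2 4, [mm 1 4 2, mm 2 1 4, mm 4 2 1]), (mm 1 2 5, [mm 1 5 3, mm 2 1 7, mm 5 2 4]),
   (mm 1 2 6, [mm 1 6 4, mm 2 1 7, mm 6 2 3]), (mm 1 3 4, [mm 1 5 3, mm 3 2 4, mm 4 7 1]),
   (mm 3 5 7, [mm 1 2 6, mm 1 4 2, mm 1 6 4]), (mm 3 6 7, [mm 1 2 5, mm 4 2 1, mm 5 2 4])]

theorem sel : ∀ d ∈ tab, ∀ m : M, St d.1 m → Inj m → cube m = mm 1 2 4 ∨ m ∈ d.2 := by decide +kernel
theorem spn : ∀ d ∈ tab, (∀ v, ∃ w, v = lin d.1 w) ∧ ∀ x ∈ [d.1.1, d.1.2.1, d.1.2.2], x ≠ vv 0 := by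
  decide +kernel
theorem fin6 : ∀ a ∈ [mm 1 4 2, mm 2 1 4, mm 4 2 1], ∀ b ∈ [mm 1 5 3, mm 2 1 7, mm 5 2 4],
    ∀ c ∈ [mm 1 6 4, mm 2 1 7, mm 6 2 3], ∀ d ∈ [mm 1 5 3, mm 3 2 4, mm 4 7 1],
    ∀ e ∈ [mm 1 2 6, mm 1 4 2, mm 1 6 4], ∀ f ∈ [mm 1 2 5, mm 4 2 1, mm 5 2 4],
    ∃ x ∈ [a, b, c, d, e, f], ∃ y ∈ [a, b, c, d, e, f], mu x y ≠ mm 1 2 4 ∧ cube (mu x y) = mm 1 2 4 := by
  decide +kernel
theorem lin_mu : ∀ (m n : M) (v : V), lin (mu m n) v = lin m (lin n v) := by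
  have b4 : ∀ a b c d : Bool, xor (xor a b) (xor c d) = xor (xor a c) (xor b d) := by decide
  have a4 : ∀ a b c d : V, ad (ad a b) (ad c d) = ad (ad a c) (ad b d) := fun a b c d =>
    Prod.ext (b4 _ _ _ _) (Prod.ext (b4 _ _ _ _) (b4 _ _ _ _))
  have s2 : ∀ (u v : Bool) (x : V), sm (xor u v) x = ad (sm u x) (sm v x) := by decide
  have h1 : ∀ (m : M) (v w : V), lin m (ad v w) = ad (lin m v) (lin m w) := fun m v w => by
    show ad (ad (sm (xor _ _) _) (sm (xor _ _) _)) (sm (xor _ _) _) = _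
    rw [s2, s2, s2, a4 (sm v.1 m.1), a4]; rfl
  have h2 : ∀ (m : M) (b : Bool) (w : V), lin m (sm b w) = sm b (lin m w) := fun m b w => by
    cases b <;> rfl
  intro m n v
  rw [lin, lin.eq_1 n, h1, h1, h2, h2, h2]; rfl
theorem lin_one : ∀ v : V, lin (mm 1 2 4) v = v := by decide
theorem lin_e : ∀ m : M, lin m (vv 1) = m.1 ∧ lin m (vv 2) = m.2.1 ∧ lin m (vv 4) = m.2.2 := by decide +kernel
theorem ad_eq : ∀ v w : V, ad v w = vv 0 → v = w := by decide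

end H326.BsG
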