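import Mathlib.GroupTheory.Nilpotent
import Cfsg.Agent.H26.Yk1

/-! Involution `t` whose centralizer has Sylow 2-subgroup `⟨t⟩ × D`: basic tools. -/

set_option autoImplicit false

namespace H326.Jt

open H326.Yk Subgroup

variable {G : Type*} [Group G] [Finite G]

instance : Fact (Nat.Prime 2) := ⟨Nat.prime_two⟩

structure St (t : G) (D : Subgroup G) : Prop where
  hno : ∀ H : Subgroup G, H.index ≠ 2
  tt : t * t = 1
  t1 : t ∉ D
  pD : IsPGroup 2 D
  cD : ∀ d ∈ D, t * d = d * t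
  card : ∃ m, m % 2 = 1 ∧ Nat.card (centralizer {t}) = 2 * Nat.card D * m

omit [Finite G] in
theorem mc {t x : G} : x ∈ centralizer ({t} : Set G) ↔ x * t = t * x := mem_centralizer_singleton_iff

omit [Finite G] in
theorem cj {t x : G} (h : IsConj t x) (g : G) : IsConj t (g * x * g⁻¹) :=
  h.trans (isConj_iff.2 ⟨g, rfl⟩)

omit [Finite G] in
theorem cj' {t x : G} (g : G) (h : IsConj t (g * x * g⁻¹)) : IsConj t x := by
  have := cj h g⁻¹
  rwa [show g⁻¹ * (g * x * g⁻¹) * g⁻¹⁻¹ = x by group] at this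

/-- a subgroup with a subgroup of index two -/
theorem card_two {S M : Subgroup G} (hM : M ≤ S) {t : G} (ht : t ∈ S) (t1 : t ∉ M)
    (h : ∀ s ∈ S, s ∈ M ∨ t * s ∈ M) : Nat.card S = 2 * Nat.card M := by
  have tt : t * t ∈ M := (h t ht).resolve_left t1
  rw [← cn_mem, cn_congr (q := fun s => s ∈ M ∨ t * s ∈ M), cn_or, cn_mem,
    cn_coset M t⁻¹ _ (fun x => by rw [inv_inv]), two_mul]
  · intro x a b
    exact t1 (by simpa using M.mul_mem b (M.inv_mem a))
  · refine fun x => ⟨h x, ?_⟩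
    rintro (a | a)
    · exact hM a
    · simpa using S.mul_mem (S.inv_mem ht) (hM a)

theorem two_pow_le {Q : Subgroup G} (hQ : IsPGroup 2 Q) {a m : ℕ} (hm : m % 2 = 1)
    (h : Nat.card Q ∣ a * m) : Nat.card Q ∣ a := by
  obtain ⟨k, hk⟩ := IsPGroup.iff_card.1 hQ
  rw [hk] at h ⊢
  exact Nat.Coprime.dvd_of_dvd_mul_right (Nat.Coprime.pow_left _ (by
    rw [Nat.coprime_two_left, Nat.odd_iff]; exact hm)) h

/-- Sylow conjugacy inside a subgroup `K` -/
theorem syl {K P Q : Subgroup G} (hP : P ≤ K) (hQ : Q ≤ K) (pP : IsPGroup 2 P) (pQ : IsPGroup 2 Q)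
    {m : ℕ} (hm : m % 2 = 1) (c : Nat.card K = Nat.card P * m) : ∃ c ∈ K, ∀ x ∈ Q, c * x * c⁻¹ ∈ P := by
  have c1 : Nat.card (P.subgroupOf K) = Nat.card P := Nat.card_congr (subgroupOfEquivOfLe hP).toEquiv
  have c2 : ¬ 2 ∣ (P.subgroupOf K).index := by
    intro h2
    have := (P.subgroupOf K).card_mul_index
    rw [c1, c] at this
    rw [Nat.eq_of_mul_eq_mul_left Nat.card_pos this] at h2
    omega
  let S := (pP.comap_subtype (K := K)).toSylow c2
  obtain ⟨S', hS'⟩ := (pQ.comap_subtype (K := K)).exists_le_sylow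
  obtain ⟨c, e⟩ := MulAction.exists_smul_eq K S' S
  refine ⟨c, c.2, fun x hx => ?_⟩
  have : (c * ⟨x, hQ hx⟩ * c⁻¹ : K) ∈ (S : Subgroup K) := by
    rw [← e, Sylow.coe_subgroup_smul, Subgroup.mem_pointwise_smul_iff_inv_smul_mem]
    have : (⟨x, hQ hx⟩ : K) ∈ (S' : Subgroup K) := hS' hx
    simpa [mul_assoc] using this
  exact this

omit [Finite G] in
theorem pz {x : G} {k : ℕ} (h : x ^ 2 ^ k = 1) : IsPGroup 2 (zpowers x) := by
  rintro ⟨_, n, rfl⟩
  exact ⟨k, Subtype.ext (by simp only [SubmonoidClass.coe_pow, OneMemClass.coe_one]; rw [← zpow_natCast, ← zpow_mul, mul_comm, zpow_mul, zpow_natCast, h, one_zpow])⟩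

/-- index two subgroup through all squares -/
theorem mlem {S E : Subgroup G} (hE : E ≤ S) (sq : ∀ s ∈ S, s * s ∈ E) {t : G} (ht : t ∈ S) (t1 : t ∉ E) :
    ∃ M : Subgroup G, E ≤ M ∧ M ≤ S ∧ t ∉ M ∧ ∀ s ∈ S, s ∈ M ∨ t * s ∈ M := by
  obtain ⟨M, ⟨h1, h2, h3⟩, hm⟩ := Set.Finite.exists_maximal
    (s := {M : Subgroup G | E ≤ M ∧ M ≤ S ∧ t ∉ M}) (Set.toFinite _) ⟨E, le_rfl, hE, t1⟩
  refine ⟨M, h1, h2, h3, fun s hs => ?_⟩
  have nm : ∀ g ∈ S, ∀ x ∈ M, g * x * g⁻¹ ∈ M := fun g hg x hx => by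
    have a := h1 (sq _ (S.mul_mem hg (h2 hx)))
    have b := h1 (sq _ (S.inv_mem hg))
    have c := M.mul_mem (M.inv_mem hx) b
    have d := h1 (sq _ hg)
    have e : g * x * g⁻¹ = (g * x * (g * x)) * (x⁻¹ * (g⁻¹ * g⁻¹)) := by group
    rw [e]; exact M.mul_mem a c
  let M' : Subgroup G :=
    { carrier := {x | x ∈ M ∨ s * x ∈ M}
      one_mem' := Or.inl M.one_mem
      mul_mem' := by
        rintro a b (ha | ha) (hb | hb)
        · exact Or.inl (M.mul_mem ha hb)
        · right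
          rw [show s * (a * b) = (s * a * s⁻¹) * (s * b) by group]
          exact M.mul_mem (nm s hs a ha) hb
        · right; rw [← mul_assoc]; exact M.mul_mem ha hb
        · left
          rw [show a * b = (s⁻¹ * (s * a) * s⁻¹⁻¹) * (s⁻¹ * s⁻¹) * (s * b) by group]
          exact M.mul_mem (M.mul_mem (nm _ (S.inv_mem hs) _ ha) (h1 (sq _ (S.inv_mem hs)))) hb
      inv_mem' := by
        rintro a (ha | ha)
        · exact Or.inl (M.inv_mem ha)
        · right
          rw [show s * a⁻¹ = (s * (s * a)⁻¹ * s⁻¹) * (s * s) by group]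
          exact M.mul_mem (nm s hs _ (M.inv_mem ha)) (h1 (sq s hs)) }
  by_cases h : t ∈ M'
  · rcases h with h | h
    · exact absurd h h3
    · right
      rw [show t * s = t * (s * t) * t⁻¹ by group]
      exact nm t ht _ h
  · left
    have le : M ≤ M' := fun x hx => Or.inl hx
    refine hm ⟨h1.trans le, ?_, h⟩ le (Or.inr (h1 (sq s hs)))
    rintro x (a | a)
    · exact h2 a
    · simpa using S.mul_mem (S.inv_mem hs) (h2 a)

/-- a subgroup of index two in a Sylow 2-subgroup contains a conjugate of `t` -/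
theorem tr0 (hno : ∀ H : Subgroup G, H.index ≠ 2) {t : G} (tt : t * t = 1) {S M : Subgroup G}
    (hS : S.index % 2 = 1) (c : Nat.card S = 2 * Nat.card M) (h : ∀ x ∈ M, ¬ IsConj t x) : False := by
  have a := fix_mul t M
  have b := fix_mod hno t tt M
  rw [show nn t M = 0 from cn_zero fun x hx => h x hx.2 hx.1, zero_mul] at a
  rw [(Nat.mul_eq_zero.1 a).resolve_right Nat.card_pos.ne'] at b
  have := M.card_mul_index.trans S.card_mul_index.symm
  rw [c, mul_comm 2, mul_assoc] at this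
  have := Nat.eq_of_mul_eq_mul_left Nat.card_pos this
  omega

/-- a 2-subgroup that is Sylow in its normalizer has odd index -/
theorem odd_index {S : Subgroup G} (pS : IsPGroup 2 S)
    (h : ∀ Q : Subgroup G, IsPGroup 2 Q → S ≤ Q → Q ≤ normalizer (S : Set G) → Q ≤ S) : S.index % 2 = 1 := by
  obtain ⟨P, hP⟩ := pS.exists_le_sylow
  have e : S = P := by
    by_contra ne
    have := P.isPGroup'.isNilpotent
    have lt : S.subgroupOf P < ⊤ := by
      rw [lt_top_iff_ne_top, Ne, subgroupOf_eq_top]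
      exact fun a => ne (le_antisymm hP a)
    have := Group.normalizerCondition_of_isNilpotent (G := P) _ lt
    obtain ⟨x, hx, nx⟩ := SetLike.exists_of_lt this
    have := h ((P : Subgroup G) ⊓ normalizer (S : Set G)) (P.isPGroup'.to_inf_left) (le_inf hP le_normalizer) inf_le_right
    refine nx (this (x := (x : G)) (mem_inf.2 ⟨x.2, ?_⟩))
    rw [mem_normalizer_iff] at hx ⊢
    intro y
    by_cases hy : y ∈ (P : Subgroup G)
    · exact hx ⟨y, hy⟩
    · refine ⟨fun a => absurd (hP a) hy, fun a => absurd ?_ hy⟩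
      have := P.mul_mem (P.mul_mem (P.inv_mem x.2) (hP a)) x.2
      simpa [mul_assoc] using this
  rw [e]
  have := P.not_dvd_index
  omega

namespace St

variable {t : G} {D : Subgroup G} (H : St t D)
include H

/-- `⟨t⟩ × D` -/
def T : Subgroup G where
  carrier := {x | x ∈ D ∨ t * x ∈ D}
  one_mem' := Or.inl D.one_mem
  mul_mem' := by
    rintro a b (ha | ha) (hb | hb)
    · exact Or.inl (D.mul_mem ha hb)
    · right
      rw [← mul_assoc, H.cD a ha, mul_assoc]; exact D.mul_mem ha hb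
    · right; rw [← mul_assoc]; exact D.mul_mem ha hb
    · left
      have := D.mul_mem ha hb
      rwa [← mul_assoc, ← H.cD _ ha, ← mul_assoc, H.tt, one_mul] at this
  inv_mem' := by
    rintro a (ha | ha)
    · exact Or.inl (D.inv_mem ha)
    · right
      have := D.inv_mem ha
      have b := H.cD _ this
      rw [mul_inv_rev, inv_eq_of_mul_eq_one_right H.tt] at this b
      rw [mul_assoc a⁻¹, H.tt, mul_one] at b
      have c : t * a⁻¹ = a⁻¹ * t := by
        calc t * a⁻¹ = t * (t * (a⁻¹ * t)) := by rw [b]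
          _ = _ := by rw [← mul_assoc, H.tt, one_mul]
      rwa [c]

omit [Finite G] in
theorem mT {x : G} : x ∈ H.T ↔ x ∈ D ∨ t * x ∈ D := Iff.rfl

omit [Finite G] in
theorem ti : t⁻¹ = t := inv_eq_of_mul_eq_one_right H.tt

omit [Finite G] in
theorem ttx (x : G) : t * (t * x) = x := by rw [← mul_assoc, H.tt, one_mul]

omit [Finite G] in
theorem DT : D ≤ H.T := fun _ h => Or.inl h

omit [Finite G] in
theorem tT : t ∈ H.T := Or.inr (by rw [H.tt]; exact D.one_mem)

omit [Finite G] in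
theorem TC : H.T ≤ centralizer {t} := by
  rintro x (h | h)
  · exact mc.2 (H.cD x h).symm
  · have := H.cD _ h
    rw [H.ttx, mul_assoc] at this
    rw [mc]
    calc x * t = t * (t * (x * t)) := (H.ttx _).symm
      _ = t * x := by rw [← this]

theorem cT : Nat.card H.T = 2 * Nat.card D := card_two H.DT H.tT H.t1 fun _ h => h

theorem pT : IsPGroup 2 H.T := by
  obtain ⟨k, hk⟩ := IsPGroup.iff_card.1 H.pD
  exact IsPGroup.of_card (n := k + 1) (by rw [H.cT, hk, pow_succ'])

theorem sylT {Q : Subgroup G} (hQ : Q ≤ centralizer {t}) (pQ : IsPGroup 2 Q) :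
    ∃ c ∈ centralizer ({t} : Set G), ∀ x ∈ Q, c * x * c⁻¹ ∈ H.T := by
  obtain ⟨m, hm, c⟩ := H.card
  exact syl H.TC hQ H.pT pQ hm (by rw [c, H.cT])

theorem cardC {e : G} (he : IsConj t e) {Q : Subgroup G} (hQ : Q ≤ centralizer {e}) (pQ : IsPGroup 2 Q) :
    Nat.card Q ≤ 2 * Nat.card D := by
  obtain ⟨m, hm, c⟩ := H.card
  obtain ⟨g, rfl⟩ := isConj_iff.1 he
  have e : Nat.card (centralizer ({g * t * g⁻¹} : Set G)) = Nat.card (centralizer ({t} : Set G)) := by
    rw [← cn_mem, ← cn_mem]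
    refine (cn_bij (fun x => g * x * g⁻¹) (fun x hx => ?_) (fun x y _ _ h => by simpa using h)
      (fun y hy => ⟨g⁻¹ * y * g, ?_, by group⟩)).symm
    · rw [mc] at hx ⊢
      calc _ = g * (x * t) * g⁻¹ := by group
        _ = _ := by rw [hx]; group
    · rw [mc] at hy ⊢
      calc _ = g⁻¹ * (y * (g * t * g⁻¹)) * g := by group
        _ = _ := by rw [hy]; group
  have := card_dvd_of_le hQ
  rw [e, c] at this
  exact Nat.le_of_dvd (by have := Nat.card_pos (α := D); omega) (two_pow_le pQ hm this)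

theorem maxT {Q : Subgroup G} (hT : H.T ≤ Q) (hQ : Q ≤ centralizer {t}) (pQ : IsPGroup 2 Q) : Q ≤ H.T :=
  (eq_of_le_of_card_ge hT (by rw [H.cT]; exact H.cardC (IsConj.refl t) hQ pQ)).ge

omit [Finite G] in
theorem inv2 {x : G} (h : IsConj t x) : x * x = 1 := by
  obtain ⟨g, rfl⟩ := isConj_iff.1 h
  calc _ = g * (t * t) * g⁻¹ := by group
    _ = 1 := by rw [H.tt]; group

omit [Finite G] in
theorem ne1 {x : G} (h : IsConj t x) : x ≠ 1 := by
  rintro rfl
  exact H.t1 (by rw [isConj_one_left.1 h]; exact D.one_mem)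

/-- conjugates of `t` are not squares -/
theorem nsq {x : G} (h : IsConj t (x * x)) : False := by
  obtain ⟨g, hg⟩ := isConj_iff.1 h.symm
  have e : (g * x * g⁻¹) * (g * x * g⁻¹) = t := by rw [← hg]; group
  generalize g * x * g⁻¹ = y at e
  obtain ⟨c, hc, h⟩ := H.sylT (Q := zpowers y) (by rw [zpowers_le, mc, ← e]; group)
    (pz (k := 2) (by rw [show y ^ 2 ^ 2 = (y * y) * (y * y) by norm_num [pow_succ, mul_assoc], e, H.tt]))
  have e2 : (c * y * c⁻¹) * (c * y * c⁻¹) = t := by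
    calc _ = c * (y * y) * c⁻¹ := by group
      _ = t := by rw [e, mc.1 hc]; group
  apply H.t1
  rcases h y (mem_zpowers y) with a | a
  · rw [← e2]; exact D.mul_mem a a
  · have := D.mul_mem a a
    rwa [← mul_assoc, ← H.cD _ a, H.ttx, e2] at this

theorem idx : ∃ m, m % 2 = 1 ∧ H.T.index % 4 = (nn t H.T * m) % 4 := by
  obtain ⟨m, hm, c⟩ := H.card
  refine ⟨m, hm, ?_⟩
  have a := fix_mul t H.T
  rw [c, ← H.cT, mul_comm (Nat.card H.T) m, ← mul_assoc] at a
  rw [← fix_mod H.hno t H.tt, Nat.eq_of_mul_eq_mul_right Nat.card_pos a]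

/-- `t` is not weakly closed in `T` -/
theorem not_iso (h : ∀ x ∈ H.T, IsConj t x → x = t) : False := by
  obtain ⟨m, hm, e⟩ := H.idx
  have : nn t H.T = 1 := by
    unfold nn cn
    rw [Set.ncard_eq_one]
    exact ⟨t, Set.ext fun x => ⟨fun a => h x a.2 a.1, by rintro rfl; exact ⟨IsConj.refl _, H.tT⟩⟩⟩
  rw [this] at e
  exact tr0 H.hno H.tt (S := H.T) (by omega) H.cT fun x hx a => H.t1 (h x (H.DT hx) a ▸ hx)

end St

end H326.Jt
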