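import Cfsg.Agent.H26.Jt1
import Cfsg.Agent.H10.Klein

/-! The case of a nonabelian `D` with self-centralizing four-groups is impossible. -/

set_option autoImplicit false

namespace H326.Jt

open H326.Yk Subgroup H10

variable {G : Type*} [Group G] [Finite G]

theorem exists_cinv {P : Type*} [Group P] [Finite P] [Nontrivial P] (h : IsPGroup 2 P) :
    ∃ z : P, z ≠ 1 ∧ z * z = 1 ∧ ∀ g, g * z = z * g := by
  have := h.center_nontrivial
  obtain ⟨k, hk⟩ := IsPGroup.iff_card.1 (h.to_subgroup (center P))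
  have h1 : 1 < Nat.card (center P) := Finite.one_lt_card
  obtain ⟨z, hz⟩ := exists_prime_orderOf_dvd_card' (G := center P) 2 (by
    rw [hk] at h1 ⊢
    exact dvd_pow_self 2 (by rintro rfl; simp at h1))
  refine ⟨z, fun a => ?_, ?_, fun g => mem_center_iff.1 z.2 g⟩
  · rw [show z = 1 from Subtype.ext a, orderOf_one] at hz; omega
  · have := pow_orderOf_eq_one z
    rw [hz, pow_two] at this
    exact congrArg Subtype.val this

theorem cn_dvd (P : Subgroup G) (X : G → Prop) (h : ∀ x, ∀ p ∈ P, X x → X (x * p)) : Nat.card P ∣ cn X := by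
  have key : ∀ (x : G) (y : G ⧸ P), (x : G ⧸ P) = y → (X x ↔ X y.out) := by
    intro x y e
    rw [← QuotientGroup.out_eq' y, QuotientGroup.eq] at e
    refine ⟨fun a => by simpa using h x _ e a, fun a => by simpa using h _ _ (P.inv_mem e) a⟩
  rw [cn_fib X (fun y : G ⧸ P => X y.out) (fun g : G => (g : G ⧸ P)) (Nat.card P)
    (fun x a => (key x _ rfl).1 a)]
  · exact Dvd.intro_left _ rfl
  intro y hy
  refine cn_coset _ y.out _ fun x => ⟨fun a => ?_, fun a => ?_⟩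
  · rw [← QuotientGroup.eq, QuotientGroup.out_eq']; exact a.2.symm
  · rw [← QuotientGroup.eq, QuotientGroup.out_eq'] at a
    exact ⟨(key x y a.symm).2 hy, a.symm⟩

theorem syl_onto {K B : Type*} [Group K] [Finite K] [Group B] (φ : K →* B) (pB : IsPGroup 2 B)
    (Q : Sylow 2 K) (k : K) : ∃ q ∈ (Q : Subgroup K), φ q = φ k := by
  have hs := φ.rangeRestrict_surjective
  have e := (Q.mapSurjective hs).is_maximal' (Q := ⊤) ((pB.to_subgroup _).to_subgroup _) le_top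
  have : φ.rangeRestrict k ∈ (Q.mapSurjective hs : Subgroup φ.range) := e ▸ mem_top _
  obtain ⟨q, hq, e⟩ := this
  exact ⟨q, hq, congrArg Subtype.val e⟩

section
variable {D : Subgroup G} (pD : IsPGroup 2 D)
  (h2 : ∀ a ∈ D, ∀ b ∈ D, KPair a b → ∀ d ∈ D, d * a = a * d → d * b = b * d → d ∈ closure {a, b})
  (h3 : ∃ a ∈ D, ∃ b ∈ D, KPair a b) (h4 : Nat.card D ≠ 4)
include pD h2 h3 h4

theorem exists_r : ∃ r ∈ D, r * r ≠ 1 ∧ r * r * (r * r) = 1 ∧ (∀ d ∈ D, d * (r * r) = r * r * d) ∧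
    ∀ d ∈ D, d * r * d⁻¹ = r ∨ d * r * d⁻¹ = r * (r * r) := by
  classical
  obtain ⟨a, ha, b, hb, K⟩ := h3
  have : Nontrivial D := ⟨⟨a, ha⟩, 1, fun e => K.x1 (congrArg Subtype.val e)⟩
  obtain ⟨z, z1, zz, zc⟩ := exists_cinv pD
  have : (zpowers z).Normal := ⟨fun n hn g => by
    obtain ⟨k, rfl⟩ := hn
    rw [((show Commute g z from zc g).zpow_right k).eq, mul_inv_cancel_right]
    exact ⟨k, rfl⟩⟩
  have mz : ∀ x ∈ zpowers z, x = 1 ∨ x = z := by
    have o : orderOf z = 2 := orderOf_eq_prime (by rw [pow_two, zz]) z1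
    intro x hx
    rw [mem_zpowers_iff_mem_range_orderOf, o] at hx
    simpa [Finset.range_add_one, eq_comm, or_comm] using hx
  have : Nontrivial (D ⧸ zpowers z) := by
    rw [QuotientGroup.nontrivial_iff]
    intro e
    rcases mz ⟨a, ha⟩ (e ▸ mem_top _) with p | p
    · exact K.x1 (congrArg Subtype.val p)
    rcases mz ⟨b, hb⟩ (e ▸ mem_top _) with q | q
    · exact K.y1 (congrArg Subtype.val q)
    exact K.ne (congrArg Subtype.val (p.trans q.symm))
  obtain ⟨w, w1, ww, wc⟩ := exists_cinv (pD.to_quotient (zpowers z))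
  obtain ⟨w, rfl⟩ := QuotientGroup.mk_surjective w
  rw [← QuotientGroup.mk_mul, QuotientGroup.eq_one_iff] at ww
  rw [Ne, QuotientGroup.eq_one_iff] at w1
  have wc' : ∀ d : D, d * w * d⁻¹ = w ∨ d * w * d⁻¹ = w * z := by
    intro d
    have := wc d⁻¹
    rw [← QuotientGroup.mk_inv, ← QuotientGroup.mk_mul, ← QuotientGroup.mk_mul, QuotientGroup.eq] at this
    have e0 : d * w * d⁻¹ = w * ((d⁻¹ * w)⁻¹ * (w * d⁻¹)) := by group
    rw [e0]
    rcases mz _ this with e | e <;> rw [e] <;> simp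
  suffices ∃ r : D, r * r = z ∧ ∀ d : D, d * r * d⁻¹ = r ∨ d * r * d⁻¹ = r * z by
    obtain ⟨r, e, h⟩ := this
    have e' : (r : G) * r = z := congrArg Subtype.val e
    refine ⟨r, r.2, ?_, ?_, fun d hd => ?_, fun d hd => ?_⟩ <;> rw [e']
    · exact fun a => z1 (Subtype.ext a)
    · exact congrArg Subtype.val zz
    · exact congrArg Subtype.val (zc ⟨d, hd⟩)
    · exact (h ⟨d, hd⟩).imp (congrArg Subtype.val) (congrArg Subtype.val)
  rcases mz _ ww with e | e
  swap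
  · exact ⟨w, e, wc'⟩
  have Kz : KPair z w := ⟨zz, e, z1, fun a => w1 (a ▸ one_mem _), fun a => w1 (a ▸ mem_zpowers _), zc w⟩
  have Kz' := Kz.map (f := D.subtype) D.subtype_injective
  have cw : ∀ d : D, d * w = w * d → d = 1 ∨ d = z ∨ d = w ∨ d = z * w := by
    intro d hd
    have := h2 z z.2 w w.2 Kz' d d.2 (congrArg Subtype.val (zc d)) (congrArg Subtype.val hd)
    rw [show ((z : G)) = D.subtype z from rfl, show ((w : G)) = D.subtype w from rfl, Kz'.mem_closure_iff] at this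
    rcases this with a | a | a | a
    exacts [.inl (Subtype.ext a), .inr (.inl (Subtype.ext a)), .inr (.inr (.inl (Subtype.ext a))),
      .inr (.inr (.inr (Subtype.ext a)))]
  obtain ⟨x, hx⟩ : ∃ x : D, x * w ≠ w * x := by
    by_contra! hc
    apply h4
    rw [← Kz.card_closure, show closure {z, w} = ⊤ from ?_, card_top]
    rw [eq_top_iff]
    exact fun d _ => Kz.mem_closure_iff.2 (cw d (hc d))
  have xw : x * w * x⁻¹ = w * z := (wc' x).resolve_left fun a => hx (by rw [← mul_inv_eq_iff_eq_mul.1 a])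
  have xw' : x * w = w * z * x := mul_inv_eq_iff_eq_mul.1 xw
  have zz' : ∀ g, z * (z * g) = g := fun g => by rw [← mul_assoc, zz, one_mul]
  have ww' : ∀ g, w * (w * g) = g := fun g => by rw [← mul_assoc, e, one_mul]
  have zc' : ∀ g y, g * (z * y) = z * (g * y) := fun g y => by rw [← mul_assoc, zc, mul_assoc]
  have zi : z⁻¹ = z := inv_eq_of_mul_eq_one_right zz
  have wi : w⁻¹ = w := inv_eq_of_mul_eq_one_right e
  have gen : ∀ r : D, r * w = w * z * r → r * r = z → ∀ d : D, d * r * d⁻¹ = r ∨ d * r * d⁻¹ = r * z := by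
    intro r hr rr
    have wr : w * r = r * (z * w) := by
      calc w * r = w * (z * (z * r)) := by rw [zz']
        _ = z * (w * z * r) := by rw [zc' w (z * r), mul_assoc]
        _ = r * (z * w) := by rw [← hr, zc']
    have c1 : ∀ d : D, d * w = w * d → d * r * d⁻¹ = r ∨ d * r * d⁻¹ = r * z := by
      intro d hd
      rcases cw d hd with rfl | rfl | rfl | rfl
      · simp
      · left; rw [← zc, mul_inv_cancel_right]
      · right; rw [wr]; group
      · right; rw [mul_assoc z, wr, mul_assoc, mul_assoc, mul_inv_cancel, mul_one, zc]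
    intro d
    rcases wc' d with a | a
    · exact c1 d (mul_inv_eq_iff_eq_mul.1 a)
    · have : r⁻¹ * d * w = w * (r⁻¹ * d) := by
        rw [mul_assoc, mul_inv_eq_iff_eq_mul.1 a, inv_mul_eq_iff_eq_mul, ← mul_assoc, hr]; group
      rcases c1 _ this with b | b
      · left
        calc d * r * d⁻¹ = r * (r⁻¹ * d * r * (r⁻¹ * d)⁻¹) * r⁻¹ := by group
          _ = r := by rw [b]; group
      · right
        calc d * r * d⁻¹ = r * (r⁻¹ * d * r * (r⁻¹ * d)⁻¹) * r⁻¹ := by group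
          _ = r * z := by rw [b, ← rr]; group
  have x2 : x * x * w = w * (x * x) := by
    rw [mul_assoc, xw', ← mul_assoc, ← mul_assoc, xw']
    simp only [mul_assoc]
    rw [zc' x, zz']
  have alt : x * w * (x * w) = z * (x * x) := by
    have : w * x = x * w * z := by
      rw [xw', mul_assoc, mul_assoc, zc x, zz']
    rw [mul_assoc, ← mul_assoc w, this]
    simp only [mul_assoc]
    rw [zc' w, e, mul_one, zc x, zc' x]
  rcases cw _ x2 with a | a | a | a
  · have b : x * w * (x * w) = z := by rw [alt, a, mul_one]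
    exact ⟨x * w, b, gen _ (by rw [mul_assoc x, e, mul_one, ← mul_assoc, ← xw', mul_assoc, e, mul_one]) b⟩
  · exact ⟨x, a, gen x xw' a⟩
  · exact absurd (by rw [← a]; group) hx
  · refine absurd ?_ hx
    have : w = z * (x * x) := by rw [a, zz']
    rw [this, zc']; group

end

namespace St

variable {t : G} {D : Subgroup G} (H : St t D)
include H

omit [Finite G] in
theorem coc (a b : G) : t * (a * b * t * (a * b)⁻¹) = t * (a * t * a⁻¹) * (a * (t * (b * t * b⁻¹)) * a⁻¹) := by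
  simp [mul_assoc, H.ttx]

set_option maxHeartbeats 1600000 in
theorem dih (h1 : ∀ a ∈ D, ∀ b ∈ D, a ≠ 1 → a * a = 1 → b ≠ 1 → b * b = 1 →
      ∃ c ∈ centralizer ({t} : Set G), c * a * c⁻¹ = b)
    (h2 : ∀ a ∈ D, ∀ b ∈ D, KPair a b → ∀ d ∈ D, d * a = a * d → d * b = b * d → d ∈ closure {a, b})
    (h2' : ∀ a ∈ D, ∀ b ∈ D, KPair a b → ∃ c ∈ centralizer ({t} : Set G), c * a * c⁻¹ = b ∧ c * b * c⁻¹ = a * b)
    (h3 : ∃ a ∈ D, ∃ b ∈ D, KPair a b) (h4 : Nat.card D ≠ 4) : False := by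
  obtain ⟨r, rD, z1, zz, zc, rc⟩ := exists_r H.pD h2 h3 h4
  obtain ⟨z, hz⟩ : ∃ z, z = r * r := ⟨_, rfl⟩
  rw [← hz] at z1 zz zc rc
  have zD : z ∈ D := hz ▸ D.mul_mem rD rD
  have kp : ∀ u ∈ D, u * u = 1 → u ≠ 1 → u ≠ z → KPair z u := fun u hu a b c => ⟨zz, a, z1, b, c.symm, zc u hu⟩
  have nr : ∀ u ∈ D, u * u = 1 → u ≠ 1 → u ≠ z → r * u ≠ u * r := by
    intro u hu a b c e
    have K := kp u hu a b c
    rcases K.mem_closure_iff.1 (h2 z zD u hu K r rD (zc r rD) e) with f | f | f | f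
    · exact z1 (by rw [hz, f, mul_one])
    · exact z1 (by rw [hz, f, zz])
    · exact z1 (by rw [hz, f, a])
    · exact z1 (by rw [hz, f, mul_assoc, K.yxg, K.xxy, a])
  have nD : ∀ d ∈ D, ¬ IsConj t d := by
    intro d hd e
    obtain ⟨c, -, f⟩ := h1 d hd z zD (H.ne1 e) (H.inv2 e) z1 zz
    exact H.nsq (x := r) (by rw [← hz, ← f]; exact cj e c)
  have inD : ∀ x ∈ H.T, x * x = 1 → ¬ IsConj t x → IsConj t (t * z) → x ∈ D := by
    intro x hx xx nx tz
    rcases hx with a | a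
    · exact a
    exfalso
    by_cases e : t * x = 1
    · exact nx (by rw [← H.ttx x, e, mul_one])
    obtain ⟨c, hc, f⟩ := h1 z zD _ a z1 zz e (by rw [← mul_assoc, ← H.cD _ a, H.ttx, xx])
    apply nx
    have := cj tz c
    rwa [← mul_assoc, mc.1 hc, mul_assoc t, mul_assoc t, f, H.ttx] at this
  by_cases tz : IsConj t (t * z)
  swap
  · refine H.not_iso fun x hx e => ?_
    rcases hx with a | a
    · exact absurd e (nD x a)
    by_contra ne
    obtain ⟨c, hc, f⟩ := h1 _ a z zD (fun b => ne (by rw [← H.ttx x, b, mul_one]))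
      (by rw [← mul_assoc, ← H.cD _ a, H.ttx, H.inv2 e]) z1 zz
    apply tz
    have := cj e c
    rwa [← H.ttx x, ← mul_assoc, mc.1 hc, mul_assoc t, mul_assoc t, f] at this
  -- counting
  have n1 : nn t H.T = cn (fun d => d ∈ D ∧ d * d = 1) := by
    refine cn_bij (fun x => t * x) (fun x hx => ?_) (fun x y _ _ e => mul_left_cancel e) fun y hy => ?_
    · have a := (H.mT.1 hx.2).resolve_left fun a => nD x a hx.1
      exact ⟨a, by rw [← mul_assoc, ← H.cD _ a, H.ttx, H.inv2 hx.1]⟩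
    · have m : t * y ∈ H.T := H.T.mul_mem H.tT (H.DT hy.1)
      refine ⟨t * y, ⟨?_, m⟩, H.ttx y⟩
      by_contra e
      have := inD _ m (by rw [mul_assoc, ← mul_assoc y, ← H.cD _ hy.1, mul_assoc, H.ttx, hy.2]) e tz
      exact H.t1 (by simpa using D.mul_mem this (D.inv_mem hy.1))
  have r4 : r ^ 4 = 1 := by rw [← zz, hz]; simp [pow_succ, mul_assoc]
  have o4 : orderOf r = 4 := by
    refine orderOf_eq_prime_pow (p := 2) (n := 1) (by rw [pow_one, pow_two, ← hz]; exact z1) r4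
  have n2 : 4 ∣ cn (fun d => d ∈ D ∧ d * d = 1 ∧ d ≠ 1 ∧ d ≠ z) := by
    rw [← o4, ← Nat.card_zpowers]
    apply cn_dvd
    have step : ∀ x, (x ∈ D ∧ x * x = 1 ∧ x ≠ 1 ∧ x ≠ z) → (x * r ∈ D ∧ x * r * (x * r) = 1 ∧ x * r ≠ 1 ∧ x * r ≠ z) := by
      rintro x ⟨a, b, c, d⟩
      have e := (rc x a).resolve_left fun e => nr x a b c d (mul_inv_eq_iff_eq_mul.1 e).symm
      rw [inv_eq_of_mul_eq_one_right b] at e
      refine ⟨D.mul_mem a rD, by rw [← mul_assoc, e, mul_assoc, ← zc r rD, ← mul_assoc, ← hz, zz], fun f => ?_, fun f => ?_⟩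
      · exact nr x a b c d (by rw [f, eq_inv_of_mul_eq_one_left f, mul_inv_cancel])
      · rw [hz] at f
        exact nr x a b c d (by rw [mul_right_cancel f])
    intro x p hp hx
    obtain ⟨k, rfl⟩ := mem_powers_iff_mem_zpowers.2 hp
    induction k with
    | zero => simpa using hx
    | succ k ih =>
      simp only at ih ⊢
      rw [pow_succ, ← mul_assoc]; exact step _ (ih (npow_mem_zpowers r k))
  have n3 : cn (fun d => d ∈ D ∧ d * d = 1) = cn (fun d => d ∈ D ∧ d * d = 1 ∧ d ≠ 1 ∧ d ≠ z) + 2 := by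
    rw [← Set.ncard_pair z1.symm]
    refine (cn_congr fun x => ?_).trans (cn_or _ (fun d => d ∈ ({1, z} : Set G)) fun x a b => by
      rcases b with b | b
      exacts [a.2.2.1 b, a.2.2.2 b])
    simp only [Set.mem_insert_iff, Set.mem_singleton_iff]
    constructor
    · intro a
      by_cases b : x = 1
      · exact .inr (.inl b)
      by_cases c : x = z
      · exact .inr (.inr c)
      exact .inl ⟨a.1, a.2, b, c⟩
    · rintro (a | rfl | rfl)
      exacts [⟨a.1, a.2.1⟩, ⟨D.one_mem, mul_one _⟩, ⟨zD, zz⟩]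
  obtain ⟨m, hm, ix⟩ := H.idx
  have ix : H.T.index % 4 = 2 := by
    obtain ⟨k, hk⟩ := n2
    rw [ix, n1, n3, hk, add_mul, mul_assoc]; omega
  obtain ⟨S, hS⟩ := H.pT.exists_le_sylow
  have i2 : (H.T.subgroupOf S).index = 2 := by
    have a := relIndex_mul_index hS
    have b := S.not_dvd_index
    obtain ⟨k, hk⟩ := S.isPGroup'.index (H.T.subgroupOf S)
    rw [relIndex, hk] at a
    rw [hk]
    rcases k with _ | _ | k
    · omega
    · rfl
    · have : 4 ∣ H.T.index := ⟨2 ^ k * (S : Subgroup G).index, by rw [← a]; ring⟩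
      omega
  have mm : ∀ x ∈ (S : Subgroup G), ∀ y ∈ (S : Subgroup G), (x * y ∈ H.T ↔ (x ∈ H.T ↔ y ∈ H.T)) :=
    fun x hx y hy => mul_mem_iff_of_index_two i2 (a := ⟨x, hx⟩) (b := ⟨y, hy⟩)
  have cm : ∀ x ∈ (S : Subgroup G), ∀ y ∈ (S : Subgroup G), (x * y * x⁻¹ ∈ H.T ↔ y ∈ H.T) := by
    intro x hx y hy
    rw [mm _ (mul_mem hx hy) _ (inv_mem hx), mm x hx y hy, inv_mem_iff]
    by_cases a : x ∈ H.T <;> simp only [a, true_iff, iff_true, false_iff, iff_false, not_not]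
  obtain ⟨s, sS, sT⟩ : ∃ s ∈ (S : Subgroup G), s ∉ H.T := by
    by_contra! hc
    rw [subgroupOf_eq_top.2 hc, index_top] at i2; omega
  have st : s * t * s⁻¹ = t * z := by
    have a := (cm s sS t (hS H.tT)).2 H.tT
    have b := cj (IsConj.refl t) s
    have c := (H.mT.1 a).resolve_left fun a => nD _ a b
    by_contra ne
    refine nr _ c (by rw [← mul_assoc, ← H.cD _ c, H.ttx, H.inv2 b]) (fun e => sT ?_)
      (fun e => ne (by rw [← e, H.ttx])) ?_
    · refine H.maxT (Q := (S : Subgroup G) ⊓ centralizer {t}) (le_inf hS H.TC) inf_le_right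
        S.isPGroup'.to_inf_left ⟨sS, mc.2 ?_⟩
      rw [← mul_inv_eq_iff_eq_mul, ← H.ttx (s * t * s⁻¹), e, mul_one]
    · have := mc.1 (H.TC ((cm s⁻¹ (inv_mem sS) r (hS (H.DT rD))).2 (H.DT rD)))
      rw [← mul_assoc, ← H.cD r rD, mul_assoc, mul_assoc t]
      congr 1
      calc _ = s * (s⁻¹ * r * s⁻¹⁻¹ * t) * s⁻¹ := by group
        _ = _ := by rw [this]; group
  obtain ⟨u, uD, K⟩ : ∃ u ∈ D, KPair z u := by
    obtain ⟨a, ha, b, hb, K⟩ := h3
    by_cases e : a = z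
    · exact ⟨b, hb, e ▸ K⟩
    · exact ⟨a, ha, kp a ha K.xx K.x1 e⟩
  have cD' : ∀ y : G, ∀ d ∈ D, d * d = 1 → y * d * y⁻¹ ∈ H.T → y * d * y⁻¹ ∈ D := fun y d hd dd a =>
    inD _ a (by rw [conj_mul, dd]; simp) (fun e => nD d hd (cj' y e)) tz
  obtain ⟨c, hc, c1, c2⟩ := h2' z zD u uD K
  obtain ⟨c', hc', c1', c2'⟩ := h2' _ (cD' s⁻¹ z zD zz ((cm _ (inv_mem sS) _ (hS (H.DT zD))).2 (H.DT zD)))
    _ (cD' s⁻¹ u uD K.yy ((cm _ (inv_mem sS) _ (hS (H.DT uD))).2 (H.DT uD))) (K.conj s⁻¹)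
  let V := closure ({z, u} : Set G)
  have zV : z ∈ V := subset_closure (by simp)
  have uV : u ∈ V := subset_closure (by simp)
  have cV : ∀ g, g * z = z * g → g * u = u * g → ∀ v ∈ V, g * v = v * g := by
    intro g a b v hv
    rcases K.mem_closure_iff.1 hv with rfl | rfl | rfl | rfl
    exacts [by simp, a, b, by rw [← mul_assoc, a, mul_assoc, b, mul_assoc]]
  let N : Subgroup G :=
    { carrier := {g | g * z = z * g ∧ g * u = u * g ∧ t * (g * t * g⁻¹) ∈ V}
      one_mem' := by simp [H.tt]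
      mul_mem' := by
        rintro a b ⟨a1, a2, a3⟩ ⟨b1, b2, b3⟩
        refine ⟨by rw [mul_assoc, b1, ← mul_assoc, a1, mul_assoc], by rw [mul_assoc, b2, ← mul_assoc, a2, mul_assoc], ?_⟩
        rw [H.coc, cV a a1 a2 _ b3, mul_inv_cancel_right]
        exact mul_mem a3 b3
      inv_mem' := by
        rintro a ⟨a1, a2, a3⟩
        refine ⟨(show Commute a z from a1).inv_left.eq, (show Commute a u from a2).inv_left.eq, ?_⟩
        have := (show Commute a _ from cV a a1 a2 _ a3).inv_left.eq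
        have e : t * (a⁻¹ * t * a⁻¹⁻¹) = (a⁻¹ * (t * (a * t * a⁻¹)) * a)⁻¹ := by
          simp [mul_assoc, H.ti]
        rw [e, this, inv_mul_cancel_right]
        exact inv_mem a3 }
  let φ : N →* V := MonoidHom.mk' (fun g => ⟨t * (g * t * g⁻¹), g.2.2.2⟩) fun a b => Subtype.ext (by
    show t * ((a : G) * b * t * ((a : G) * b)⁻¹) = t * (a * t * (a : G)⁻¹) * (t * (b * t * (b : G)⁻¹))
    rw [H.coc, cV a a.2.1 a.2.2.1 _ b.2.2.2, mul_inv_cancel_right])
  have pV : IsPGroup 2 V := IsPGroup.of_card (n := 2) K.card_closure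
  have tN : t ∈ N := ⟨H.cD z zD, H.cD u uD, by simp [H.tt]⟩
  have ct : c * t * c⁻¹ = t := by rw [mc.1 hc]; group
  have e1 : (s * c' * s⁻¹) * z * (s * c' * s⁻¹)⁻¹ = u := by
    calc _ = s * (c' * (s⁻¹ * z * s⁻¹⁻¹) * c'⁻¹) * s⁻¹ := by group
      _ = u := by rw [c1']; group
  have e2 : (s * c' * s⁻¹) * u * (s * c' * s⁻¹)⁻¹ = z * u := by
    calc _ = s * (c' * (s⁻¹ * u * s⁻¹⁻¹) * c'⁻¹) * s⁻¹ := by group
      _ = _ := by rw [c2']; group
  have e3 : (s * c' * s⁻¹) * (t * z) * (s * c' * s⁻¹)⁻¹ = t * z := by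
    rw [← st]
    calc _ = s * (c' * t) * c'⁻¹ * s⁻¹ := by group
      _ = _ := by rw [mc.1 hc']; group
  generalize s * c' * s⁻¹ = k at e1 e2 e3
  have e4 : k * t * k⁻¹ = t * (z * u) := by
    calc _ = (k * (t * z) * k⁻¹) * (k * z * k⁻¹) := by rw [conj_mul, mul_assoc t, zz, mul_one]
      _ = _ := by rw [e3, e1, mul_assoc]
  have g1 : k * c⁻¹ ∈ N ∧ t * (k * c⁻¹ * t * (k * c⁻¹)⁻¹) = z * u := by
    have a : k * c⁻¹ * u * (k * c⁻¹)⁻¹ = u := by
      calc _ = k * c⁻¹ * (c * z * c⁻¹) * (k * c⁻¹)⁻¹ := by rw [c1]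
        _ = k * z * k⁻¹ := by group
        _ = u := e1
    have b : k * c⁻¹ * (z * u) * (k * c⁻¹)⁻¹ = z * u := by
      calc _ = k * c⁻¹ * (c * u * c⁻¹) * (k * c⁻¹)⁻¹ := by rw [c2]
        _ = k * u * k⁻¹ := by group
        _ = _ := e2
    have d : t * (k * c⁻¹ * t * (k * c⁻¹)⁻¹) = z * u := by
      calc _ = t * (k * c⁻¹ * (c * t * c⁻¹) * (k * c⁻¹)⁻¹) := by rw [ct]
        _ = t * (k * t * k⁻¹) := by group
        _ = _ := by rw [e4, H.ttx]
    rw [← conj_mul, a] at b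
    exact ⟨⟨mul_inv_eq_iff_eq_mul.1 (mul_right_cancel b), mul_inv_eq_iff_eq_mul.1 a, d ▸ mul_mem zV uV⟩, d⟩
  obtain ⟨gN, gv⟩ := g1
  generalize k * c⁻¹ = g at gN gv
  have g2 : c⁻¹ * g * c ∈ N ∧ t * (c⁻¹ * g * c * t * (c⁻¹ * g * c)⁻¹) = u := by
    have d : t * (c⁻¹ * g * c * t * (c⁻¹ * g * c)⁻¹) = u := by
      calc _ = c⁻¹ * ((c * t * c⁻¹) * (g * (c * t * c⁻¹) * g⁻¹)) * c := by group
        _ = _ := by rw [ct, gv, ← c2]; group
    refine ⟨⟨?_, ?_, d ▸ uV⟩, d⟩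
    · calc _ = c⁻¹ * (g * (c * z * c⁻¹)) * c := by group
        _ = c⁻¹ * ((c * z * c⁻¹) * g) * c := by rw [c1, gN.2.1]
        _ = _ := by group
    · calc _ = c⁻¹ * (g * (c * u * c⁻¹)) * c := by group
        _ = c⁻¹ * ((c * u * c⁻¹) * g) * c := by rw [c2, cV g gN.1 gN.2.1 _ (mul_mem zV uV)]
        _ = _ := by group
  obtain ⟨Q, hQ⟩ := (pz (x := (⟨t, tN⟩ : N)) (k := 1) (Subtype.ext (by simp [pow_two, H.tt]))).exists_le_sylow
  obtain ⟨a, aQ, ha⟩ := syl_onto φ pV Q ⟨_, gN⟩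
  obtain ⟨b, bQ, hb⟩ := syl_onto φ pV Q ⟨_, g2.1⟩
  replace ha : t * ((a : G) * t * (a : G)⁻¹) = z * u := (congrArg Subtype.val ha).trans gv
  replace hb : t * ((b : G) * t * (b : G)⁻¹) = u := (congrArg Subtype.val hb).trans g2.2
  obtain ⟨y, -, hy⟩ := syl (K := ⊤) (P := S) (Q := (Q : Subgroup N).map N.subtype) le_top le_top S.isPGroup'
    (Q.isPGroup'.map _) (m := (S : Subgroup G).index) (by have := S.not_dvd_index; omega)
    (by rw [card_top, card_mul_index])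
  replace hy : ∀ x ∈ (Q : Subgroup N), y * x * y⁻¹ ∈ (S : Subgroup G) := fun x hx => hy _ ⟨x, hx, rfl⟩
  have tQ : (⟨t, tN⟩ : N) ∈ (Q : Subgroup N) := hQ (mem_zpowers _)
  have vT : ∀ x ∈ (Q : Subgroup N), y * (t * (x * t * (x : G)⁻¹)) * y⁻¹ ∈ H.T := by
    intro x hx
    have := cm _ (hy x hx) _ (hy _ tQ)
    have e : y * (t * (x * t * (x : G)⁻¹)) * y⁻¹ = (y * t * y⁻¹) * ((y * x * y⁻¹) * (y * t * y⁻¹) * (y * x * y⁻¹)⁻¹) := by
      group
    rw [e, mm _ (hy _ tQ) _ (mul_mem (mul_mem (hy x hx) (hy _ tQ)) (inv_mem (hy x hx)))]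
    exact this.symm
  have uD' : y * u * y⁻¹ ∈ D := cD' y u uD K.yy (hb ▸ vT b bQ)
  have zD' : y * z * y⁻¹ ∈ D := by
    have := cD' y _ (mul_mem zD uD) (by rw [mul_assoc, K.yxg, K.xxy, K.yy]) (ha ▸ vT a aQ)
    rw [← conj_mul] at this
    exact (mul_mem_cancel_right uD').1 this
  have LB : ∀ x : G, x * z = z * x → x * u = u * x → y * x * y⁻¹ ∈ D → x * t = t * x := by
    intro x x1 x2 hx
    have := h2 _ zD' _ uD' (K.conj y) _ hx (by rw [conj_mul, conj_mul, x1]) (by rw [conj_mul, conj_mul, x2])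
    refine (cV t tN.1 tN.2.1 x (K.mem_closure_iff.2 ?_)).symm
    rw [(K.conj y).mem_closure_iff, conj_mul] at this
    simpa using this
  have nc : ∀ x : N, (x : G) * t = t * x → φ x = 1 := fun x hx => Subtype.ext (by
    show t * ((x : G) * t * (x : G)⁻¹) = 1
    rw [hx, mul_inv_cancel_right, H.tt])
  have fa : φ a = ⟨z * u, mul_mem zV uV⟩ := Subtype.ext ha
  have fb : φ b = ⟨u, uV⟩ := Subtype.ext hb
  have ft : φ ⟨t, tN⟩ = 1 := nc _ rfl
  have fin : ∀ a' b' : N, φ a' = φ a → φ b' = φ b →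
      (a' : G) * t = t * a' ∨ (b' : G) * t = t * b' ∨ ((a' * b' : N) : G) * t = t * (a' * b' : N) → False := by
    rintro a' b' p q (e | e | e)
    · exact K.xy1 (congrArg Subtype.val (fa.symm.trans (p.symm.trans (nc _ e))))
    · exact K.y1 (congrArg Subtype.val (fb.symm.trans (q.symm.trans (nc _ e))))
    · have := congrArg Subtype.val (nc _ e)
      rw [map_mul, p, q, fa, fb] at this
      exact z1 (by simpa [mul_assoc, K.yy] using this)
  by_cases tT : y * t * y⁻¹ ∈ H.T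
  · have LA : ∀ x : N, y * x * y⁻¹ ∈ H.T → (x : G) * t = t * x := by
      rintro x (e | e)
      · exact LB x x.2.1 x.2.2.1 e
      have c0 : ∀ d : G, y * d * y⁻¹ ∈ D → y⁻¹ * t * y * d = d * (y⁻¹ * t * y) := fun d hd => by
        calc _ = y⁻¹ * (t * (y * d * y⁻¹)) * y := by group
          _ = _ := by rw [H.cD _ hd]; group
      have c3 : y⁻¹ * t * y * t = t * (y⁻¹ * t * y) := by
        calc _ = y⁻¹ * (t * (y * t * y⁻¹)) * y := by group
          _ = _ := by rw [← mc.1 (H.TC tT)]; group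
      have := LB (y⁻¹ * t * y * x) (by rw [mul_assoc _ _ z, x.2.1, ← mul_assoc, c0 z zD', mul_assoc])
        (by rw [mul_assoc _ _ u, x.2.2.1, ← mul_assoc, c0 u uD', mul_assoc]) (by convert e using 1; group)
      rw [← mul_assoc t, ← c3, mul_assoc, mul_assoc] at this
      exact mul_left_cancel (mul_left_cancel (mul_left_cancel (by simpa only [mul_assoc] using this)))
    refine fin a b rfl rfl ?_
    by_cases p : y * a * y⁻¹ ∈ H.T
    · exact .inl (LA a p)
    by_cases q : y * b * y⁻¹ ∈ H.T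
    · exact .inr (.inl (LA b q))
    refine .inr (.inr (LA _ ?_))
    rw [coe_mul, ← conj_mul, mm _ (hy a aQ) _ (hy b bQ)]
    exact iff_of_false p q
  · have ad : ∀ x ∈ (Q : Subgroup N), ∃ x' : N, φ x' = φ x ∧ y * x' * y⁻¹ ∈ H.T := by
      intro x hx
      by_cases p : y * x * y⁻¹ ∈ H.T
      · exact ⟨x, rfl, p⟩
      refine ⟨⟨t, tN⟩ * x, by rw [map_mul, ft, one_mul], ?_⟩
      rw [coe_mul, ← conj_mul, mm _ (hy _ tQ) _ (hy x hx)]
      exact iff_of_false tT p
    obtain ⟨a', p, p' | p'⟩ := ad a aQ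
    · exact fin a' b p rfl (.inl (LB _ a'.2.1 a'.2.2.1 p'))
    obtain ⟨b', q, q' | q'⟩ := ad b bQ
    · exact fin a b' rfl q (.inr (.inl (LB _ b'.2.1 b'.2.2.1 q')))
    refine fin a' b' p q (.inr (.inr (LB _ (a' * b').2.1 (a' * b').2.2.1 ?_)))
    have := D.mul_mem p' q'
    rwa [← mul_assoc, ← H.cD _ p', H.ttx, conj_mul] at this

end St

end H326.Jt
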