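import Cfsg.Agent.H26.Jt2

/-! The tower of generalized dihedral 2-subgroups over an elementary abelian `⟨t⟩ × D`: levels and the affine action. -/

set_option autoImplicit false

namespace H326.Jt

open H326.Yk Subgroup

variable {G : Type*} [Group G] [Finite G] {A : Type*} [AddCommGroup A] [Finite A]

/-- maps of `A` induced by `C(t)` -/
def Ind (t : G) (δ : A → G) (γ : A → A) : Prop :=
  ∃ k ∈ centralizer ({t} : Set G), ∀ a, k * δ a * k⁻¹ = δ (γ a)

structure Dl (t : G) (D : Subgroup G) (δ : A → G) : Prop where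
  add : ∀ a b, δ (a + b) = δ a * δ b
  inj : Function.Injective δ
  mem : ∀ d, d ∈ D ↔ ∃ a, δ a = d
  two : ∀ a : A, a + a = 0
  tr : ∀ a b : A, a ≠ 0 → b ≠ 0 → ∃ γ, Ind t δ γ ∧ γ a = b
  four : 4 ∣ Nat.card A

namespace Dl
variable {t : G} {D : Subgroup G} {δ : A → G} (L : Dl t D δ)
include L

omit [Finite G] [Finite A] in
theorem zero : δ 0 = 1 := by
  have := L.add 0 0
  rw [add_zero] at this
  exact left_eq_mul.1 this

omit [Finite G] [Finite A] in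
theorem mD (a : A) : δ a ∈ D := (L.mem _).2 ⟨a, rfl⟩

omit [Finite G] [Finite A] in
theorem sq {d : G} (h : d ∈ D) : d * d = 1 := by
  obtain ⟨a, rfl⟩ := (L.mem d).1 h
  rw [← L.add, L.two, L.zero]

omit [Finite G] [Finite A] in
theorem ne {a : A} (h : a ≠ 0) : δ a ≠ 1 := fun e => h (L.inj (e.trans L.zero.symm))

omit [Finite G] [Finite A] in
theorem card : Nat.card D = Nat.card A :=
  (Nat.card_congr (Equiv.ofBijective (fun a => (⟨δ a, L.mD a⟩ : D))
    ⟨fun a b e => L.inj (congrArg Subtype.val e), fun d => by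
      obtain ⟨a, e⟩ := (L.mem d).1 d.2
      exact ⟨a, Subtype.ext e⟩⟩)).symm

omit [Finite G] in
theorem nt : ∃ a : A, a ≠ 0 := by
  have := Nat.le_of_dvd Nat.card_pos L.four
  have : Nontrivial A := Finite.one_lt_card_iff_nontrivial.1 (by omega)
  exact exists_ne 0

omit [Finite G] [Finite A] in
theorem trD {a b : G} (ha : a ∈ D) (hb : b ∈ D) (a1 : a ≠ 1) (b1 : b ≠ 1) :
    ∃ k ∈ centralizer ({t} : Set G), (∀ d ∈ D, k * d * k⁻¹ ∈ D) ∧ k * a * k⁻¹ = b := by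
  obtain ⟨a, rfl⟩ := (L.mem a).1 ha
  obtain ⟨b, rfl⟩ := (L.mem b).1 hb
  obtain ⟨γ, ⟨k, hk, e⟩, f⟩ := L.tr a b (by rintro rfl; exact a1 L.zero) (by rintro rfl; exact b1 L.zero)
  refine ⟨k, hk, fun d hd => ?_, by rw [e, f]⟩
  obtain ⟨d, rfl⟩ := (L.mem d).1 hd
  rw [e]; exact L.mD _

end Dl

structure Lv {t : G} {D : Subgroup G} (H : St t D) (δ : A → G) (R : Subgroup G) : Prop where
  nD : ∀ d ∈ D, ¬ IsConj t d
  pR : IsPGroup 2 R
  TR : H.T ≤ R
  half : ∀ s ∈ R, IsConj t s ∨ IsConj t (t * s)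
  gam : ∀ γ, Ind t δ γ → ∃ k ∈ centralizer ({t} : Set G), k ∈ normalizer (R : Set G) ∧ ∀ a, k * δ a * k⁻¹ = δ (γ a)

theorem St.pf {t : G} {D : Subgroup G} (H : St t D) (nD : ∀ d ∈ D, ¬ IsConj t d) {a b : G} (ha : IsConj t a)
    (hb : IsConj t b) : ¬ IsConj t (a * b) := by
  intro hab
  obtain ⟨g, rfl⟩ := isConj_iff.1 ha
  have h1 := cj hb g⁻¹
  have h2 := cj hab g⁻¹
  rw [← conj_mul, show g⁻¹ * (g * t * g⁻¹) * g⁻¹⁻¹ = t by group] at h2
  generalize g⁻¹ * b * g⁻¹⁻¹ = y at h1 h2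
  have c : y * t = t * y := by
    have := H.inv2 h2
    calc y * t = t * (t * y * (t * y)) * y := by simp [mul_assoc, H.ttx, H.inv2 h1]
      _ = t * y := by rw [this, mul_one]
  obtain ⟨k, hk, h⟩ := H.sylT (Q := zpowers y) (by rw [zpowers_le, mc, c])
    (pz (k := 1) (by rw [pow_one, pow_two, H.inv2 h1]))
  rcases h y (mem_zpowers y) with e | e
  · exact nD _ e (cj h1 k)
  · refine nD _ e ?_
    have := cj h2 k
    rwa [← mul_assoc, mc.1 hk, mul_assoc t, mul_assoc t] at this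

namespace Lv
variable {t : G} {D : Subgroup G} {H : St t D} {δ : A → G} {R : Subgroup G} (V : Lv H δ R)
include V

/-- the abelian subgroup of index two -/
def E : Subgroup G where
  carrier := {x | x ∈ R ∧ ¬ IsConj t x}
  one_mem' := ⟨R.one_mem, fun h => H.ne1 h rfl⟩
  mul_mem' := by
    rintro a b ⟨a1, a2⟩ ⟨b1, b2⟩
    refine ⟨R.mul_mem a1 b1, ?_⟩
    have := H.pf V.nD (cj ((V.half a a1).resolve_left a2) t) ((V.half b b1).resolve_left b2)
    rwa [H.ttx, H.ti, mul_assoc, H.ttx] at this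
  inv_mem' := by
    rintro a ⟨a1, a2⟩
    refine ⟨R.inv_mem a1, fun h => a2 ?_⟩
    have := H.inv2 h
    rwa [eq_inv_of_mul_eq_one_left this, inv_inv] at h

omit [Finite A] in
theorem mE {x : G} : x ∈ V.E ↔ x ∈ R ∧ ¬ IsConj t x := Iff.rfl
omit [Finite A] in
theorem ER : V.E ≤ R := fun _ h => h.1
omit [Finite A] [Finite G] in
theorem tR : t ∈ R := V.TR H.tT
omit [Finite A] in
theorem tE : t ∉ V.E := fun h => h.2 (IsConj.refl t)
omit [Finite A] in
theorem DE : D ≤ V.E := fun d h => ⟨V.TR (H.DT h), V.nD d h⟩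
omit [Finite A] in
theorem cE {x : G} (h : x ∈ V.E) : IsConj t (t * x) := (V.half x h.1).resolve_left h.2
omit [Finite A] in
theorem two {a b : G} (ha : a ∈ R) (hb : b ∈ R) (a1 : IsConj t a) (b1 : IsConj t b) : a * b ∈ V.E :=
  ⟨R.mul_mem ha hb, H.pf V.nD a1 b1⟩
omit [Finite A] in
theorem RE {s : G} (h : s ∈ R) : s ∈ V.E ∨ t * s ∈ V.E := by
  by_cases a : IsConj t s
  · exact .inr (V.two V.tR h (IsConj.refl t) a)
  · exact .inl ⟨h, a⟩
omit [Finite A] in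
theorem cR : Nat.card R = 2 * Nat.card V.E := card_two V.ER V.tR V.tE fun _ => V.RE
omit [Finite A] in
theorem inv {x : G} (h : x ∈ V.E) : t * x * t = x⁻¹ :=
  eq_inv_of_mul_eq_one_left (by rw [mul_assoc]; exact H.inv2 (V.cE h))
omit [Finite A] in
theorem comm {x y : G} (hx : x ∈ V.E) (hy : y ∈ V.E) : x * y = y * x := by
  apply inv_injective
  rw [← V.inv (mul_mem hx hy), mul_inv_rev, ← V.inv hx, ← V.inv hy]
  simp [mul_assoc, H.ttx]
omit [Finite A] in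
theorem om {x : G} (h : x ∈ V.E) (xx : x * x = 1) : x ∈ D := by
  have c : x * t = t * x := by
    have := V.inv h
    rw [inv_eq_of_mul_eq_one_right xx, mul_assoc] at this
    rw [← H.ttx (x * t), this]
  exact (H.mT.1 (H.maxT (Q := R ⊓ centralizer {t}) (le_inf V.TR H.TC) inf_le_right V.pR.to_inf_left
    ⟨h.1, mc.2 c⟩)).resolve_right fun e => V.nD _ e (V.cE h)
omit [Finite A] in
theorem nE {g x : G} (hg : g ∈ normalizer (R : Set G)) (h : x ∈ V.E) : g * x * g⁻¹ ∈ V.E :=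
  ⟨(mem_normalizer_iff.1 hg x).1 h.1, fun e => h.2 (cj' g e)⟩
omit [Finite A] in
theorem sqE {s : G} (h : s * s ∈ R) : s * s ∈ V.E := ⟨h, H.nsq⟩
omit [Finite A] in
theorem vE {g : G} (hg : g ∈ normalizer (R : Set G)) : t * (g * t * g⁻¹) ∈ V.E :=
  V.two V.tR ((mem_normalizer_iff.1 hg t).1 V.tR) (IsConj.refl t) (cj (IsConj.refl t) g)
omit [Finite A] in
theorem RD {s d : G} (hs : s ∈ R) (hd : d ∈ D) : s * d = d * s := by
  rcases V.RE hs with a | a
  · exact V.comm a (V.DE hd)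
  · rw [← H.ttx s, mul_assoc, V.comm a (V.DE hd), ← mul_assoc, H.cD d hd, mul_assoc]

variable (L : Dl t D δ)
include L

omit [Finite A] in
theorem nDD {g x : G} (hg : g ∈ normalizer (R : Set G)) (h : x ∈ D) : g * x * g⁻¹ ∈ D :=
  V.om (V.nE hg (V.DE h)) (by rw [conj_mul, L.sq h]; simp)

theorem exists_p : ∃ k : ℕ, (∀ x ∈ V.E, x ^ 2 ^ k ∈ D) ∧ ∀ x ∈ V.E, x ^ 2 ^ k = 1 ↔ ∃ y ∈ V.E, y * y = x := by
  classical
  have ex : ∃ k : ℕ, ∀ x ∈ V.E, x ^ 2 ^ (k + 1) = 1 := by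
    obtain ⟨k, hk⟩ := IsPGroup.iff_card.1 V.pR
    refine ⟨k, fun x hx => ?_⟩
    have := congrArg Subtype.val (pow_card_eq_one' (x := (⟨x, hx.1⟩ : R)))
    rw [hk] at this
    rw [pow_succ, pow_mul, show x ^ 2 ^ k = 1 from this, one_pow]
  let k := Nat.find ex
  have k1 : ∀ x ∈ V.E, x ^ 2 ^ (k + 1) = 1 := Nat.find_spec ex
  obtain ⟨x0, h0, n0⟩ : ∃ x ∈ V.E, x ^ 2 ^ k ≠ 1 := by
    by_cases e : k = 0
    · obtain ⟨a, ha⟩ := L.nt
      exact ⟨δ a, V.DE (L.mD a), by rw [e]; simpa using L.ne ha⟩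
    · have := Nat.find_min ex (m := k - 1) (by omega)
      rw [show k - 1 + 1 = k by omega] at this
      push Not at this
      exact this
  have pD : ∀ x ∈ V.E, x ^ 2 ^ k ∈ D := fun x hx =>
    V.om (pow_mem hx _) (by rw [← pow_two, ← pow_mul, ← pow_succ, k1 x hx])
  have on : ∀ d ∈ D, ∃ x ∈ V.E, x ^ 2 ^ k = d := by
    intro d hd
    by_cases e : d = 1
    · exact ⟨1, one_mem _, by rw [e, one_pow]⟩
    obtain ⟨a, ha⟩ := (L.mem _).1 (pD x0 h0)
    obtain ⟨b, rfl⟩ := (L.mem _).1 hd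
    obtain ⟨γ, g1, g2⟩ := L.tr a b (by rintro rfl; exact n0 (ha.symm.trans L.zero)) (by rintro rfl; exact e L.zero)
    obtain ⟨c, -, c2, c3⟩ := V.gam γ g1
    exact ⟨_, V.nE c2 h0, by rw [conj_pow, ← ha, c3, g2]⟩
  have cm : ∀ x ∈ V.E, ∀ y ∈ V.E, Commute x y := fun x hx y hy => V.comm hx hy
  have c1 : cn (fun x => x ∈ V.E) = cn (fun x => ∃ y ∈ V.E, y * y = x) * Nat.card D := by
    refine cn_fib _ _ (fun x => x * x) _ (fun x hx => ⟨x, hx, rfl⟩) ?_
    rintro _ ⟨y, hy, rfl⟩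
    refine cn_coset D y _ fun x => ⟨fun a => V.om (mul_mem (inv_mem hy) a.1) ?_, fun a => ?_⟩
    · rw [← pow_two, (cm _ (inv_mem hy) _ a.1).mul_pow, pow_two x, a.2, inv_pow, pow_two, inv_mul_cancel]
    · have hx : x ∈ V.E := by simpa using mul_mem hy (V.DE a)
      refine ⟨hx, ?_⟩
      have := L.sq a
      rw [← pow_two, (cm _ (inv_mem hy) _ hx).mul_pow, inv_pow, inv_mul_eq_one, pow_two, pow_two] at this
      exact this.symm
  have c2 : cn (fun x => x ∈ V.E) = cn (fun x => x ∈ D) * cn (fun x => x ∈ V.E ∧ x ^ 2 ^ k = 1) := by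
    refine cn_fib _ _ (fun x => x ^ 2 ^ k) _ pD fun d hd => ?_
    obtain ⟨y, hy, rfl⟩ := on d hd
    refine cn_bij (fun x => y⁻¹ * x) (fun x a => ⟨mul_mem (inv_mem hy) a.1, ?_⟩) (fun _ _ _ _ e => mul_left_cancel e)
      fun x a => ⟨y * x, ⟨mul_mem hy a.1, ?_⟩, by simp⟩
    · rw [(cm _ (inv_mem hy) _ a.1).mul_pow, a.2, inv_pow, inv_mul_cancel]
    · rw [(cm _ hy _ a.1).mul_pow, a.2, mul_one]
  rw [c1, cn_mem, mul_comm] at c2
  have := Set.eq_of_subset_of_ncard_le (s := {x | ∃ y ∈ V.E, y * y = x}) (t := {x | x ∈ V.E ∧ x ^ 2 ^ k = 1})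
    (by rintro _ ⟨y, hy, rfl⟩
        exact ⟨mul_mem hy hy, by rw [← pow_two, ← pow_mul, ← pow_succ', k1 y hy]⟩)
    (Nat.eq_of_mul_eq_mul_left Nat.card_pos c2).ge
  refine ⟨k, pD, fun x hx => ⟨fun a => ?_, fun a => ?_⟩⟩
  · exact (this.ge ⟨hx, a⟩ :)
  · exact (this.le a).2

theorem exists_alpha : ∃ α : normalizer (R : Set G) →* Equiv.Perm A,
    (∀ g a, δ (α g a) = δ (α g 0) * (g * δ a * (g : G)⁻¹)) ∧
    ∀ g, α g 0 = 0 ↔ ∃ x ∈ V.E, x * g ∈ centralizer ({t} : Set G) := by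
  obtain ⟨k, p1, p2⟩ := V.exists_p L
  have ex : ∀ (g : normalizer (R : Set G)) (a : A), ∃ b, δ b = (t * (g * t * (g : G)⁻¹)) ^ 2 ^ k * (g * δ a * (g : G)⁻¹) :=
    fun g a => (L.mem _).1 (mul_mem (p1 _ (V.vE g.2)) (V.nDD L g.2 (L.mD a)))
  choose f hf using ex
  letI : MulAction (normalizer (R : Set G)) A :=
    { smul := f
      one_smul := fun a => L.inj (by
        show δ (f 1 a) = _
        rw [hf]; simp [H.tt])
      mul_smul := fun g h a => L.inj (by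
        show δ (f (g * h) a) = δ (f g (f h a))
        rw [hf, hf, hf, coe_mul, H.coc,
          (show Commute _ _ from V.comm (V.vE g.2) (V.nE g.2 (V.vE h.2))).mul_pow, conj_pow]
        group) }
  have h0 : ∀ g, δ (f g 0) = (t * (g * t * (g : G)⁻¹)) ^ 2 ^ k := fun g => by rw [hf, L.zero]; simp
  refine ⟨MulAction.toPermHom _ A, fun g a => ?_, fun g => ?_⟩
  · show δ (f g a) = δ (f g 0) * _
    rw [hf, h0]
  · show f g 0 = 0 ↔ _
    rw [← L.inj.eq_iff, h0, L.zero, p2 _ (V.vE g.2)]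
    refine exists_congr fun x => and_congr_right fun hx => ?_
    have e : x * t = t * x⁻¹ := by rw [← V.inv hx, mul_assoc, H.ttx]
    rw [mc]
    constructor
    · intro a
      calc x * g * t = x * t * (t * (g * t * (g : G)⁻¹)) * g := by simp [mul_assoc, H.ttx]
        _ = _ := by rw [← a, e]; group
    · intro a
      calc x * x = t * (x⁻¹ * t * x) := by rw [← V.inv hx]; simp [mul_assoc, H.ttx, H.tt]
        _ = t * (x⁻¹ * (t * (x * g)) * (g : G)⁻¹) := by group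
        _ = _ := by rw [← a]; group

end Lv

end H326.Jt
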