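import Cfsg.Agent.H26.Jt3

/-! The tower argument: the case `t^G ∩ T = tD` is impossible. -/

set_option autoImplicit false

namespace H326.Jt

open H326.Yk Subgroup

variable {G : Type*} [Group G] [Finite G] {A : Type*} [AddCommGroup A] [Finite A]

/-- structure of the affine groups without translations -/
def Exc (t : G) (δ : A → G) : Prop :=
  ∀ X : Subgroup (Equiv.Perm A), (∀ g ∈ X, ∀ a b, g (a + b) = g a + g b + g 0) →
    (∀ γ, Ind t δ γ → ∃ k ∈ X, ∀ a, k a = γ a) → (∀ g ∈ X, g 0 = 0 → Ind t δ g) →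
    (∀ g ∈ X, g 0 = 0 → g * g = 1 → g = 1) → (∃ g ∈ X, g 0 ≠ 0) →
    (∀ g ∈ X, (∀ a, g a = a + g 0) → g = 1) →
    (∀ i ∈ X, ∀ j ∈ X, i ≠ 1 → i * i = 1 → j ≠ 1 → j * j = 1 → ∃ g ∈ X, g * i * g⁻¹ = j) ∧
    ∀ Y ≤ X, IsPGroup 2 Y → ∀ y ∈ Y, y * y * (y * y) = 1 ∧
      ∀ y' ∈ Y, y * y ≠ 1 → y' * y' ≠ 1 → y' = y ∨ y' = y⁻¹

theorem exists_odd_pow (g : G) : ∃ m k : ℕ, m % 2 = 1 ∧ (g ^ m) ^ 2 ^ k = 1 := by
  obtain ⟨k, m, hm, e⟩ := Nat.exists_eq_pow_mul_and_not_dvd (orderOf_pos g).ne' 2 (by norm_num)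
  exact ⟨m, k, by omega, by rw [← pow_mul, mul_comm, ← e, pow_orderOf_eq_one]⟩

theorem odd_pow {M : Type*} [Group M] {x : M} (h : x * x = 1) {m : ℕ} (hm : m % 2 = 1) : x ^ m = x := by
  rw [← Nat.div_add_mod m 2, hm, pow_succ, pow_mul, pow_two, h, one_pow, one_mul]

theorem norm_of {S : Subgroup G} {x : G} (h : ∀ n ∈ S, x * n * x⁻¹ ∈ S) : x ∈ normalizer (S : Set G) :=
  mem_normalizer_fintype (S := (S : Set G)) h

/-- Sylow subgroup of a subgroup -/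
theorem exists_syl (K : Subgroup G) : ∃ Q : Sylow 2 K, ∃ S : Subgroup G, (∀ x : K, (x : G) ∈ S ↔ x ∈ (Q : Subgroup K)) ∧
    S ≤ K ∧ IsPGroup 2 S ∧ (∃ m, m % 2 = 1 ∧ Nat.card K = Nat.card S * m) ∧
    ∀ R ≤ K, IsPGroup 2 R → K ≤ normalizer (R : Set G) → R ≤ S := by
  obtain ⟨Q⟩ : Nonempty (Sylow 2 K) := inferInstance
  refine ⟨Q, (Q : Subgroup K).map K.subtype, fun x => ⟨?_, fun a => ⟨x, a, rfl⟩⟩, map_subtype_le _, Q.isPGroup'.map _,
    ⟨(Q : Subgroup K).index, by have := Q.not_dvd_index; omega, by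
      rw [card_map_of_injective K.subtype_injective, card_mul_index]⟩, fun R h1 h2 h3 x hx => ?_⟩
  · rintro ⟨y, hy, e⟩
    rwa [← show y = x from Subtype.ext e]
  · have : (R.comap K.subtype).Normal := ⟨fun n hn g => (mem_normalizer_iff.1 (h3 g.2) n).1 hn⟩
    exact ⟨⟨x, h1 hx⟩, (h2.comap_subtype (K := K)).le_sylow_of_normal Q hx, rfl⟩

theorem syl_trans {K B : Type*} [Group K] [Finite K] [Finite B] (α : K →* Equiv.Perm B) (o : B)
    (h : ∀ a, ∃ g, α g o = a) {k : ℕ} (hk : Nat.card B = 2 ^ k) (Q : Sylow 2 K) (a : B) :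
    ∃ s ∈ (Q : Subgroup K), α s o = a := by
  letI : MulAction K B := MulAction.compHom B α
  have e1 : (MulAction.stabilizer K o).index = 2 ^ k := by
    rw [MulAction.index_stabilizer, ← hk, show MulAction.orbit K o = Set.univ from Set.eq_univ_of_forall h,
      Set.ncard_univ]
  have e2 := MulAction.index_stabilizer (Q : Subgroup K) o
  have e3 : (MulAction.stabilizer K o).index ∣ (MulAction.stabilizer (Q : Subgroup K) o).index * (Q : Subgroup K).index := by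
    have := relIndex_mul_index (inf_le_right : MulAction.stabilizer K o ⊓ (Q : Subgroup K) ≤ Q)
    rw [inf_relIndex_right] at this
    exact (index_dvd_of_le inf_le_left).trans (Dvd.intro_left 1 (by rw [one_mul, ← this]; rfl))
  rw [e1, e2] at e3
  have e4 := Nat.Coprime.dvd_of_dvd_mul_right (Nat.Coprime.pow_left _
    ((Nat.Prime.coprime_iff_not_dvd Nat.prime_two).2 Q.not_dvd_index)) e3
  have e5 := Nat.le_of_dvd ((Set.ncard_pos).2 ⟨o, MulAction.mem_orbit_self o⟩) e4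
  rw [← hk, ← Set.ncard_univ] at e5
  obtain ⟨s, hs⟩ := (Set.eq_of_subset_of_ncard_le (Set.subset_univ _) e5).ge (Set.mem_univ a)
  exact ⟨s, s.2, hs⟩

namespace Lv
variable {t : G} {D : Subgroup G} {H : St t D} {δ : A → G} {R : Subgroup G} (V : Lv H δ R) (L : Dl t D δ)
  {α : normalizer (R : Set G) →* Equiv.Perm A}
  (a1 : ∀ g a, δ (α g a) = δ (α g 0) * (g * δ a * (g : G)⁻¹))
  (a2 : ∀ g, α g 0 = 0 ↔ ∃ x ∈ V.E, x * g ∈ centralizer ({t} : Set G))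
include V L a1 a2

omit L a1 [Finite A] in
theorem s0 {Q : Subgroup G} (pQ : IsPGroup 2 Q) (hQ : R ≤ Q) (g : normalizer (R : Set G)) (hg : (g : G) ∈ Q)
    (h : α g 0 = 0) : (g : G) ∈ R := by
  obtain ⟨x, hx, c⟩ := (a2 g).1 h
  have := V.TR (H.maxT (Q := Q ⊓ centralizer {t}) (le_inf (V.TR.trans hQ) H.TC) inf_le_right pQ.to_inf_left
    ⟨mul_mem (hQ hx.1) hg, c⟩)
  exact (mul_mem_cancel_left hx.1).1 this

omit [Finite A] in
theorem s1 (g : normalizer (R : Set G)) (hg : (g : G) ∈ R) : α g = 1 := by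
  have : α g 0 = 0 := by
    rw [a2]
    rcases V.RE hg with a | a
    · exact ⟨_, inv_mem a, by simp⟩
    · refine ⟨_, a, mc.2 ?_⟩
      have := H.inv2 (V.cE a)
      rw [H.ttx] at this
      rw [mul_assoc t, this, mul_one]
  ext a
  apply L.inj
  rw [a1, this, L.zero, V.RD hg (L.mD a)]; simp

omit a2 [Finite A] in
theorem cen (g : normalizer (R : Set G)) (hg : ∀ d ∈ D, (g : G) * d = d * g) (a : A) : α g a = a + α g 0 := by
  apply L.inj
  rw [a1, hg _ (L.mD a), add_comm, L.add]; simp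

omit [Finite A] in
theorem ind {k : G} (hk : k ∈ centralizer ({t} : Set G)) (hk' : k ∈ normalizer (R : Set G)) {γ : A → A}
    (h : ∀ a, k * δ a * k⁻¹ = δ (γ a)) (a : A) : α ⟨k, hk'⟩ a = γ a := by
  apply L.inj
  rw [a1, (a2 _).2 ⟨1, one_mem _, by simpa using hk⟩, L.zero, one_mul, h]

section
variable {S : Subgroup G} (pS : IsPGroup 2 S) (RS : R ≤ S) (SN : S ≤ normalizer (R : Set G))
  (tr : ∀ a, ∃ s : normalizer (R : Set G), (s : G) ∈ S ∧ α s 0 = a)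
include pS RS SN tr

theorem cos (s s' : normalizer (R : Set G)) (hs : (s : G) ∈ S) (hs' : (s' : G) ∈ S) :
    α s 0 = α s' 0 ↔ (s : G)⁻¹ * s' ∈ R := by
  constructor
  · intro e
    refine V.s0 a2 pS RS (s⁻¹ * s') (mul_mem (inv_mem hs) hs') ?_
    rw [map_mul, map_inv, Equiv.Perm.mul_apply, ← e]; simp
  · intro e
    have := V.s1 L a1 a2 (s⁻¹ * s') e
    rw [map_mul, map_inv, inv_mul_eq_one] at this
    rw [this]

theorem c1 : Nat.card S = Nat.card A * Nat.card R := by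
  classical
  rw [← cn_mem, cn_fib (fun x => x ∈ S) (fun _ : A => True)
    (fun x => if h : x ∈ normalizer (R : Set G) then α ⟨x, h⟩ 0 else 0) (Nat.card R) (fun _ _ => trivial)]
  · congr 1
    unfold cn; simp
  intro a _
  obtain ⟨s, hs, rfl⟩ := tr a
  refine cn_coset R s _ fun x => ⟨fun b => ?_, fun b => ?_⟩
  · have := b.2
    rw [dif_pos (SN b.1)] at this
    exact (V.cos L a1 a2 pS RS SN tr s ⟨x, SN b.1⟩ hs b.1).1 this.symm
  · have hx : x ∈ S := by simpa using mul_mem hs (RS b)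
    refine ⟨hx, ?_⟩
    rw [dif_pos (SN hx)]
    exact ((V.cos L a1 a2 pS RS SN tr s ⟨x, SN hx⟩ hs hx).2 b).symm

theorem c2 {e : G} (he : IsConj t e) (h : ∀ s ∈ S, e⁻¹ * (s * e * s⁻¹) ∈ R) {x : G} (hx : x ∈ V.E) :
    IsConj t (e * x) := by
  have o := cn_orb e S (fun _ => True)
  simp only [and_true, true_and] at o
  have b := H.cardC he (Q := S ⊓ centralizer {e}) inf_le_right pS.to_inf_left
  rw [cn_mem, V.c1 L a1 a2 pS RS SN tr, V.cR, ← L.card] at o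
  have le : Nat.card V.E ≤ cn (fun d => ∃ g ∈ S, g * e * g⁻¹ = d) := by
    refine Nat.le_of_mul_le_mul_right ?_ (show 0 < 2 * Nat.card D by have := Nat.card_pos (α := D); omega)
    calc _ = Nat.card D * (2 * Nat.card V.E) := by ring
      _ = _ := o
      _ ≤ _ := Nat.mul_le_mul_left _ b
  rw [← cn_coset V.E e (fun d => e⁻¹ * d ∈ V.E) fun _ => Iff.rfl] at le
  have := Set.eq_of_subset_of_ncard_le (s := {d | ∃ g ∈ S, g * e * g⁻¹ = d}) (t := {d | e⁻¹ * d ∈ V.E}) (by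
    rintro _ ⟨g, hg, rfl⟩
    refine ⟨h g hg, ?_⟩
    rw [inv_eq_of_mul_eq_one_right (H.inv2 he)]
    exact H.pf V.nD he (cj he g)) le
  obtain ⟨g, -, f⟩ := this.ge (show e * x ∈ {d | e⁻¹ * d ∈ V.E} by simpa using hx)
  rw [← f]; exact cj he g

theorem c3 (h : ∀ s ∈ S, IsConj t s → s ∈ R) {E' : Subgroup G} (h1 : V.E ≤ E') (h2 : E' ≤ S) (h3 : t ∉ E')
    (h4 : ∀ s ∈ S, s * s ∈ E') : False := by
  have od : S.index % 2 = 1 := by
    refine odd_index pS fun Q pQ SQ QN g hg => ?_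
    have cD : ∀ x ∈ R, IsConj t x → g * x * g⁻¹ ∈ R := fun x hx a =>
      h _ ((mem_normalizer_iff.1 (QN hg) x).1 (RS hx)) (cj a g)
    have gN : g ∈ normalizer (R : Set G) := by
      refine norm_of fun x hx => ?_
      rcases V.half x hx with a | a
      · exact cD x hx a
      · rw [← H.ttx x, ← conj_mul]
        exact mul_mem (cD t V.tR (IsConj.refl t)) (cD _ (mul_mem V.tR hx) a)
    obtain ⟨s, hs, e⟩ := tr (α ⟨g, gN⟩ 0)
    have := V.s0 a2 pQ (RS.trans SQ) (s⁻¹ * ⟨g, gN⟩) (mul_mem (inv_mem (SQ hs)) hg) (by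
      rw [map_mul, map_inv, Equiv.Perm.mul_apply, ← e]; simp)
    exact (mul_mem_cancel_left (inv_mem hs)).1 (RS this)
  obtain ⟨M, m1, m2, m3, m4⟩ := mlem h2 h4 (RS V.tR) h3
  refine tr0 H.hno H.tt od (card_two m2 (RS V.tR) m3 m4) fun x hx a => m3 ?_
  exact (mul_mem_cancel_right hx).1 (m1 (h1 (V.two V.tR (h x (m2 hx) a) (IsConj.refl t) a)))

end

theorem transl (hm : ∀ S, Lv H δ S → R ≤ S → S ≤ R) (g : normalizer (R : Set G))
    (g1 : ∀ d ∈ D, (g : G) * d = d * g) (g2 : α g 0 ≠ 0) : False := by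
  let K : Subgroup G := normalizer (R : Set G) ⊓ centralizer D
  have mK : ∀ {x}, x ∈ K ↔ x ∈ normalizer (R : Set G) ∧ ∀ d ∈ D, x * d = d * x := by
    intro x
    simp only [K, mem_inf, mem_centralizer_iff, SetLike.mem_coe, eq_comm]
  have nK : ∀ k ∈ normalizer (R : Set G), ∀ x ∈ K, k * x * k⁻¹ ∈ K := by
    intro k hk x hx
    refine mK.2 ⟨mul_mem (mul_mem hk hx.1) (inv_mem hk), fun d hd => ?_⟩
    calc _ = k * (x * (k⁻¹ * d * k⁻¹⁻¹)) * k⁻¹ := by group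
      _ = _ := by rw [(mK.1 hx).2 _ (V.nDD L (inv_mem hk) hd)]; group
  have RK : R ≤ K := fun x hx => mK.2 ⟨le_normalizer hx, fun d hd => V.RD hx hd⟩
  let φ : K →* Multiplicative A := MonoidHom.mk' (fun x => Multiplicative.ofAdd (α ⟨x, x.2.1⟩ 0)) fun x y => by
    rw [← ofAdd_add, add_comm, ← V.cen L a1 _ (mK.1 x.2).2, ← Equiv.Perm.mul_apply, ← map_mul]; rfl
  have pA : IsPGroup 2 (Multiplicative A) := fun a => ⟨1, by
    rw [pow_one, pow_two]; exact congrArg Multiplicative.ofAdd (L.two a.toAdd)⟩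
  obtain ⟨Q, S, hS, SK, pS, ⟨m, hm1, hm2⟩, hR⟩ := exists_syl K
  have RS : R ≤ S := hR R RK V.pR inf_le_left
  have SN : S ≤ normalizer (R : Set G) := SK.trans inf_le_left
  have cv : ∀ (k : normalizer (R : Set G)) (x : normalizer (R : Set G)), α k 0 = 0 → α (k * x * k⁻¹) 0 = α k (α x 0) := by
    intro k x e
    have : (α k)⁻¹ 0 = 0 := by rw [Equiv.Perm.inv_eq_iff_eq, e]
    rw [map_mul, map_mul, map_inv, Equiv.Perm.mul_apply, Equiv.Perm.mul_apply, this]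
  have k0 : ∀ k (hk : k ∈ centralizer ({t} : Set G)) (hk' : k ∈ normalizer (R : Set G)), α ⟨k, hk'⟩ 0 = 0 :=
    fun k hk hk' => (a2 _).2 ⟨1, one_mem _, by simpa using hk⟩
  have tr : ∀ a, ∃ s : normalizer (R : Set G), (s : G) ∈ S ∧ α s 0 = a := by
    intro a
    by_cases e : a = 0
    · exact ⟨1, one_mem _, by simp [e]⟩
    obtain ⟨γ, p, q⟩ := L.tr _ a g2 e
    obtain ⟨k, k1, k2, k3⟩ := V.gam γ p
    obtain ⟨s, s1, s2⟩ := syl_onto φ pA Q ⟨_, nK k k2 g (mK.2 ⟨g.2, g1⟩)⟩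
    refine ⟨⟨s, s.2.1⟩, (hS s).2 s1, ?_⟩
    refine (Multiplicative.ofAdd.injective s2).trans ((cv ⟨k, k2⟩ g (k0 k k1 k2)).trans ?_)
    rw [V.ind L a1 a2 k1 k2 k3, q]
  have ker : ∀ x (hx : x ∈ S), φ ⟨x, SK hx⟩ = 1 → x ∈ R := fun x hx e =>
    V.s0 a2 pS RS ⟨x, SN hx⟩ hx (Multiplicative.ofAdd.injective e)
  have sq : ∀ s ∈ S, s * s ∈ V.E := fun s hs => V.sqE (ker _ (mul_mem hs hs) (by
    show φ (⟨s, SK hs⟩ * ⟨s, SK hs⟩) = 1
    rw [map_mul]; exact congrArg Multiplicative.ofAdd (L.two _)))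
  by_cases hc : ∀ s ∈ S, IsConj t s → s ∈ R
  · exact V.c3 L a1 a2 pS RS SN tr hc le_rfl (V.ER.trans RS) V.tE sq
  push Not at hc
  obtain ⟨e, eS, eD, eR⟩ := hc
  have fr : ∀ γ, Ind t δ γ → ∃ k ∈ centralizer ({t} : Set G), k ∈ normalizer (S : Set G) ∧
      k ∈ normalizer (R : Set G) ∧ ∀ a, k * δ a * k⁻¹ = δ (γ a) := by
    intro γ p
    obtain ⟨k, k1, k2, k3⟩ := V.gam γ p
    obtain ⟨c, hc, c1⟩ := syl (K := K) (P := S) (Q := S.map (MulAut.conj k).toMonoidHom) SK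
      (by rintro _ ⟨x, hx, rfl⟩; exact nK k k2 x (SK hx)) pS (pS.map _) hm1 hm2
    have n1 : c * k ∈ normalizer (S : Set G) := norm_of fun x hx => by
      have := c1 _ ⟨x, hx, rfl⟩
      simpa [mul_assoc] using this
    obtain ⟨s, s1, s2⟩ := tr (α ⟨c, hc.1⟩ 0)
    obtain ⟨x, x1, x2⟩ := (a2 (s⁻¹ * ⟨c, hc.1⟩ * ⟨k, k2⟩)).1 (by
      rw [map_mul, map_mul, map_inv, Equiv.Perm.mul_apply, Equiv.Perm.mul_apply, k0 k k1 k2, ← s2]; simp)
    refine ⟨_, x2, ?_, mul_mem (le_normalizer x1.1) (Subtype.prop _), fun a => ?_⟩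
    · have := mul_mem (le_normalizer (mul_mem (RS x1.1) (inv_mem s1))) n1
      simpa [mul_assoc] using this
    · have := (mK.1 (mul_mem (mul_mem (RK x1.1) (inv_mem (SK s1))) hc)).2 _ (L.mD (γ a))
      calc _ = (x * (s : G)⁻¹ * c) * (k * δ a * k⁻¹) * (x * (s : G)⁻¹ * c)⁻¹ := by simp [mul_assoc]
        _ = _ := by rw [k3, this]; group
  refine eR (hm S ⟨V.nD, pS, V.TR.trans RS, fun s hs => ?_, fun γ p => ?_⟩ RS eS)
  swap
  · obtain ⟨k, k1, k2, -, k3⟩ := fr γ p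
    exact ⟨k, k1, k2, k3⟩
  by_cases sR : s ∈ R
  · exact V.half s sR
  obtain ⟨γ, p, q⟩ := L.tr (α ⟨e, SN eS⟩ 0) (α ⟨s, SN hs⟩ 0) (fun a => eR (V.s0 a2 pS RS _ eS a))
    (fun a => sR (V.s0 a2 pS RS _ hs a))
  obtain ⟨k, k1, k2, k3, k4⟩ := fr γ p
  have e1 : k * e * k⁻¹ ∈ S := (mem_normalizer_iff.1 k2 e).1 eS
  have e2 : (k * e * k⁻¹)⁻¹ * s ∈ R := by
    refine (V.cos L a1 a2 pS RS SN tr ⟨_, SN e1⟩ ⟨s, SN hs⟩ e1 hs).1 ?_
    refine (cv ⟨k, k3⟩ ⟨e, SN eS⟩ (k0 k k1 k3)).trans ?_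
    rw [V.ind L a1 a2 k1 k3 k4, q]
  have e3 := cj eD k
  generalize k * e * k⁻¹ = f at e1 e2 e3
  have e4 : ∀ x ∈ V.E, IsConj t (f * x) := fun x hx => V.c2 L a1 a2 pS RS SN tr e3 (fun y hy =>
    ker _ (mul_mem (inv_mem e1) (mul_mem (mul_mem hy e1) (inv_mem hy))) (by
      show φ (⟨f, SK e1⟩⁻¹ * (⟨y, SK hy⟩ * ⟨f, SK e1⟩ * ⟨y, SK hy⟩⁻¹)) = 1
      rw [map_mul, map_mul, map_mul, map_inv, map_inv, mul_inv_cancel_comm, inv_mul_cancel])) hx
  rcases V.RE e2 with a | a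
  · left; simpa using e4 _ a
  · right
    have := e4 _ (mul_mem (inv_mem (V.vE (inv_mem (SN e1)))) a)
    simpa [mul_assoc, H.ti, H.ttx] using this

theorem except (ex : Exc t δ) (mv : ∃ g, α g 0 ≠ 0)
    (nt : ∀ g : normalizer (R : Set G), (∀ d ∈ D, (g : G) * d = d * g) → α g 0 = 0) : False := by
  have notr : ∀ g, (∀ a, α g a = a + α g 0) → α g = 1 := by
    intro g hg
    have : α g 0 = 0 := nt g fun d hd => by
      obtain ⟨a, rfl⟩ := (L.mem d).1 hd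
      have := a1 g a
      rw [hg, add_comm, L.add] at this
      exact mul_inv_eq_iff_eq_mul.1 (mul_left_cancel this).symm
    ext a; rw [hg, this]; simp
  refine (ex α.range ?_ ?_ ?_ ?_ (by obtain ⟨g, h⟩ := mv; exact ⟨_, ⟨g, rfl⟩, h⟩)
    (by rintro _ ⟨g, rfl⟩; exact notr g)).elim fun x1 x2 => ?_
  · rintro _ ⟨g, rfl⟩ a b
    apply L.inj
    have : α g a + α g b + α g 0 = α g a + (α g 0 + α g b) := by abel
    rw [this, L.add, L.add, a1, a1 g a, a1 g b, ← mul_assoc (δ (α g 0)) (δ (α g 0)), L.sq (L.mD _), L.add]; group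
  · intro γ p
    obtain ⟨k, k1, k2, k3⟩ := V.gam γ p
    exact ⟨_, ⟨⟨k, k2⟩, rfl⟩, V.ind L a1 a2 k1 k2 k3⟩
  · rintro _ ⟨g, rfl⟩ h
    obtain ⟨x, x1, x2⟩ := (a2 g).1 h
    refine ⟨_, x2, fun a => ?_⟩
    rw [a1, h, L.zero, one_mul]
    calc _ = x * (g * δ a * (g : G)⁻¹) * x⁻¹ := by group
      _ = _ := by rw [V.RD x1.1 (V.nDD L g.2 (L.mD a))]; group
  · rintro _ ⟨g, rfl⟩ h h'
    obtain ⟨m, k, m1, m2⟩ := exists_odd_pow (g : G)
    have e : α (g ^ m) = α g := by rw [map_pow, odd_pow h' m1]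
    rw [← e]
    refine V.s1 L a1 a2 _ (V.s0 a2 (Q := R ⊔ zpowers ((g : G) ^ m))
      (V.pR.to_sup_of_normal_left' (pz m2) (by rw [zpowers_le]; exact pow_mem g.2 m)) le_sup_left _
      (mem_sup_right (mem_zpowers _)) (by rw [e, h]))
  obtain ⟨Q, S, hS, SN, pS, ⟨m, hm1, hm2⟩, hR⟩ := exists_syl (normalizer (R : Set G))
  have RS : R ≤ S := hR R le_normalizer V.pR le_rfl
  have tN : ∀ a, ∃ g, α g 0 = a := by
    intro a
    obtain ⟨g, hg⟩ := mv
    by_cases e : a = 0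
    · exact ⟨1, by simp [e]⟩
    obtain ⟨γ, p, q⟩ := L.tr _ a hg e
    obtain ⟨k, k1, k2, k3⟩ := V.gam γ p
    exact ⟨⟨k, k2⟩ * g, by rw [map_mul, Equiv.Perm.mul_apply, V.ind L a1 a2 k1 k2 k3, q]⟩
  have tr : ∀ a, ∃ s : normalizer (R : Set G), (s : G) ∈ S ∧ α s 0 = a := by
    intro a
    obtain ⟨k, hk⟩ := IsPGroup.iff_card.1 H.pD
    obtain ⟨s, s1, s2⟩ := syl_trans α 0 tN (L.card.symm.trans hk) Q a
    exact ⟨s, (hS s).2 s1, s2⟩
  have pY : IsPGroup 2 ((Q : Subgroup _).map α) := Q.isPGroup'.map α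
  have YX : (Q : Subgroup _).map α ≤ α.range := map_le_range _ _
  have ker : ∀ x : normalizer (R : Set G), (x : G) ∈ S → (α x = 1 ↔ (x : G) ∈ R) := fun x hx =>
    ⟨fun e => V.s0 a2 pS RS x hx (by rw [e]; rfl), V.s1 L a1 a2 x⟩
  have hc : ∀ s ∈ S, IsConj t s → s ∈ R := by
    intro e eS eD
    by_contra eR
    have e1 : α ⟨e, SN eS⟩ ≠ 1 := fun a => eR ((ker _ eS).1 a)
    have : Nontrivial ((Q : Subgroup _).map α) :=
      ⟨⟨_, ⟨⟨e, SN eS⟩, (hS _).1 eS, rfl⟩⟩, 1, fun a => e1 (congrArg Subtype.val a)⟩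
    obtain ⟨⟨z, zY⟩, z1, z2, z3⟩ := exists_cinv pY
    replace z1 : z ≠ 1 := fun a => z1 (Subtype.ext a)
    replace z2 : z * z = 1 := congrArg Subtype.val z2
    replace z3 : ∀ s : normalizer (R : Set G), (s : G) ∈ S → α s * z = z * α s := fun s hs =>
      congrArg Subtype.val (z3 ⟨_, s, (hS s).1 hs, rfl⟩)
    obtain ⟨_, ⟨g, rfl⟩, hg⟩ := x1 _ ⟨_, rfl⟩ z (YX zY) e1 (by
      rw [← map_mul, show (⟨e, SN eS⟩ * ⟨e, SN eS⟩ : normalizer (R : Set G)) = 1 from Subtype.ext (H.inv2 eD), map_one])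
      z1 z2
    rw [← map_inv, ← map_mul, ← map_mul] at hg
    have f1 : IsConj t (g * ⟨e, SN eS⟩ * g⁻¹ : normalizer (R : Set G)) := cj eD g
    generalize g * ⟨e, SN eS⟩ * g⁻¹ = f at hg f1
    let Z : Subgroup G := ((centralizer {z}).comap α).map (normalizer (R : Set G)).subtype
    have SZ : S ≤ Z := fun s hs => ⟨⟨s, SN hs⟩, mc.2 (z3 _ hs), rfl⟩
    obtain ⟨n, hn⟩ := card_dvd_of_le SZ
    obtain ⟨_, ⟨c, hc, rfl⟩, c1⟩ := syl (K := Z) (P := S) (Q := zpowers (f : G)) SZ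
      (by rw [zpowers_le]; exact ⟨f, mc.2 (by rw [hg]), rfl⟩) pS (pz (k := 1) (by rw [pow_one, pow_two, H.inv2 f1]))
      (m := n) (by
        have := card_dvd_of_le (map_subtype_le ((centralizer {z}).comap α))
        rw [hm2, show Nat.card (((centralizer {z}).comap α).map (normalizer (R : Set G)).subtype) = _ from hn] at this
        have := Nat.dvd_of_mul_dvd_mul_left Nat.card_pos this
        exact Nat.odd_iff.1 (Odd.of_dvd_nat (Nat.odd_iff.2 hm1) this)) hn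
    have f2 : ((c * f * c⁻¹ : normalizer (R : Set G)) : G) ∈ S := c1 _ (mem_zpowers _)
    have f3 : α (c * f * c⁻¹) = z := by rw [map_mul, map_mul, map_inv, hg, mc.1 hc]; group
    have f4 : IsConj t (c * f * c⁻¹ : normalizer (R : Set G)) := cj f1 c
    generalize c * f * c⁻¹ = u at f2 f3 f4
    have f5 : ∀ x ∈ V.E, IsConj t (u * x) := fun x hx => V.c2 L a1 a2 pS RS SN tr f4 (fun y hy =>
      (ker (u⁻¹ * (⟨y, SN hy⟩ * u * ⟨y, SN hy⟩⁻¹)) (mul_mem (inv_mem f2) (mul_mem (mul_mem hy f2) (inv_mem hy)))).1 (by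
        rw [map_mul, map_mul, map_mul, map_inv, map_inv, f3, z3 _ hy]; group)) hx
    refine z1 (f3 ▸ notr u (V.cen L a1 u fun d hd => ?_))
    have := H.inv2 (f5 d (V.DE hd))
    rw [eq_inv_of_mul_eq_one_left this, mul_inv_rev, inv_eq_of_mul_eq_one_right (L.sq hd),
      inv_eq_of_mul_eq_one_right (H.inv2 f4)]
  by_cases hq : ∀ s ∈ S, s * s ∈ R
  · exact V.c3 L a1 a2 pS RS SN tr hc le_rfl (V.ER.trans RS) V.tE fun s hs => V.sqE (hq s hs)
  push Not at hq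
  obtain ⟨r, rS, rR⟩ := hq
  obtain ⟨y1, y2⟩ := x2 _ YX pY _ ⟨⟨r, SN rS⟩, (hS _).1 rS, rfl⟩
  have r4 : r * r * (r * r) ∈ V.E := V.sqE ((ker (⟨r, SN rS⟩ * ⟨r, SN rS⟩ * (⟨r, SN rS⟩ * ⟨r, SN rS⟩))
    (mul_mem (mul_mem rS rS) (mul_mem rS rS))).1 (by simpa only [map_mul] using y1))
  have rrN : r * r ∈ normalizer (R : Set G) := SN (mul_mem rS rS)
  let E' : Subgroup G :=
    { carrier := {x | x ∈ V.E ∨ r * r * x ∈ V.E}
      one_mem' := Or.inl (one_mem _)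
      mul_mem' := by
        rintro a b (ha | ha) (hb | hb)
        · exact Or.inl (mul_mem ha hb)
        · right
          rw [show r * r * (a * b) = (r * r * a * (r * r)⁻¹) * (r * r * b) by group]
          exact mul_mem (V.nE rrN ha) hb
        · right; rw [← mul_assoc]; exact mul_mem ha hb
        · left
          rw [show a * b = ((r * r)⁻¹ * (r * r * a) * (r * r)⁻¹⁻¹) * (r * r * (r * r))⁻¹ * (r * r * b) by group]
          exact mul_mem (mul_mem (V.nE (inv_mem rrN) ha) (inv_mem r4)) hb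
      inv_mem' := by
        rintro a (ha | ha)
        · exact Or.inl (inv_mem ha)
        · right
          rw [show r * r * a⁻¹ = (r * r * (r * r * a)⁻¹ * (r * r)⁻¹) * (r * r * (r * r)) by group]
          exact mul_mem (V.nE rrN (inv_mem ha)) r4 }
  have par : ∀ g ∈ normalizer (R : Set G), ∀ ρ ∈ R, g * ρ * g⁻¹ * ρ ∈ V.E := by
    intro g hg ρ hρ
    by_cases a : IsConj t ρ
    · exact V.two ((mem_normalizer_iff.1 hg ρ).1 hρ) hρ (cj a g) a
    · exact mul_mem (V.nE hg ⟨hρ, a⟩) ⟨hρ, a⟩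
  refine V.c3 L a1 a2 pS RS SN tr hc (E' := E') (fun x hx => Or.inl hx) ?_ ?_ fun s hs => ?_
  · rintro x (a | a)
    · exact RS a.1
    · exact (mul_mem_cancel_left (mul_mem rS rS)).1 (RS a.1)
  · rintro (a | a)
    · exact V.tE a
    · exact rR ((mul_mem_cancel_right V.tR).1 a.1)
  by_cases a : s * s ∈ R
  · exact Or.inl (V.sqE a)
  right
  rcases y2 _ ⟨⟨s, SN hs⟩, (hS _).1 hs, rfl⟩
    (fun b => rR ((ker (⟨r, SN rS⟩ * ⟨r, SN rS⟩) (mul_mem rS rS)).1 (by rw [map_mul, b])))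
    (fun b => a ((ker (⟨s, SN hs⟩ * ⟨s, SN hs⟩) (mul_mem hs hs)).1 (by rw [map_mul, b]))) with b | b
  · have := (ker (⟨r, SN rS⟩⁻¹ * ⟨s, SN hs⟩) (mul_mem (inv_mem rS) hs)).1 (by rw [map_mul, map_inv, b, inv_mul_cancel])
    have := mul_mem r4 (par _ (inv_mem (SN rS)) _ this)
    simpa [mul_assoc] using this
  · have := (ker (⟨r, SN rS⟩ * ⟨s, SN hs⟩) (mul_mem rS hs)).1 (by rw [map_mul, b, mul_inv_cancel])
    have := par _ (SN rS) _ this
    simpa [mul_assoc] using this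

end Lv

theorem tower {t : G} {D : Subgroup G} (H : St t D) {δ : A → G} (L : Dl t D δ) (ex : Exc t δ)
    (nD : ∀ d ∈ D, ¬ IsConj t d) (tD : ∀ d ∈ D, IsConj t (t * d)) : False := by
  have l0 : Lv H δ H.T := by
    refine ⟨nD, H.pT, le_rfl, ?_, ?_⟩
    · rintro s (a | a)
      · exact .inr (tD s a)
      · left; simpa [H.ttx] using tD _ a
    · rintro γ ⟨k, k1, k2⟩
      have : ∀ d ∈ D, k * d * k⁻¹ ∈ D := fun d hd => by
        obtain ⟨a, rfl⟩ := (L.mem d).1 hd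
        rw [k2]; exact L.mD _
      refine ⟨k, k1, norm_of ?_, k2⟩
      rintro n (a | a)
      · exact .inl (this n a)
      · right
        have := this _ a
        rwa [← mul_assoc, mc.1 k1, mul_assoc t, mul_assoc t] at this
  obtain ⟨R, V, hm⟩ := Set.Finite.exists_maximal (s := {R : Subgroup G | Lv H δ R}) (Set.toFinite _) ⟨_, l0⟩
  replace V : Lv H δ R := V
  obtain ⟨α, a1, a2⟩ := V.exists_alpha L
  by_cases mv : ∃ g, α g 0 ≠ 0
  · refine V.except L a1 a2 ex mv fun g hg => ?_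
    by_contra e
    exact V.transl L a1 a2 (fun S a b => hm a b) g hg e
  · push Not at mv
    exact tr0 H.hno H.tt (odd_index V.pR fun Q pQ a b g hg => V.s0 a2 pQ a ⟨g, b hg⟩ hg (mv _)) V.cR fun x hx => hx.2

end H326.Jt
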