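import Mathlib.Data.ZMod.Basic
import Mathlib.LinearAlgebra.Matrix.ToLin

/-! 2-subgroups of `GL(3,2)`: elements of order four. -/

set_option autoImplicit false

namespace H326.Jt

/-- 3 × 3 matrices over `ZMod 2` by entries -/
structure M3 where
  (a b c d e f g h i : Bool)
  deriving DecidableEq

def m3 (a b c d e f : Bool) : Bool := xor (a && b) (xor (c && d) (e && f))

def M3.mul (x y : M3) : M3 :=
  ⟨m3 x.a y.a x.b y.d x.c y.g, m3 x.a y.b x.b y.e x.c y.h, m3 x.a y.c x.b y.f x.c y.i,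
   m3 x.d y.a x.e y.d x.f y.g, m3 x.d y.b x.e y.e x.f y.h, m3 x.d y.c x.e y.f x.f y.i,
   m3 x.g y.a x.h y.d x.i y.g, m3 x.g y.b x.h y.e x.i y.h, m3 x.g y.c x.h y.f x.i y.i⟩

def M3.one : M3 := ⟨true, false, false, false, true, false, false, false, true⟩

def M3.sq (x : M3) : M3 := x.mul x

def bs : List Bool := [false, true]

def allM : List M3 := bs.flatMap fun a => bs.flatMap fun b => bs.flatMap fun c => bs.flatMap fun d =>
  bs.flatMap fun e => bs.flatMap fun f => bs.flatMap fun g => bs.flatMap fun h => bs.map fun i =>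
    ⟨a, b, c, d, e, f, g, h, i⟩

theorem mem_bs (b : Bool) : b ∈ bs := by cases b <;> simp [bs]

theorem mem_allM (x : M3) : x ∈ allM := by
  simp only [allM, List.mem_flatMap, List.mem_map]
  exact ⟨_, mem_bs x.a, _, mem_bs x.b, _, mem_bs x.c, _, mem_bs x.d, _, mem_bs x.e, _, mem_bs x.f, _, mem_bs x.g,
    _, mem_bs x.h, _, mem_bs x.i, rfl⟩

def o4 : List M3 := allM.filter fun x => x.sq.sq == M3.one && x.sq != M3.one

theorem m3a : allM.all (fun x => x.sq.sq.sq != M3.one || x.sq.sq == M3.one) = true := by decide +kernel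

theorem m3b : o4.all (fun x => o4.all fun y => (x.mul y).sq.sq != M3.one || (x.mul (x.mul y)).sq.sq != M3.one ||
    y == x || x.mul y == M3.one) = true := by decide +kernel

def toB (x : ZMod 2) : Bool := decide (x = 1)

theorem toB_inj : ∀ x y, toB x = toB y → x = y := by decide

theorem toB_m3 : ∀ a b c d e f, toB (a * b + c * d + e * f) = m3 (toB a) (toB b) (toB c) (toB d) (toB e) (toB f) := by
  decide

def toM (A : Matrix (Fin 3) (Fin 3) (ZMod 2)) : M3 :=
  ⟨toB (A 0 0), toB (A 0 1), toB (A 0 2), toB (A 1 0), toB (A 1 1), toB (A 1 2), toB (A 2 0), toB (A 2 1), toB (A 2 2)⟩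

theorem toM_mul (A B : Matrix (Fin 3) (Fin 3) (ZMod 2)) : toM (A * B) = (toM A).mul (toM B) := by
  simp only [toM, M3.mul, Matrix.mul_apply, Fin.sum_univ_three, toB_m3]

theorem toM_one : toM 1 = M3.one := by decide

theorem toM_inj {A B : Matrix (Fin 3) (Fin 3) (ZMod 2)} (h : toM A = toM B) : A = B := by
  simp only [toM, M3.mk.injEq] at h
  obtain ⟨h1, h2, h3, h4, h5, h6, h7, h8, h9⟩ := h
  ext i j
  apply toB_inj
  fin_cases i <;> fin_cases j <;> assumption

theorem gl3 {Y : Type*} [Group Y] (hY : ∀ y : Y, ∃ k, y ^ 2 ^ k = 1) (ρ : Y →* Matrix (Fin 3) (Fin 3) (ZMod 2))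
    (hρ : Function.Injective ρ) (y : Y) :
    y * y * (y * y) = 1 ∧ ∀ y', y * y ≠ 1 → y' * y' ≠ 1 → y' = y ∨ y' = y⁻¹ := by
  let σ : Y → M3 := fun y => toM (ρ y)
  have mul : ∀ x y, σ (x * y) = (σ x).mul (σ y) := fun x y => by simp only [σ, map_mul, toM_mul]
  have inj : ∀ x y, σ x = σ y ↔ x = y := fun x y => ⟨fun h => hρ (toM_inj h), congrArg σ⟩
  have one : M3.one = σ 1 := by simp only [σ, map_one, toM_one]
  have a8 : ∀ x : Y, x * x * (x * x) * (x * x * (x * x)) = 1 → x * x * (x * x) = 1 := by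
    intro x hx
    have := List.all_eq_true.1 m3a _ (mem_allM (σ x))
    simpa [M3.sq, ← mul, one, inj, hx] using this
  have a4 : ∀ x : Y, x * x * (x * x) = 1 := by
    intro x
    obtain ⟨k, hk⟩ := hY x
    induction k generalizing x with
    | zero => simp [show x = 1 by simpa using hk]
    | succ k ih => exact a8 x (ih (x * x) (by rw [← pow_two, ← pow_mul, ← pow_succ', hk]))
  refine ⟨a4 y, fun y' h h' => ?_⟩
  have m : ∀ x : Y, x * x ≠ 1 → σ x ∈ o4 := fun x hx =>
    List.mem_filter.2 ⟨mem_allM _, by simp [M3.sq, ← mul, one, inj, a4, hx]⟩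
  have := List.all_eq_true.1 (List.all_eq_true.1 m3b _ (m y h)) _ (m y' h')
  simp only [M3.sq, ← mul, one, a4, bne_self_eq_false, Bool.false_or, Bool.or_eq_true, beq_iff_eq, inj] at this
  exact this.imp id fun a => (eq_inv_of_mul_eq_one_right a)

end H326.Jt
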