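import Cfsg.Agent.H26.Jt4

/-! The elementary abelian case: `T` is a Sylow 2-subgroup of order eight. -/

set_option autoImplicit false

namespace H326.Jt

open H326.Yk Subgroup

variable {G : Type*} [Group G] [Finite G] {A : Type*} [AddCommGroup A] [Finite A]

theorem cn_ne (P : Subgroup G) : cn (fun x => x ∈ P ∧ x ≠ 1) + 1 = Nat.card P := by
  rw [← cn_mem, ← Set.ncard_singleton (1 : G)]
  refine (cn_or _ (fun x => x ∈ ({1} : Set G)) fun x a b => a.2 b).symm.trans (cn_congr fun x => ?_)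
  by_cases h : x = 1 <;> simp [h]

theorem exists_not_mem (P : Subgroup G) (l : List G) (h : l.length < Nat.card P) : ∃ x ∈ P, x ∉ l := by
  classical
  by_contra! hc
  have := Set.ncard_le_ncard (s := (P : Set G)) (t := (l.toFinset : Set G)) fun x hx => by simpa using hc x hx
  rw [Set.ncard_coe_finset, ← Nat.card_coe_set_eq] at this
  exact absurd (this.trans (List.toFinset_card_le l)) (not_le.2 h)

theorem tourn {t : G} {D : Subgroup G} (H : St t D) {δ : A → G} (L : Dl t D δ)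
    (all : ∀ x ∈ H.T, x ≠ 1 → IsConj t x) (od : H.T.index % 2 = 1)
    (nd : ∀ g ∈ centralizer ({t} : Set G), (∀ x ∈ H.T, g * x * g⁻¹ ∈ H.T) → ∀ d ∈ D, g * d * g⁻¹ ∈ D) :
    Nat.card A = 4 := by
  by_contra ne
  have sqT : ∀ x ∈ H.T, x * x = 1 := fun x hx => by
    by_cases e : x = 1
    · simp [e]
    · exact H.inv2 (all x hx e)
  have cT : ∀ x ∈ H.T, ∀ y ∈ H.T, x * y = y * x := fun x hx y hy => by
    rw [eq_inv_of_mul_eq_one_left (sqT _ (mul_mem hx hy)), mul_inv_rev, inv_eq_of_mul_eq_one_right (sqT x hx),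
      inv_eq_of_mul_eq_one_right (sqT y hy)]
  let N := normalizer (H.T : Set G)
  have nT : ∀ g ∈ N, ∀ x ∈ H.T, g * x * g⁻¹ ∈ H.T := fun g hg x hx => (mem_normalizer_iff.1 hg x).1 hx
  have mv : ∀ x ∈ H.T, x ≠ 1 → ∃ g ∈ N, g⁻¹ * t * g⁻¹⁻¹ = x := by
    intro x hx x1
    obtain ⟨y, rfl⟩ := isConj_iff.1 (all x hx x1)
    obtain ⟨c, hc, h⟩ := H.sylT (Q := H.T.map (MulAut.conj y⁻¹).toMonoidHom) (by
      rintro _ ⟨u, hu, rfl⟩
      rw [mc]
      calc _ = y⁻¹ * (u * (y * t * y⁻¹)) * y := by simp [mul_assoc]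
        _ = _ := by rw [cT u hu _ hx]; simp [mul_assoc]) (H.pT.map _)
    refine ⟨c * y⁻¹, norm_of fun u hu => by simpa [mul_assoc] using h _ ⟨u, hu, rfl⟩, ?_⟩
    calc _ = y * c⁻¹ * (t * c) * y⁻¹ := by group
      _ = _ := by rw [← mc.1 hc]; group
  let B : G → G → Prop := fun x y => ∃ g ∈ N, g⁻¹ * t * g⁻¹⁻¹ = x ∧ g * y * g⁻¹ ∈ D
  have hB : ∀ x y, ∀ g ∈ N, g⁻¹ * t * g⁻¹⁻¹ = x → (B x y ↔ g * y * g⁻¹ ∈ D) := by
    intro x y g hg e
    refine ⟨?_, fun a => ⟨g, hg, e, a⟩⟩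
    rintro ⟨h, hh, f, a⟩
    have := nd (g * h⁻¹) (mc.2 (by
      calc _ = g * (h⁻¹ * t * h⁻¹⁻¹) * h⁻¹ := by group
        _ = _ := by rw [f, ← e]; group)) (nT _ (mul_mem hg (inv_mem hh))) _ a
    simpa [mul_assoc] using this
  have mD : ∀ x ∈ H.T, ∀ y ∈ H.T, (x * y ∈ D ↔ (x ∈ D ↔ y ∈ D)) := by
    intro x hx y hy
    by_cases a : x ∈ D
    · simp [a, mul_mem_cancel_left a]
    by_cases b : y ∈ D
    · simp [a, b, mul_mem_cancel_right b]
    have := mul_mem ((H.mT.1 hx).resolve_left a) ((H.mT.1 hy).resolve_left b)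
    rw [← mul_assoc, ← H.cD _ ((H.mT.1 hx).resolve_left a), H.ttx] at this
    simp [a, b, this]
  have lin : ∀ x ∈ H.T, x ≠ 1 → ∀ y ∈ H.T, ∀ y' ∈ H.T, (B x (y * y') ↔ (B x y ↔ B x y')) := by
    intro x hx x1 y hy y' hy'
    obtain ⟨g, hg, e⟩ := mv x hx x1
    rw [hB x _ g hg e, hB x _ g hg e, hB x _ g hg e, ← conj_mul, mD _ (nT g hg y hy) _ (nT g hg y' hy')]
  have nsw : ∀ n ∈ N, ∀ x ∈ H.T, ∀ y, n * x * n⁻¹ = y → n * y * n⁻¹ = x → x = y := by
    intro n hn x hx y e1 e2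
    obtain ⟨m, k, m1, m2⟩ := exists_odd_pow n
    have p : IsPGroup 2 ↥(H.T ⊔ zpowers (n ^ m)) :=
      H.pT.to_sup_of_normal_left' (pz m2) (by rw [zpowers_le]; exact pow_mem hn m)
    have := (H.pT.toSylow (by omega)).is_maximal' p le_sup_left
    have mT : n ^ m ∈ H.T := by
      have a : n ^ m ∈ H.T ⊔ zpowers (n ^ m) := mem_sup_right (mem_zpowers _)
      rw [this] at a; exact a
    have c : Commute (n * n) x := by
      show n * n * x = x * (n * n)
      rw [← mul_inv_eq_iff_eq_mul]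
      calc _ = n * (n * x * n⁻¹) * n⁻¹ := by group
        _ = x := by rw [e1, e2]
    have c2 : Commute (n ^ m) x := cT _ mT x hx
    rw [← Nat.div_add_mod m 2, m1, pow_succ, pow_mul, pow_two] at c2
    have c3 := (c.pow_left (m / 2)).inv_left.mul_left c2
    rw [inv_mul_cancel_left] at c3
    rw [← e1, c3.eq, mul_inv_cancel_right]
  have anti : ∀ x ∈ H.T, x ≠ 1 → ∀ y ∈ H.T, y ≠ 1 → x ≠ y → (B x y ↔ ¬ B y x) := by
    intro x hx x1 y hy y1 xy
    obtain ⟨g, hg, e⟩ := mv x hx x1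
    obtain ⟨h, hh, f⟩ := mv y hy y1
    rw [hB x y g hg e, hB y x h hh f]
    have u1 : g * y * g⁻¹ ≠ 1 := by simpa using y1
    have w1 : h * x * h⁻¹ ≠ 1 := by simpa using x1
    have u2 : t * (g * y * g⁻¹) ≠ 1 := fun a => xy (by
      rw [← e, ← H.ti, ← eq_inv_of_mul_eq_one_right a]; group)
    have w2 : t * (h * x * h⁻¹) ≠ 1 := fun a => xy (by
      rw [← f, ← H.ti, ← eq_inv_of_mul_eq_one_right a]; group)
    have key : ∀ k ∈ centralizer ({t} : Set G), (∀ d ∈ D, k * d * k⁻¹ ∈ D) → k * (g * y * g⁻¹) * k⁻¹ = h * x * h⁻¹ → False := by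
      intro k k1 k2 k3
      have kN : k ∈ N := norm_of (by
        rintro n (a | a)
        · exact .inl (k2 n a)
        · right
          have := k2 _ a
          rwa [← mul_assoc, mc.1 k1, mul_assoc t, mul_assoc t] at this)
      refine xy (nsw (h⁻¹ * k * g) (mul_mem (mul_mem (inv_mem hh) kN) hg) x hx y ?_ ?_)
      · rw [← e, ← f]
        calc _ = h⁻¹ * (k * t) * k⁻¹ * h := by group
          _ = _ := by rw [mc.1 k1]; group
      · calc _ = h⁻¹ * (k * (g * y * g⁻¹) * k⁻¹) * h := by group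
          _ = _ := by rw [k3]; group
    constructor
    · intro a b
      obtain ⟨k, k1, k2, k3⟩ := L.trD a b u1 w1
      exact key k k1 k2 k3
    · intro b
      by_contra a
      obtain ⟨k, k1, k2, k3⟩ := L.trD ((H.mT.1 (nT g hg y hy)).resolve_left a) ((H.mT.1 (nT h hh x hx)).resolve_left b) u2 w2
      rw [← mul_assoc, mc.1 k1, mul_assoc t, mul_assoc t] at k3
      exact key k k1 k2 (mul_left_cancel k3)
  have c16 : 16 ≤ Nat.card H.T := by
    obtain ⟨j, hj⟩ := L.four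
    have := Nat.card_pos (α := A)
    rw [H.cT, L.card]; omega
  obtain ⟨y, hy, y1⟩ := exists_not_mem H.T [1] (by simp; omega)
  obtain ⟨z, hz, z1⟩ := exists_not_mem H.T [1, y] (by simp; omega)
  obtain ⟨a, ha, a1⟩ := exists_not_mem H.T [1, y, z, y * z] (by simp; omega)
  obtain ⟨b, hb, b1⟩ := exists_not_mem H.T [1, y, z, y * z, a, a * y, a * z, a * (y * z)] (by simp; omega)
  simp only [List.mem_cons, List.not_mem_nil, or_false, not_or] at y1 z1 a1 b1
  have yz : y * z ≠ 1 := fun e => z1.2 (by rw [eq_inv_of_mul_eq_one_right e, inv_eq_of_mul_eq_one_right (sqT y hy)])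
  have rel : ∀ x ∈ H.T, x ≠ 1 → x ≠ y → x ≠ z → x ≠ y * z → (¬ B (y * z) x ↔ (¬ B y x ↔ ¬ B z x)) := by
    intro x hx p q r s
    rw [← anti x hx p y hy y1 q, ← anti x hx p z hz z1.1 r, ← anti x hx p _ (mul_mem hy hz) yz s]
    exact lin x hx p y hy z hz
  have ab : ∀ w, a * b = w → b = a * w := fun w e => by rw [← e, ← mul_assoc, sqT a ha, one_mul]
  have r1 := rel a ha a1.1 a1.2.1 a1.2.2.1 a1.2.2.2
  have r2 := rel b hb b1.1 b1.2.1 b1.2.2.1 b1.2.2.2.1
  have r3 := rel _ (mul_mem ha hb) (fun e => b1.2.2.2.2.1 (by rw [ab _ e, mul_one])) (fun e => b1.2.2.2.2.2.1 (ab _ e))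
    (fun e => b1.2.2.2.2.2.2.1 (ab _ e)) (fun e => b1.2.2.2.2.2.2.2 (ab _ e))
  rw [lin y hy y1 a ha b hb, lin z hz z1.1 a ha b hb, lin _ (mul_mem hy hz) yz a ha b hb] at r3
  revert r1 r2 r3
  generalize B y a = p1; generalize B y b = p2; generalize B z a = p3; generalize B z b = p4
  generalize B (y * z) a = p5; generalize B (y * z) b = p6
  by_cases p1 <;> by_cases p2 <;> by_cases p3 <;> by_cases p4 <;> by_cases p5 <;> by_cases p6 <;> simp only [*] <;> decide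

theorem elem {t : G} {D : Subgroup G} (H : St t D) {δ : A → G} (L : Dl t D δ) (ex : Exc t δ)
    (nd : Nat.card A = 4 ∨ ∀ g ∈ centralizer ({t} : Set G), (∀ x ∈ H.T, g * x * g⁻¹ ∈ H.T) → ∀ d ∈ D, g * d * g⁻¹ ∈ D) :
    H.T.index % 2 = 1 ∧ Nat.card A = 4 := by
  have d1 : (∀ d ∈ D, ¬ IsConj t d) ∨ ∀ d ∈ D, d ≠ 1 → IsConj t d := by
    by_contra! hc
    obtain ⟨⟨a, ha, a1⟩, b, hb, b1, b2⟩ := hc
    obtain ⟨k, -, -, e⟩ := L.trD ha hb (H.ne1 a1) b1
    exact b2 (e ▸ cj a1 k)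
  have d2 : (∀ d ∈ D, IsConj t (t * d) → d = 1) ∨ ∀ d ∈ D, IsConj t (t * d) := by
    by_contra! hc
    obtain ⟨⟨a, ha, a1, a2⟩, b, hb, b2⟩ := hc
    obtain ⟨k, k1, -, e⟩ := L.trD ha hb a2 (by rintro rfl; exact b2 (by rw [mul_one]))
    have := cj a1 k
    rw [← mul_assoc, mc.1 k1, mul_assoc t, mul_assoc t, e] at this
    exact b2 this
  obtain ⟨j, hj⟩ := L.four
  have j0 : 0 < j := by have := Nat.card_pos (α := A); omega
  obtain ⟨m, hm, ix⟩ := H.idx
  rcases d1 with d1 | d1 <;> rcases d2 with d2 | d2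
  · refine (H.not_iso ?_).elim
    rintro x (a | a) b
    · exact absurd b (d1 x a)
    · rw [← H.ttx x, d2 _ a (by rwa [H.ttx]), mul_one]
  · exact (tower H L ex d1 d2).elim
  · exfalso
    have n1 : nn t D + 1 = 4 * j := by
      rw [← hj, ← L.card, ← cn_ne]; congr 1
      exact cn_congr fun x => ⟨fun a => ⟨a.2, H.ne1 a.1⟩, fun a => ⟨d1 x a.1 a.2, a.1⟩⟩
    have n2 : nn t H.T = nn t D + 1 := by
      rw [← Set.ncard_singleton t]
      refine (cn_congr fun x => ?_).trans (cn_or _ (fun x => x ∈ ({t} : Set G)) fun x a b => H.t1 (b ▸ a.2))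
      constructor
      · rintro ⟨a, b | b⟩
        · exact .inl ⟨a, b⟩
        · right; show x = t
          rw [← H.ttx x, d2 _ b (by rwa [H.ttx]), mul_one]
      · rintro (a | rfl)
        exacts [⟨a.1, H.DT a.2⟩, ⟨IsConj.refl _, H.tT⟩]
    rw [n2, n1, mul_assoc] at ix
    obtain ⟨m', hm', c⟩ := H.card
    have a := fix_mul t D
    have b := fix_mod H.hno t H.tt D
    rw [c, show nn t D * (2 * Nat.card D * m') = 2 * (nn t D * m') * Nat.card D by ring] at a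
    rw [Nat.eq_of_mul_eq_mul_right Nat.card_pos a] at b
    have o : (nn t D * m') % 2 = 1 := Nat.odd_mul_odd (by omega) hm'
    have := D.card_mul_index.trans H.T.card_mul_index.symm
    rw [H.cT, mul_comm 2, mul_assoc] at this
    have := Nat.eq_of_mul_eq_mul_left Nat.card_pos this
    omega
  · have all : ∀ x ∈ H.T, x ≠ 1 → IsConj t x := by
      rintro x (a | a) b
      · exact d1 x a b
      · simpa [H.ttx] using d2 _ a
    have n1 : nn t H.T + 1 = 2 * (4 * j) := by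
      rw [← hj, ← L.card, ← H.cT, ← cn_ne]; congr 1
      exact cn_congr fun x => ⟨fun a => ⟨a.2, H.ne1 a.1⟩, fun a => ⟨all x a.1 a.2, a.1⟩⟩
    have o : (nn t H.T * m) % 2 = 1 := Nat.odd_mul_odd (by omega) hm
    have od : H.T.index % 2 = 1 := by omega
    exact ⟨od, nd.elim id (tourn H L all od)⟩

end H326.Jt
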