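import Cfsg.Agent.H26.Jt4
import Cfsg.Agent.H26.Jt5
import Cfsg.Agent.H9.SylowBasic
import Cfsg.Agent.S0885

/-! Doubly transitive affine groups without translations whose point stabilizer has odd order. -/

set_option autoImplicit false

namespace H326.Jt

open H326.Yk Subgroup

section
variable {A : Type*} [AddCommGroup A] [Finite A] {X : Subgroup (Equiv.Perm A)}

theorem x_tr (K : ∀ a b : A, a ≠ 0 → b ≠ 0 → ∃ k ∈ X, k 0 = 0 ∧ k a = b) (mv : ∃ g ∈ X, g 0 ≠ 0) (a : A) :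
    ∃ g ∈ X, g 0 = a := by
  by_cases e : a = 0
  · exact ⟨1, one_mem _, by simp [e]⟩
  obtain ⟨g, hg, h⟩ := mv
  obtain ⟨k, hk, -, f⟩ := K _ a h e
  exact ⟨k * g, mul_mem hk hg, f⟩

omit [Finite A] in
theorem x_fpf (tr : ∀ a, ∃ g ∈ X, g 0 = a) (od : ∀ g ∈ X, g 0 = 0 → g * g = 1 → g = 1) {i : Equiv.Perm A} (hi : i ∈ X)
    (i1 : i ≠ 1) (ii : i * i = 1) (a : A) : i a ≠ a := by
  intro e
  obtain ⟨g, hg, rfl⟩ := tr a
  have := od (g⁻¹ * i * g⁻¹⁻¹) (mul_mem (mul_mem (inv_mem hg) hi) (inv_mem (inv_mem hg))) (by simp [e])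
    (by rw [conj_mul, ii]; simp)
  exact i1 (conj_eq_one_iff.1 this)

theorem x_inv (tr : ∀ a, ∃ g ∈ X, g 0 = a) (ev : 2 ∣ Nat.card A) : ∃ i ∈ X, i ≠ 1 ∧ i * i = 1 := by
  have e1 : (MulAction.stabilizer X (0 : A)).index = Nat.card A := by
    rw [MulAction.index_stabilizer, show MulAction.orbit X (0 : A) = Set.univ from Set.eq_univ_of_forall fun a => by
      obtain ⟨g, hg, e⟩ := tr a
      exact ⟨⟨g, hg⟩, e⟩, Set.ncard_univ]
  obtain ⟨i, hi⟩ := exists_prime_orderOf_dvd_card' (G := X) 2 (ev.trans (e1 ▸ index_dvd_card _))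
  refine ⟨i, i.2, fun a => ?_, ?_⟩
  · rw [show i = 1 from Subtype.ext a, orderOf_one] at hi; omega
  · have := pow_orderOf_eq_one i
    rw [hi, pow_two] at this
    exact congrArg Subtype.val this

end

variable {G : Type*} [Group G]

theorem ind_zero {A : Type*} [AddCommGroup A] {t : G} {D : Subgroup G} {δ : A → G} (L : Dl t D δ) {γ : A → A}
    (h : Ind t δ γ) : γ 0 = 0 := by
  obtain ⟨k, -, e⟩ := h
  apply L.inj
  rw [← e, L.zero]; simp

theorem exc4 {A : Type*} [AddCommGroup A] [Finite A] {t : G} {D : Subgroup G} {δ : A → G} (L : Dl t D δ)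
    (h4 : Nat.card A = 4) : Exc t δ := by
  classical
  intro X aff gam _ od mv notr
  exfalso
  have tr := x_tr (fun a b ha hb => by
    obtain ⟨γ, p, q⟩ := L.tr a b ha hb
    obtain ⟨k, hk, e⟩ := gam γ p
    exact ⟨k, hk, by rw [e, ind_zero L p], by rw [e, q]⟩) mv
  obtain ⟨i, hi, i1, ii⟩ := x_inv tr (by omega)
  have fp := x_fpf tr od hi i1 ii
  have i2 : ∀ a, i (i a) = a := fun a => congrArg (fun f : Equiv.Perm A => f a) ii
  refine i1 (notr i hi fun a => ?_)
  by_cases a0 : a = 0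
  · simp [a0]
  by_cases av : a = i 0
  · rw [av, i2, L.two]
  by_contra ne
  have := Fintype.ofFinite A
  have c := Finset.card_le_univ ({0, i 0, a, a + i 0, i a} : Finset A)
  have n1 : a + i 0 ≠ 0 := fun e => av (by rw [← add_left_inj (i 0), e, L.two])
  have n2 : i a ≠ 0 := fun e => av (by rw [← e, i2])
  rw [← Nat.card_eq_fintype_card, h4, Finset.card_insert_of_notMem, Finset.card_insert_of_notMem,
    Finset.card_insert_of_notMem, Finset.card_pair (Ne.symm ne)] at c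
  · omega
  · simp [fp 0, (fp a).symm]
  · simp [Ne.symm av, a0, Ne.symm a0]
  · simp [(fp 0).symm, Ne.symm a0, n1.symm, n2.symm]

theorem excF {F : Type*} [Field F] [Fintype F] (two : ∀ a : F, a + a = 0) {t : G} {δ : F → G}
    (K : ∀ c ≠ 0, Ind t δ (fun a => c * a)) (SL : ∀ γ, Ind t δ γ → γ 1 = 1 → ∀ a b, γ (a * b) = γ a * γ b) :
    Exc t δ := by
  classical
  intro X aff gam ind od mv notr
  have : CharP F 2 := CharTwo.of_one_ne_zero_of_two_eq_zero one_ne_zero (by rw [← one_add_one_eq_two, two])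
  letI := ZMod.algebra F 2
  have cq : Fintype.card F = 2 ^ Module.finrank (ZMod 2) F := by rw [Module.card_eq_pow_finrank (K := ZMod 2), ZMod.card]
  have n0 : 0 < Module.finrank (ZMod 2) F := Module.finrank_pos
  have sc : ∀ c : F, c ≠ 0 → ∃ k : X, ∀ a, k • a = c * a := fun c hc => by
    obtain ⟨k, hk, e⟩ := gam _ (K c hc)
    exact ⟨⟨k, hk⟩, e⟩
  have tr := x_tr (X := X) (fun a b ha hb => by
    obtain ⟨k, e⟩ := sc (b * a⁻¹) (mul_ne_zero hb (inv_ne_zero ha))
    exact ⟨k, k.2, (e 0).trans (mul_zero _), (e a).trans (inv_mul_cancel_right₀ ha b)⟩) mv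
  have ev : 2 ∣ Nat.card F := by rw [Nat.card_eq_fintype_card, cq]; exact dvd_pow_self 2 n0.ne'
  have aff' : ∀ (g : X) (a b : F), g • (a + b) = g • a + g • b + g • (0 : F) := fun g => aff g g.2
  have ext : ∀ g h : X, (∀ a : F, g • a = h • a) → g = h := fun g h e => Subtype.ext (Equiv.ext e)
  have od' : ∀ g : X, g • (0 : F) = 0 → g * g = 1 → g = 1 := fun g a b =>
    Subtype.ext (od g g.2 a (congrArg Subtype.val b))
  have fp : ∀ i : X, i ≠ 1 → i * i = 1 → ∀ a : F, i • a ≠ a := fun i a b =>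
    x_fpf tr od i.2 (fun e => a (Subtype.ext e)) (congrArg Subtype.val b)
  have tr2 : ∀ a b : F, a ≠ b → ∃ g : X, g • (0 : F) = a ∧ g • (1 : F) = b := by
    intro a b ab
    obtain ⟨g, hg, e⟩ := tr a
    replace e : (⟨g, hg⟩ : X) • (0 : F) = a := e
    obtain ⟨k, f⟩ := sc ((⟨g, hg⟩ : X)⁻¹ • b) (fun h => ab (by rw [← e, ← h, smul_inv_smul]))
    exact ⟨⟨g, hg⟩ * k, by rw [mul_smul, f, mul_zero, e], by rw [mul_smul, f, mul_one, smul_inv_smul]⟩
  -- linear parts
  let lam : X →* Module.End (ZMod 2) F :=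
    { toFun := fun g => AddMonoidHom.toZModLinearMap 2 (AddMonoidHom.mk' (fun a => g • a + g • (0 : F)) fun a b => by
        rw [aff']; abel)
      map_one' := LinearMap.ext fun a => by simp
      map_mul' := fun g h => LinearMap.ext fun a => by
        show (g * h) • a + (g * h) • (0 : F) = g • (h • a + h • (0 : F)) + g • (0 : F)
        rw [aff', mul_smul, mul_smul, add_assoc, two, add_zero] }
  have lm : ∀ (g : X) a, lam g a = g • a + g • (0 : F) := fun _ _ => rfl
  have l1 : ∀ g, (∀ a, lam g a = a) → g = 1 := fun g h => Subtype.ext (notr g g.2 fun a => by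
    have := h a
    rw [lm] at this
    show g • a = a + g • (0 : F)
    rw [← add_left_inj (g • (0 : F)), this, add_assoc, two, add_zero])
  have o2 : ∀ N : Subgroup X, N.Normal → IsPGroup 2 N → ∀ n ∈ N, n = 1 := by
    intro N hN pN n hn
    letI : MulAction N F := MulAction.compHom F (lam.comp N.subtype)
    obtain ⟨b, hb, b0⟩ := pN.exists_fixed_point_of_prime_dvd_card_of_fixed_point F ev (a := 0)
      (fun g => map_zero (lam g))
    refine l1 n fun a => ?_
    by_cases a0 : a = 0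
    · rw [a0, map_zero]
    obtain ⟨k, e⟩ := sc (a * b⁻¹) (mul_ne_zero a0 (inv_ne_zero b0.symm))
    have kb : lam k b = a := by rw [lm, e, e, mul_zero, add_zero, inv_mul_cancel_right₀ b0.symm]
    have : lam (k⁻¹ * n * k⁻¹⁻¹) b = b := hb ⟨_, hN.conj_mem n hn k⁻¹⟩
    calc lam n a = lam (k * (k⁻¹ * n * k⁻¹⁻¹)) b := by rw [← kb, ← Module.End.mul_apply, ← map_mul]; congr 2; group
      _ = a := by rw [map_mul, Module.End.mul_apply, this, kb]
  -- field automorphisms
  have aut : ∀ g : X, g • (0 : F) = 0 → g • (1 : F) = 1 → ∃ σ : F ≃ₐ[ZMod 2] F, ∀ a, σ a = g • a := by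
    intro g g0 g1
    let r : F ≃+* F :=
      { (g : Equiv.Perm F) with
        map_mul' := SL _ (ind g g.2 g0) g1
        map_add' := fun a b => (aff' g a b).trans (by rw [g0, add_zero]; rfl) }
    exact ⟨AlgEquiv.ofRingEquiv (f := r) fun x =>
      congrArg (fun f : ZMod 2 →+* F => f x) (RingHom.ext_zmod ((r : F →+* F).comp (algebraMap _ _)) (algebraMap _ _)),
      fun a => rfl⟩
  let E := MulAction.stabilizer X (0 : F) ⊓ MulAction.stabilizer X (1 : F)
  have cE : ∀ g ∈ E, ∀ h ∈ E, g * h = h * g := by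
    intro g hg h hh
    obtain ⟨σ, e⟩ := aut g hg.1 hg.2
    obtain ⟨τ, f⟩ := aut h hh.1 hh.2
    refine ext _ _ fun a => ?_
    rw [mul_smul, mul_smul, ← e, ← f, ← f, ← e, ← AlgEquiv.mul_apply, ← AlgEquiv.mul_apply]
    letI := IsCyclic.commGroup (α := F ≃ₐ[ZMod 2] F)
    rw [mul_comm]
  obtain ⟨i, hi, i1, ii⟩ := x_inv tr ev
  obtain ⟨j, φ, j1, jj, j0, φE, φ1, jφ⟩ : ∃ j φ : X, j ≠ 1 ∧ j * j = 1 ∧ j • (0 : F) = 1 ∧ φ ∈ E ∧ φ ≠ 1 ∧
      j * φ * j⁻¹ = φ⁻¹ := by
    have i1' : (⟨i, hi⟩ : X) ≠ 1 := fun e => i1 (congrArg Subtype.val e)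
    have ii' : (⟨i, hi⟩ : X) * ⟨i, hi⟩ = 1 := Subtype.ext ii
    generalize (⟨i, hi⟩ : X) = i at i1' ii'
    obtain ⟨h, h1, h2, h3⟩ := H9.exists_odd_inverted (t := i) (orderOf_eq_prime (by rw [pow_two, ii']) i1')
      fun p => i1' (o2 _ inferInstance p i (subset_normalClosure rfl))
    obtain ⟨p, pp, pd⟩ := Nat.exists_prime_and_dvd (n := orderOf h) (by rwa [Ne, orderOf_eq_one_iff])
    have := Fact.mk pp
    have o := orderOf_pow_orderOf_div (orderOf_pos h).ne' pd
    have h4 : i * h ^ (orderOf h / p) * i⁻¹ = (h ^ (orderOf h / p))⁻¹ := by rw [← conj_pow, h3, inv_pow]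
    generalize h ^ (orderOf h / p) = u at o h4
    obtain ⟨x, hx⟩ := (IsPGroup.of_card (p := p) (n := 1) (G := zpowers u)
      (by rw [Nat.card_zpowers, o, pow_one])).nonempty_fixed_point_of_prime_not_dvd_card F (by
        rw [Nat.card_eq_fintype_card, cq]
        intro a
        rw [(Nat.prime_dvd_prime_iff_eq pp Nat.prime_two).1 (pp.dvd_of_dvd_pow a)] at pd
        exact (Nat.not_even_iff_odd.2 h2) (even_iff_two_dvd.2 pd))
    have ux : u • x = x := hx ⟨u, mem_zpowers u⟩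
    have ui : u • i • x = i • x := by
      have : u * i = i * u⁻¹ := by
        rw [← h4, ← mul_assoc, ← mul_assoc, ii', one_mul, inv_eq_of_mul_eq_one_right ii']
      rw [← mul_smul, this, mul_smul, inv_smul_eq_iff.2 ux.symm]
    obtain ⟨g, g0, g1⟩ := tr2 x (i • x) (fp i i1' ii' x).symm
    refine ⟨g⁻¹ * i * g⁻¹⁻¹, g⁻¹ * u * g⁻¹⁻¹, fun e => i1' (conj_eq_one_iff.1 e), by rw [conj_mul, ii']; simp, ?_, ⟨?_, ?_⟩,
      fun e => ?_, ?_⟩
    · rw [inv_inv, mul_smul, mul_smul, g0, ← g1, inv_smul_smul]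
    · show _ • _ = _
      rw [inv_inv, mul_smul, mul_smul, g0, ux, ← g0, inv_smul_smul]
    · show _ • _ = _
      rw [inv_inv, mul_smul, mul_smul, g1, ui, ← g1, inv_smul_smul]
    · rw [conj_eq_one_iff.1 e, orderOf_one] at o
      exact pp.one_lt.ne o
    · calc _ = g⁻¹ * (i * u * i⁻¹) * g := by group
        _ = _ := by rw [h4]; group
  have j2 : j • (1 : F) = 0 := by rw [← j0, ← mul_smul, jj, one_smul]
  have fx : ∀ ψ ∈ E, ψ ≠ 1 → j * ψ * j⁻¹ = ψ⁻¹ → ∀ x : F, ψ • x = x → x = 0 ∨ x = 1 := by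
    intro ψ hψ ψ1 jψ x hx
    by_contra! hc
    obtain ⟨σ, e⟩ := aut ψ hψ.1 hψ.2
    have cs : ∀ (k : X) (c : F), (∀ a, k • a = c * a) → ψ • c = c → Commute k ψ := fun k c hk hc =>
      ext _ _ fun a => by rw [mul_smul, mul_smul, hk, hk, ← e, ← e, map_mul, e c, hc]
    have fc : ∀ g : X, Commute g ψ → ∀ y : F, ψ • y = y → ψ • g • y = g • y := fun g hg y hy => by
      rw [← mul_smul, ← hg.eq, mul_smul, hy]
    obtain ⟨k, hk⟩ := sc x hc.1
    have c1 : Commute (j * k * j⁻¹) ψ := by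
      have := (cs k x hk hx).map (MulAut.conj j)
      rw [MulAut.conj_apply, MulAut.conj_apply, jψ] at this
      exact Commute.inv_right_iff.1 this
    have y0 : (j * k * j⁻¹) • (0 : F) ≠ 0 := by
      rw [mul_smul, mul_smul, inv_smul_eq_iff.2 j2.symm, hk, mul_one, ← j2]
      exact fun a => hc.2 (smul_left_cancel _ a)
    have y1 := fc _ c1 0 hψ.1
    obtain ⟨k', hk'⟩ := sc _ (inv_ne_zero y0)
    have c2 : Commute (k' * (j * k * j⁻¹)) ψ :=
      (cs k' _ hk' (by rw [← e, map_inv₀, e, y1])).mul_left c1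
    have g0 : (k' * (j * k * j⁻¹)) • (0 : F) = 1 := by rw [mul_smul, hk', inv_mul_cancel₀ y0]
    generalize k' * (j * k * j⁻¹) = g at c2 g0
    have w0 : g⁻¹ • (0 : F) ≠ 0 := fun a => by
      rw [inv_smul_eq_iff, g0] at a; exact zero_ne_one a
    obtain ⟨k'', hk''⟩ := sc _ w0
    have c3 : Commute (g * k'') ψ := c2.mul_left (cs k'' _ hk'' (fc _ c2.inv_left 0 hψ.1))
    have c4 : Commute ((g * k'')⁻¹ * j) ψ := cE _ ⟨by
      show _ • _ = _
      rw [mul_smul, j0, inv_smul_eq_iff, mul_smul, hk'', mul_zero, g0], by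
      show _ • _ = _
      rw [mul_smul, j2, inv_smul_eq_iff, mul_smul, hk'', mul_one, smul_inv_smul]⟩ ψ hψ
    have c5 := c3.mul_left c4
    rw [mul_inv_cancel_left] at c5
    rw [c5.eq, mul_inv_cancel_right] at jψ
    exact ψ1 (od' ψ hψ.1 (mul_eq_one_iff_eq_inv.2 jψ))
  have inv : ∀ ψ ∈ E, j * ψ * j⁻¹ = ψ⁻¹ := by
    intro ψ hψ
    obtain ⟨σ, e⟩ := aut φ φE.1 φE.2
    obtain ⟨τ, f⟩ := aut ψ hψ.1 hψ.2
    have b : IntermediateField.fixedField (zpowers σ) = ⊥ := by
      rw [eq_bot_iff]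
      intro x hx
      rcases fx φ φE φ1 jφ x ((e x).symm.trans ((IntermediateField.mem_fixedField_iff _ _).1 hx σ (mem_zpowers σ)))
        with rfl | rfl
      exacts [zero_mem _, one_mem _]
    have := IntermediateField.fixingSubgroup_fixedField (zpowers σ)
    rw [b, IntermediateField.fixingSubgroup_bot] at this
    obtain ⟨n, hn⟩ := mem_powers_iff_mem_zpowers.2 (this ▸ mem_top τ : τ ∈ zpowers σ)
    have : ψ = φ ^ n := ext _ _ fun a => by
      rw [← f, ← hn]
      clear hn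
      induction n with
      | zero => simp
      | succ n ih => simp only at ih ⊢; rw [pow_succ', pow_succ', AlgEquiv.mul_apply, mul_smul, ih, e]
    rw [this, ← conj_pow, jφ, inv_pow]
  have oE : Odd (Nat.card E) := by
    rw [← Nat.not_even_iff_odd, even_iff_two_dvd]
    intro a
    obtain ⟨u, hu⟩ := exists_prime_orderOf_dvd_card' (G := E) 2 a
    have := pow_orderOf_eq_one u
    rw [hu, pow_two] at this
    rw [show u = 1 from Subtype.ext (od' u u.2.1 (congrArg Subtype.val this)), orderOf_one] at hu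
    omega
  have lE : Nat.card E ≤ Module.finrank (ZMod 2) F := by
    choose s hs using fun g : E => aut g g.2.1 g.2.2
    refine (Nat.card_le_card_of_injective s fun a b e => Subtype.ext (ext _ _ fun x => ?_)).trans ?_
    · rw [← hs, ← hs, e]
    · rw [Nat.card_eq_fintype_card]; exact AlgEquiv.card_le
  have gE : 1 < Nat.card E := Finite.one_lt_card_iff_nontrivial.2 ⟨⟨φ, φE⟩, 1, fun e => φ1 (congrArg Subtype.val e)⟩
  let Hs : Subgroup X :=
    { carrier := {g | ∃ c : F, ∀ a : F, g • a = c * a}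
      one_mem' := ⟨1, by simp⟩
      mul_mem' := by
        rintro a b ⟨c, hc⟩ ⟨d, hd⟩
        exact ⟨c * d, fun x => by rw [mul_smul, hd, hc, mul_assoc]⟩
      inv_mem' := by
        rintro a ⟨c, hc⟩
        have c0 : c ≠ 0 := fun e => zero_ne_one (smul_left_cancel a (by rw [hc, hc, e, zero_mul, zero_mul] : a • (0 : F) = a • 1))
        exact ⟨c⁻¹, fun x => by rw [inv_smul_eq_iff, hc, mul_inv_cancel_left₀ c0]⟩ }
  have cH : Nat.card Hs + 1 = Fintype.card F := by
    rw [← cn_mem, cn_bij (q := fun c : F => c ≠ 0) (fun g : X => g • (1 : F))]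
    · rw [cn_dec, Finset.filter_ne', Finset.card_erase_add_one (Finset.mem_univ _), Finset.card_univ]
    · rintro g ⟨c, hc⟩ e
      exact zero_ne_one (smul_left_cancel g (by rw [e, hc, mul_zero] : g • (0 : F) = g • 1))
    · rintro g h ⟨c, hc⟩ ⟨d, hd⟩ e
      simp only [hc, hd, mul_one] at e
      exact ext _ _ fun a => by rw [hc, hd, e]
    · intro c hc
      obtain ⟨k, e⟩ := sc c hc
      exact ⟨k, ⟨c, e⟩, by simp [e]⟩
  have Z : Cfsg.IsZassenhausGroup X F := by
    refine ⟨⟨fun h => ext _ _ h⟩, MulAction.is_two_pretransitive_iff.2 fun {a b c d} h h' => ?_, ?_,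
      ⟨φ, φ1, 0, 1, zero_ne_one, φE.1, φE.2⟩, fun N hN tN => ?_⟩
    · obtain ⟨g, g0, g1⟩ := tr2 a b h
      obtain ⟨k, k0, k1⟩ := tr2 c d h'
      exact ⟨k * g⁻¹, by rw [mul_smul, ← g0, inv_smul_smul, k0], by rw [mul_smul, ← g1, inv_smul_smul, k1]⟩
    · intro g a b c ab bc ac ga gb gc
      by_contra ne
      obtain ⟨h, h0, h1⟩ := tr2 a b ab
      have m : h⁻¹ * g * h⁻¹⁻¹ ∈ E := ⟨by
        show _ • _ = _
        rw [inv_inv, mul_smul, mul_smul, h0, ga, ← h0, inv_smul_smul], by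
        show _ • _ = _
        rw [inv_inv, mul_smul, mul_smul, h1, gb, ← h1, inv_smul_smul]⟩
      rcases fx _ m (fun e => ne (conj_eq_one_iff.1 e)) (inv _ m) (h⁻¹ • c) (by
        rw [inv_inv, mul_smul, mul_smul, smul_inv_smul, gc]) with e | e <;> rw [inv_smul_eq_iff] at e
      · exact ac (h0.symm.trans e.symm)
      · exact bc (h1.symm.trans e.symm)
    · by_contra! hc
      have c := MulAction.index_stabilizer_of_transitive N (0 : F)
      rw [hc, index_bot, Nat.card_eq_fintype_card (α := F), cq] at c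
      obtain ⟨n, hn⟩ := MulAction.exists_smul_eq N (0 : F) 1
      have := o2 N hN (IsPGroup.of_card c) n n.2
      rw [show n = 1 from Subtype.ext this, one_smul] at hn
      exact zero_ne_one hn
  have n3 : Module.finrank (ZMod 2) F = 3 := by
    rcases Cfsg.Agent.S0885.result Z (zero_ne_one (α := F)) (Nat.card Hs) (Nat.card E) cH.symm rfl oE Hs
      (by rintro g ⟨c, hc⟩; exact (hc 0).trans (mul_zero c)) cH (by
        rintro u ⟨c, hc⟩ u1 x hx
        by_contra x0
        rw [hc] at hx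
        exact u1 (ext _ _ fun a => by rw [hc, (mul_eq_right₀ x0).1 hx, one_mul, one_smul])) with h | ⟨-, ⟨u, v, h⟩, -⟩
    · rw [cq] at cH
      obtain ⟨r, hr⟩ := oE
      generalize Module.finrank (ZMod 2) F = n at *
      by_contra ne
      obtain ⟨s, rfl⟩ : ∃ s, n = s + 4 := ⟨n - 4, by omega⟩
      have := Nat.lt_two_pow_self (n := s)
      rw [pow_add] at cH
      omega
    · obtain ⟨c, hc⟩ := u.2
      obtain ⟨d, hd⟩ := v.2
      exact absurd (Subtype.ext (ext _ _ fun a => by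
        rw [coe_mul, coe_mul, mul_smul, mul_smul, hc, hd, hc, hd, mul_left_comm])) h
  have cjj : ∀ i : X, i ≠ 1 → i * i = 1 → IsConj j i := by
    intro i i1 ii
    obtain ⟨k, hk⟩ := sc _ (fp i i1 ii 0)
    have a0 : (k⁻¹ * i * k⁻¹⁻¹) • (0 : F) = 1 := by
      rw [inv_inv, mul_smul, mul_smul, hk, mul_zero, inv_smul_eq_iff, hk, mul_one]
    have a1 : (k⁻¹ * i * k⁻¹⁻¹) • (1 : F) = 0 := by rw [← a0, ← mul_smul, conj_mul, ii]; simp
    refine cj' k⁻¹ ?_
    generalize k⁻¹ * i * k⁻¹⁻¹ = l at a0 a1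
    have m : j * l ∈ E := ⟨by
      show _ • _ = _
      rw [mul_smul, a0, j2], by
      show _ • _ = _
      rw [mul_smul, a1, j0]⟩
    obtain ⟨r, hr⟩ := oE
    have p1 : (j * l) ^ (2 * r + 1) = 1 := by
      rw [← hr]; exact congrArg Subtype.val (pow_card_eq_one' (x := (⟨_, m⟩ : E)))
    have p2 := inv _ (pow_mem m (r + 1))
    have p3 : (j * l) ^ (r + 1) * (j * l) ^ (r + 1) = j * l := by
      rw [← pow_add, show r + 1 + (r + 1) = 2 * r + 1 + 1 by ring, pow_succ, p1, one_mul]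
    generalize (j * l) ^ (r + 1) = χ at p2 p3
    refine isConj_iff.2 ⟨χ⁻¹, ?_⟩
    rw [inv_inv]
    nth_rewrite 1 [← p2]
    rw [inv_mul_cancel_right, mul_assoc, p3, ← mul_assoc, jj, one_mul]
  refine ⟨fun a ha b hb a1 aa b1 bb => ?_, fun Y hY pY y hy => ?_⟩
  · obtain ⟨g, hg⟩ := isConj_iff.1 ((cjj ⟨a, ha⟩ (fun e => a1 (congrArg Subtype.val e)) (Subtype.ext aa)).symm.trans
      (cjj ⟨b, hb⟩ (fun e => b1 (congrArg Subtype.val e)) (Subtype.ext bb)))
    exact ⟨g, g.2, congrArg Subtype.val hg⟩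
  · let b := Module.finBasisOfFinrankEq (ZMod 2) F n3
    let ρ : Y →* Matrix (Fin 3) (Fin 3) (ZMod 2) :=
      ((LinearMap.toMatrixAlgEquiv b : _ →* _).comp lam).comp (inclusion hY)
    have hρ : Function.Injective ρ := by
      intro u v e
      have e' : lam (inclusion hY u) = lam (inclusion hY v) := (LinearMap.toMatrixAlgEquiv b).injective e
      have := l1 ((inclusion hY v)⁻¹ * inclusion hY u) fun a => by rw [map_mul, e', ← map_mul, inv_mul_cancel, map_one]; rfl
      exact inclusion_injective hY (inv_mul_eq_one.1 this).symm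
    obtain ⟨p, q⟩ := gl3 pY ρ hρ ⟨y, hy⟩
    refine ⟨congrArg Subtype.val p, fun y' hy' a b => ?_⟩
    exact (q ⟨y', hy'⟩ (fun e => a (congrArg Subtype.val e)) (fun e => b (congrArg Subtype.val e))).imp
      (congrArg Subtype.val) (congrArg Subtype.val)

end H326.Jt
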