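import Cfsg.Agent.H26.Jt6
import Cfsg.Agent.H26.Jt7

/-! Lifting from `C(t)/O` to `C(t)`. -/

set_option autoImplicit false

namespace H326.Jt

open H326.Yk Subgroup

theorem lift {C L : Type*} [Group C] [Finite C] [Group L] [Finite L] (O : Subgroup C) [O.Normal]
    (hO : ¬ 2 ∣ Nat.card O) (e : Multiplicative (ZMod 2) × L →* C ⧸ O) (ei : Function.Injective e)
    (e2 : ∀ x : C ⧸ O, (∃ k, orderOf x = 2 ^ k) → x ∈ e.range) (en : e.range.Normal)
    (hZ : ∀ z : L, (∀ l, l * z = z * l) → z = 1) (hp : ∀ φ : L →* Multiplicative (ZMod 2), ∀ l, φ l = 1)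
    {t : C} (ht : orderOf t = 2) (tc : ∀ g, g * t = t * g) (D : Sylow 2 L) :
    ∃ ψ : (D : Subgroup L) →* C, Function.Injective ψ ∧ t ∉ ψ.range ∧
      (∃ m, m % 2 = 1 ∧ Nat.card C = 2 * Nat.card (D : Subgroup L) * m) ∧
      (∀ (l : L) (U : Subgroup (D : Subgroup L)), (∀ x ∈ U, l * x * l⁻¹ ∈ (D : Subgroup L)) →
        ∃ c : C, ∀ x ∈ U, ∀ y : (D : Subgroup L), l * x * l⁻¹ = y → c * ψ x * c⁻¹ = ψ y) ∧
      ∀ g : C, ∃ θ : L →* L, ∀ x, (g * ψ x * g⁻¹ ∈ ψ.range ∨ t * (g * ψ x * g⁻¹) ∈ ψ.range) →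
        ∃ y, ψ y = g * ψ x * g⁻¹ ∧ θ x = y := by
  let π := QuotientGroup.mk' O
  let T0 : Subgroup (Multiplicative (ZMod 2) × L) := (⊤ : Subgroup _).prod D
  have c0 : Nat.card T0 = 2 * Nat.card (D : Subgroup L) := by
    rw [Nat.card_congr (prodEquiv _ _).toEquiv, Nat.card_prod]; simp
  have p0 : IsPGroup 2 T0 := by
    obtain ⟨k, hk⟩ := IsPGroup.iff_card.1 D.isPGroup'
    exact IsPGroup.of_card (n := k + 1) (by rw [c0, hk, pow_succ'])
  have i0 : ¬ 2 ∣ T0.index := by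
    rw [index_prod, index_top, one_mul]; exact D.not_dvd_index
  have pb : IsPGroup 2 (T0.map e) := p0.map e
  have ib : ¬ 2 ∣ (T0.map e).index := by
    refine Sylow.not_dvd_index (⟨T0.map e, pb, fun {Q} pQ hQ => ?_⟩ : Sylow 2 (C ⧸ O))
    have := (p0.toSylow i0).is_maximal' (Q := Q.comap e) (pQ.comap_of_injective e ei) (map_le_iff_le_comap.1 hQ)
    refine le_antisymm (fun x hx => ?_) hQ
    obtain ⟨k, hk⟩ := IsPGroup.iff_orderOf.1 pQ ⟨x, hx⟩
    obtain ⟨w, rfl⟩ := e2 x ⟨k, by rw [← hk, orderOf_mk]⟩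
    have hw : w ∈ Q.comap e := hx
    rw [this] at hw
    exact ⟨w, hw, rfl⟩
  let K := (T0.map e).comap π
  obtain ⟨Q, P, hP, PK, pP, ⟨m, m1, m2⟩, hR⟩ := exists_syl K
  have on : ∀ k ∈ K, ∃ p ∈ P, π p = π k := by
    intro k hk
    obtain ⟨q, q1, q2⟩ := syl_onto ((π.comp K.subtype).codRestrict (T0.map e) fun x => x.2) pb Q ⟨k, hk⟩
    exact ⟨q, (hP q).2 q1, congrArg Subtype.val q2⟩
  have odd1 : ∀ x ∈ O, ∀ k, x ^ 2 ^ k = 1 → x = 1 := by
    intro x hx k h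
    have a := orderOf_dvd_of_pow_eq_one h
    have b : orderOf x ∣ Nat.card O := O.orderOf_dvd_natCard hx
    rw [← orderOf_eq_one_iff]
    exact Nat.eq_one_of_dvd_coprimes (Nat.Coprime.pow_left k ((Nat.Prime.coprime_iff_not_dvd Nat.prime_two).2 hO)) a b
  have inj : ∀ p ∈ P, ∀ q ∈ P, π p = π q → p = q := by
    intro p hp q hq h
    obtain ⟨k, hk⟩ := pP ⟨p⁻¹ * q, mul_mem (inv_mem hp) hq⟩
    exact inv_mul_eq_one.1 (odd1 _ (QuotientGroup.eq.1 h) k (congrArg Subtype.val hk))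
  have ex : ∀ w : T0, ∃ p ∈ P, π p = e w := fun w => by
    obtain ⟨k, hk⟩ := QuotientGroup.mk'_surjective O (e w)
    obtain ⟨p, p1, p2⟩ := on k (show π k ∈ T0.map e from hk ▸ ⟨w, w.2, rfl⟩)
    exact ⟨p, p1, p2.trans hk⟩
  choose s s1 s2 using ex
  have cP : Nat.card P = Nat.card T0 := by
    refine (Nat.card_congr (Equiv.ofBijective (fun w : T0 => (⟨s w, s1 w⟩ : P)) ⟨fun a b h => ?_, fun p => ?_⟩)).symm
    · exact Subtype.ext (ei (by rw [← s2, ← s2, show s a = s b from congrArg Subtype.val h]))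
    · obtain ⟨w, w1, w2⟩ := PK p.2
      exact ⟨⟨w, w1⟩, Subtype.ext (inj _ (s1 _) _ p.2 ((s2 _).trans w2))⟩
  let ψ : (D : Subgroup L) →* C := MonoidHom.mk' (fun x => s ⟨(1, x), trivial, x.2⟩) fun x y =>
    inj _ (s1 _) _ (mul_mem (s1 _) (s1 _)) (by rw [map_mul, s2, s2, s2, ← map_mul]; rfl)
  have ψ1 : ∀ x, ψ x ∈ P := fun x => s1 _
  have ψ2 : ∀ x, π (ψ x) = e (1, x) := fun x => s2 _
  have tt : t ^ 2 ^ 1 = 1 := by rw [pow_one, ← ht, pow_orderOf_eq_one]
  obtain ⟨z, z1, hz⟩ : ∃ z, z ≠ 1 ∧ π t = e (z, 1) := by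
    obtain ⟨⟨z, l⟩, h⟩ := e2 (π t) (by
      obtain ⟨k, -, hk⟩ := (Nat.dvd_prime_pow Nat.prime_two).1
        (orderOf_dvd_of_pow_eq_one (show π t ^ 2 ^ 1 = 1 by rw [← map_pow, tt, map_one]))
      exact ⟨k, hk⟩)
    have : l = 1 := hZ l fun a => by
      obtain ⟨g, hg⟩ := QuotientGroup.mk'_surjective O (e (1, a))
      have : e ((1, a) * (z, l)) = e ((z, l) * (1, a)) := by
        rw [map_mul, map_mul, h, ← hg, ← map_mul, ← map_mul, tc]
      exact congrArg Prod.snd (ei this)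
    subst this
    refine ⟨z, ?_, h.symm⟩
    rintro rfl
    have := odd1 t ((QuotientGroup.eq_one_iff t).1 (h.symm.trans (map_one e))) 1 tt
    rw [this, orderOf_one] at ht; omega
  refine ⟨ψ, fun x y h => Subtype.ext (congrArg Prod.snd (ei ((ψ2 x).symm.trans (h ▸ ψ2 y)))), ?_,
    ⟨m * K.index, ?_, by rw [← K.card_mul_index, m2, cP, c0, mul_assoc]⟩, fun l U hU => ?_, fun g => ?_⟩
  · rintro ⟨x, hx⟩
    exact z1 (congrArg Prod.fst (ei (hz.symm.trans (hx ▸ ψ2 x))))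
  · rw [index_comap_of_surjective _ (QuotientGroup.mk'_surjective O)]
    exact Nat.odd_mul_odd m1 (by omega)
  · obtain ⟨g, hg⟩ := QuotientGroup.mk'_surjective O (e (1, l))
    have key : ∀ x, π (g * ψ x * g⁻¹) = e (1, l * x * l⁻¹) := fun x => by
      rw [map_mul, map_mul, map_inv, hg, ψ2, ← map_inv, ← map_mul, ← map_mul]; congr 1; simp
    obtain ⟨h, h1, h2⟩ := syl (K := K) (P := P) (Q := (U.map ψ).map (MulAut.conj g).toMonoidHom) PK (by
      rintro _ ⟨_, ⟨x, hx, rfl⟩, rfl⟩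
      exact ⟨(1, l * x * l⁻¹), ⟨trivial, hU x hx⟩, (key x).symm⟩) pP
      (((D.isPGroup'.to_subgroup U).map _).map _) m1 m2
    obtain ⟨p, p1, p2⟩ := on h h1
    refine ⟨p⁻¹ * h * g, fun x hx y hy => inj _ ?_ _ (ψ1 y) ?_⟩
    · have := mul_mem (mul_mem (inv_mem p1) (h2 _ ⟨_, ⟨x, hx, rfl⟩, rfl⟩)) p1
      simpa [mul_assoc] using this
    · rw [ψ2, ← hy, ← key]
      simp only [map_mul, map_inv, p2, inv_mul_cancel, one_mul]
  · choose θ hθ using fun w => en.conj_mem _ ⟨w, rfl⟩ (π g)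
    let Θ : L →* Multiplicative (ZMod 2) × L := MonoidHom.mk' (fun l => θ (1, l)) fun a b =>
      ei (by rw [map_mul, hθ, hθ, hθ, conj_mul, ← map_mul]; rfl)
    have key : ∀ x, π (g * ψ x * g⁻¹) = e (Θ x) := fun x => by
      rw [map_mul, map_mul, map_inv, ψ2]; exact (hθ _).symm
    refine ⟨(MonoidHom.snd _ _).comp Θ, ?_⟩
    rintro x (⟨y, hy⟩ | ⟨y, hy⟩)
    · have : e (Θ x) = e (1, y) := by rw [← key, ← hy, ψ2]
      exact ⟨y, hy, congrArg Prod.snd (ei this)⟩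
    · have : e ((z, 1) * Θ x) = e (1, y) := by rw [map_mul, ← hz, ← key, ← map_mul, ← hy, ψ2]
      have := congrArg Prod.fst (ei this)
      rw [Prod.fst_mul, show (Θ x).1 = 1 from hp ((MonoidHom.fst _ _).comp Θ) x, mul_one] at this
      exact absurd this z1

section
open H10 Matrix
open scoped MatrixGroups
variable {F : Type*} [Field F]

theorem sq_mem (g : PGL(2, F)) : g * g ∈ PSL2 F := by
  obtain ⟨a, b, c, d, h, rfl⟩ := mob_surj g
  rw [mob_mul, mob_mem_PSL2_iff]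
  exact ⟨a * d - b * c, by ring⟩

variable [Fintype F]

theorem odd1 (h2 : (2 : F) ≠ 0) {x y : PSL(2, F)} (x1 : x ≠ 1) (xx : x * x = 1) (y1 : y ≠ 1) (yy : y * y = 1) :
    ∃ l, l * x * l⁻¹ = y := by
  obtain ⟨_, ⟨t, rfl⟩, ht⟩ := exists_conj_involution h2 (ι_mem x) (by rw [← map_mul, xx, map_one])
    (fun h => x1 (ι_injective (h.trans (map_one _).symm))) (ι_mem y) (by rw [← map_mul, yy, map_one])
    (fun h => y1 (ι_injective (h.trans (map_one _).symm)))
  exact ⟨t, ι_injective (by rw [map_mul, map_mul, map_inv]; exact ht)⟩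

theorem odd2 (h2 : (2 : F) ≠ 0) {x y z : PSL(2, F)} (hK : KPair x y) (zx : z * x = x * z) (zy : z * y = y * z) :
    z = 1 ∨ z = x ∨ z = y ∨ z = x * y := by
  obtain ⟨a, b, hab⟩ := exists_sq_add_sq_neg_one (F := F)
  obtain ⟨t, h3, h4⟩ := (hK.map ι_injective).exists_conj_std h2 hab (ι_mem _) (ι_mem _)
  have e1 := congrArg (ι F) zx
  have e2 := congrArg (ι F) zy
  rw [map_mul, map_mul, ← h3] at e1
  rw [map_mul, map_mul, ← h4] at e2
  have := mem_of_commute_inv h2 hab (g := t⁻¹ * ι F z * t)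
    (by calc _ = t⁻¹ * (ι F z * (t * inv0 F * t⁻¹)) * t := by group
          _ = _ := by rw [e1]; group)
    (by calc _ = t⁻¹ * (ι F z * (t * inv1 hab * t⁻¹)) * t := by group
          _ = _ := by rw [e2]; group)
  rw [(kPair_inv h2 hab).mem_closure_iff] at this
  have e3 : ι F z = t * (t⁻¹ * ι F z * t) * t⁻¹ := by group
  rcases this with h | h | h | h <;> rw [h] at e3
  · exact .inl (ι_injective (by simpa using e3))
  · exact .inr (.inl (ι_injective (e3.trans h3)))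
  · exact .inr (.inr (.inl (ι_injective (e3.trans h4))))
  · exact .inr (.inr (.inr (ι_injective (by rw [e3, map_mul, ← h3, ← h4]; group))))

theorem odd3 (h2 : (2 : F) ≠ 0) {x y : PSL(2, F)} (K : KPair x y) : ∃ l, l * x * l⁻¹ = y ∧ l * y * l⁻¹ = x * y := by
  obtain ⟨a, b, hab⟩ := exists_sq_add_sq_neg_one (F := F)
  have K' : KPair y (x * y) := ⟨K.yy, by rw [mul_assoc, K.yxg, K.xxy, K.yy], K.y1, K.xy1,
    fun e => K.x1 (by simpa using e), by rw [mul_assoc, K.yxg]⟩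
  obtain ⟨t, h3, h4⟩ := (K.map ι_injective).exists_conj_std h2 hab (ι_mem _) (ι_mem _)
  obtain ⟨s, h5, h6⟩ := (K'.map ι_injective).exists_conj_std h2 hab (ι_mem _) (ι_mem _)
  have e1 : (s * t⁻¹) * ι F x * (s * t⁻¹)⁻¹ = ι F y := by rw [← h3, ← h5]; group
  have e2 : (s * t⁻¹) * ι F y * (s * t⁻¹)⁻¹ = ι F (x * y) := by rw [← h4, ← h6]; group
  generalize s * t⁻¹ = u at e1 e2
  have e3 : u * ι F (x * y) * u⁻¹ = ι F x := by
    rw [map_mul, ← conj_mul, e1, e2, ← map_mul, K.yxg, K.yy, mul_one]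
  obtain ⟨l, hl⟩ := sq_mem (u * u)
  replace hl : ι F l = u * u * (u * u) := hl
  have c : ∀ w, ι F l * w * (ι F l)⁻¹ = u * (u * (u * (u * w * u⁻¹) * u⁻¹) * u⁻¹) * u⁻¹ := fun w => by rw [hl]; group
  refine ⟨l, ι_injective ?_, ι_injective ?_⟩
  · rw [map_mul, map_mul, map_inv, c, e1, e2, e3, e1]
  · rw [map_mul, map_mul, map_inv, c, e2, e3, e1, e2]

theorem odd4 (h2 : (2 : F) ≠ 0) (D : Sylow 2 PSL(2, F)) :
    ∃ a ∈ (D : Subgroup PSL(2, F)), ∃ b ∈ (D : Subgroup PSL(2, F)), KPair a b := by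
  obtain ⟨a, b, hab⟩ := exists_sq_add_sq_neg_one (F := F)
  obtain ⟨x, hx⟩ := inv0_mem (F := F)
  obtain ⟨y, hy⟩ := inv1_mem hab
  have K : KPair x y := KPair.of_map (f := ι F) ι_injective (by rw [hx, hy]; exact kPair_inv h2 hab)
  obtain ⟨c, -, h⟩ := syl (K := ⊤) (P := D) (Q := closure {x, y}) le_top le_top D.isPGroup'
    (IsPGroup.of_card (n := 2) K.card_closure) (m := (D : Subgroup PSL(2, F)).index)
    (by have := D.not_dvd_index; omega) (by rw [card_top, card_mul_index])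
  exact ⟨_, h x (subset_closure (by simp)), _, h y (subset_closure (by simp)), K.conj c⟩

omit [Fintype F] in
theorem π_inj (h2 : (2 : F) = 0) : Function.Injective (π F) := by
  intro s t h
  rcases (π_eq_iff s t).1 h with e | e
  · exact e
  · rw [e]
    ext i j
    show -(t i j) = t i j
    linear_combination (-(t i j)) * h2

omit [Fintype F] in
theorem sl_mul {a b c d a' b' c' d' : F} (h : a * d - b * c = 1) (h' : a' * d' - b' * c' = 1) :
    slMk a b c d h * slMk a' b' c' d' h' = slMk (a * a' + b * c') (a * b' + b * d') (c * a' + d * c') (c * b' + d * d')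
      (by linear_combination (a' * d' - b' * c') * h + h') := by
  apply Subtype.ext
  rw [SL2_coe_mul]
  exact Matrix.mul_fin_two _ _ _ _ _ _ _ _

omit [Fintype F] in
theorem sl_inj {a b c d a' b' c' d' : F} (h : a * d - b * c = 1) (h' : a' * d' - b' * c' = 1) :
    slMk a b c d h = slMk a' b' c' d' h' ↔ a = a' ∧ b = b' ∧ c = c' ∧ d = d' := by
  constructor
  · intro e
    exact ⟨congrArg (fun s : SL(2, F) => s.1 0 0) e, congrArg (fun s : SL(2, F) => s.1 0 1) e,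
      congrArg (fun s : SL(2, F) => s.1 1 0) e, congrArg (fun s : SL(2, F) => s.1 1 1) e⟩
  · rintro ⟨rfl, rfl, rfl, rfl⟩; rfl

/-- transvections -/
def uu (F : Type*) [Field F] : Multiplicative F →* PSL(2, F) :=
  (π F).comp (MonoidHom.mk' (fun a => slMk 1 a.toAdd 0 1 (by simp)) fun a b => by
    rw [sl_mul, sl_inj]; simp [add_comm])

omit [Fintype F] in
theorem uu_app (a : F) : uu F (.ofAdd a) = π F (slMk 1 a 0 1 (by simp)) := rfl

omit [Fintype F] in
theorem uu_inj (h2 : (2 : F) = 0) : Function.Injective (uu F) := fun a b h =>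
  Multiplicative.toAdd.injective (congrArg (fun s : SL(2, F) => s.1 0 1) (π_inj h2 h))

omit [Fintype F] in
theorem uu_sc (h2 : (2 : F) = 0) (l : PSL(2, F)) (b : F)
    (h : l * uu F (.ofAdd 1) * l⁻¹ = uu F (.ofAdd b)) (x : F) : l * uu F (.ofAdd x) * l⁻¹ = uu F (.ofAdd (b * x)) := by
  obtain ⟨s, rfl⟩ := π_surjective l
  obtain ⟨p, q, r, w, hd, rfl⟩ := slMk_surj s
  rw [mul_inv_eq_iff_eq_mul, uu_app, uu_app, ← map_mul, ← map_mul, (π_inj h2).eq_iff, sl_mul, sl_mul, sl_inj] at h ⊢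
  obtain ⟨-, e2, -, e1⟩ := h
  have : r = 0 := by linear_combination e1
  subst this
  refine ⟨by ring, by linear_combination x * e2, by ring, by ring⟩

theorem uu_K (h2 : (2 : F) = 0) (c : F) (hc : c ≠ 0) : ∃ l : PSL(2, F), l * uu F (.ofAdd 1) * l⁻¹ = uu F (.ofAdd c) := by
  obtain ⟨s, rfl⟩ := FiniteField.isSquare_of_char_two
    (ringChar.eq_iff.2 (CharTwo.of_one_ne_zero_of_two_eq_zero one_ne_zero h2)) c
  have s0 : s ≠ 0 := fun e => hc (by rw [e, mul_zero])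
  refine ⟨π F (slMk s 0 0 s⁻¹ (by simp [s0])), ?_⟩
  rw [mul_inv_eq_iff_eq_mul, uu_app, uu_app, ← map_mul, ← map_mul, sl_mul, sl_mul]
  congr 1
  rw [sl_inj]
  simp [s0]

theorem uu_syl (h2 : (2 : F) = 0) : ∃ D : Sylow 2 PSL(2, F), (D : Subgroup PSL(2, F)) = (uu F).range := by
  have ev := FiniteField.even_card_of_char_two (F := F)
    (ringChar.eq_iff.2 (CharTwo.of_one_ne_zero_of_two_eq_zero one_ne_zero h2))
  have p : IsPGroup 2 (uu F).range := by
    rintro ⟨_, a, rfl⟩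
    refine ⟨1, Subtype.ext ?_⟩
    show uu F a ^ 2 ^ 1 = 1
    rw [← map_pow, show a ^ 2 ^ 1 = 1 from Multiplicative.toAdd.injective (by simp [h2]), map_one]
  refine ⟨p.toSylow fun h => ?_, rfl⟩
  have c := card_PSL2 (F := F)
  have q := Fintype.one_lt_card (α := F)
  rw [← (uu F).range.card_mul_index, ← Nat.card_congr (MonoidHom.ofInjective (uu_inj h2)).toEquiv,
    show Nat.card (Multiplicative F) = Fintype.card F from Nat.card_eq_fintype_card (α := F),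
    show Nat.gcd 2 (Fintype.card F - 1) = 1 from (Nat.Prime.coprime_iff_not_dvd Nat.prime_two).2 (by omega),
    one_mul, mul_assoc] at c
  rw [Nat.eq_of_mul_eq_mul_left (by omega) c] at h
  rcases (Nat.Prime.dvd_mul Nat.prime_two).1 h with a | a <;> omega

end

end H326.Jt
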