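import Cfsg.Agent.H26.Jt8

/-! Assembly: `O^{2'}(C(t)/O) ≅ Z₂ × L₂(q)` forces a Sylow 2-subgroup `⟨t⟩ × D` of order eight. -/

set_option autoImplicit false

namespace H326.Jt

open H326.Yk Subgroup H10
open scoped MatrixGroups

variable {G : Type*} [Group G] [Finite G] {F : Type*} [Field F] [Fintype F]

theorem fin {t : G} {D : Subgroup G} (H : St t D) {A : Type*} [AddCommGroup A] {δ : A → G} (L : Dl t D δ)
    (h : H.T.index % 2 = 1 ∧ Nat.card A = 4) (S : Sylow 2 G) :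
    Nat.card (S : Subgroup G) = 8 ∧ ∀ x ∈ (S : Subgroup G), x ^ 2 = 1 := by
  refine ⟨?_, fun x hx => ?_⟩
  · rw [Nat.card_congr (Sylow.equiv S (H.pT.toSylow (by omega))).toEquiv]
    show Nat.card H.T = 8
    rw [H.cT, L.card, h.2]
  · obtain ⟨c, -, hc⟩ := syl (K := ⊤) (P := H.T) (Q := S) le_top le_top H.pT S.isPGroup' h.1
      (by rw [card_top, card_mul_index])
    have : c * x * c⁻¹ * (c * x * c⁻¹) = 1 := by
      rcases hc x hx with a | a
      · exact L.sq a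
      · have := L.sq a
        rwa [← mul_assoc, ← H.cD _ a, H.ttx] at this
    rwa [conj_mul, conj_eq_one_iff, ← pow_two] at this

theorem main (hno : ∀ H : Subgroup G, H.index ≠ 2) {t : G} (tt : t * t = 1) (D : Sylow 2 PSL(2, F))
    (hF : 3 < Fintype.card F) (hD : (2 : F) = 0 → (D : Subgroup PSL(2, F)) = (uu F).range)
    (ψ : (D : Subgroup PSL(2, F)) →* G) (i : Function.Injective ψ) (t1 : t ∉ ψ.range) (tc : ∀ x, t * ψ x = ψ x * t)
    (c : ∃ m, m % 2 = 1 ∧ Nat.card (centralizer ({t} : Set G)) = 2 * Nat.card (D : Subgroup PSL(2, F)) * m)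
    (up : ∀ (l : PSL(2, F)) (U : Subgroup (D : Subgroup PSL(2, F))), (∀ x ∈ U, l * x * l⁻¹ ∈ (D : Subgroup PSL(2, F))) →
      ∃ c ∈ centralizer ({t} : Set G), ∀ x ∈ U, ∀ y : (D : Subgroup PSL(2, F)), l * x * l⁻¹ = y → c * ψ x * c⁻¹ = ψ y)
    (dn : ∀ g ∈ centralizer ({t} : Set G), ∃ θ : PSL(2, F) →* PSL(2, F), ∀ x,
      (g * ψ x * g⁻¹ ∈ ψ.range ∨ t * (g * ψ x * g⁻¹) ∈ ψ.range) → ∃ y, ψ y = g * ψ x * g⁻¹ ∧ θ x = y)
    (S : Sylow 2 G) : Nat.card (S : Subgroup G) = 8 ∧ ∀ x ∈ (S : Subgroup G), x ^ 2 = 1 := by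
  have H : St t ψ.range := ⟨hno, tt, t1, D.isPGroup'.of_equiv (MonoidHom.ofInjective i), by
    rintro _ ⟨x, rfl⟩; exact tc x, by rwa [← Nat.card_congr (MonoidHom.ofInjective i).toEquiv]⟩
  by_cases h2 : (2 : F) = 0
  · have m : ∀ a : F, uu F (.ofAdd a) ∈ (D : Subgroup PSL(2, F)) := fun a => by rw [hD h2]; exact ⟨_, rfl⟩
    have m' : ∀ x : (D : Subgroup PSL(2, F)), ∃ a, x = ⟨_, m a⟩ := fun x => by
      obtain ⟨a, ha⟩ : (x : PSL(2, F)) ∈ (uu F).range := hD h2 ▸ x.2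
      exact ⟨a.toAdd, Subtype.ext ha.symm⟩
    let δ : F → G := fun a => ψ ⟨_, m a⟩
    have di : Function.Injective δ := fun a b e => uu_inj h2 (congrArg Subtype.val (i e))
    have two : ∀ a : F, a + a = 0 := fun a => by rw [← two_mul, h2, zero_mul]
    have K : ∀ c ≠ 0, Ind t δ (fun a => c * a) := by
      intro c hc
      obtain ⟨l, hl⟩ := uu_K h2 c hc
      obtain ⟨k, k1, k2⟩ := up l ⊤ fun x _ => by
        obtain ⟨a, rfl⟩ := m' x
        rw [uu_sc h2 l c hl]; exact m _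
      exact ⟨k, k1, fun a => k2 _ trivial _ (uu_sc h2 l c hl a)⟩
    have L : Dl t ψ.range δ := by
      refine ⟨fun a b => by rw [← map_mul]; exact congrArg ψ (Subtype.ext (map_mul (uu F) _ _)), di, fun d => ⟨?_, ?_⟩, two,
        fun a b ha hb => ⟨_, K (b * a⁻¹) (mul_ne_zero hb (inv_ne_zero ha)), inv_mul_cancel_right₀ ha b⟩, ?_⟩
      · rintro ⟨x, rfl⟩
        obtain ⟨a, rfl⟩ := m' x
        exact ⟨a, rfl⟩
      · rintro ⟨a, rfl⟩; exact ⟨_, rfl⟩
      · have := CharTwo.of_one_ne_zero_of_two_eq_zero one_ne_zero h2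
        obtain ⟨⟨n, n0⟩, -, hn⟩ := FiniteField.card F 2
        rw [Nat.card_eq_fintype_card, hn]
        rw [hn] at hF
        refine pow_dvd_pow 2 (m := 2) ?_
        show 2 ≤ n
        by_contra h
        obtain rfl : n = 1 := by omega
        simp at hF
    refine fin H L (elem H L (excF two K ?_) (.inr ?_)) S
    · rintro γ ⟨g, g1, g2⟩ γ1 a b
      obtain ⟨θ, hθ⟩ := dn g g1
      have e : ∀ a, θ (uu F (.ofAdd a)) = uu F (.ofAdd (γ a)) := fun a => by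
        obtain ⟨y, y1, y2⟩ := hθ ⟨_, m a⟩ (.inl ⟨_, (g2 a).symm⟩)
        rw [y2, i (y1.trans (g2 a))]
      by_cases a0 : a = 0
      · rw [a0, zero_mul, ind_zero L ⟨g, g1, g2⟩, zero_mul]
      obtain ⟨l, hl⟩ := uu_K h2 a a0
      have f : ∀ x, θ l * uu F (.ofAdd (γ x)) * (θ l)⁻¹ = uu F (.ofAdd (γ (a * x))) := fun x => by
        rw [← e, ← e, ← uu_sc h2 l a hl, map_mul, map_mul, map_inv]
      have f1 := f 1
      rw [γ1, mul_one] at f1
      exact uu_inj h2 ((f b).symm.trans (uu_sc h2 _ _ f1 _))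
    · rintro g g1 g2 _ ⟨x, rfl⟩
      obtain ⟨θ, hθ⟩ := dn g g1
      obtain ⟨y, y1, -⟩ := hθ x (g2 _ (H.DT ⟨x, rfl⟩))
      exact ⟨y, y1⟩
  have kp : ∀ a b, KPair (ψ a) (ψ b) → KPair (a : PSL(2, F)) b := fun a b K =>
    (KPair.of_map i K).map (f := (D : Subgroup PSL(2, F)).subtype) (subtype_injective _)
  have h2' : ∀ a ∈ ψ.range, ∀ b ∈ ψ.range, KPair a b →
      ∃ c ∈ centralizer ({t} : Set G), c * a * c⁻¹ = b ∧ c * b * c⁻¹ = a * b := by
    rintro _ ⟨a, rfl⟩ _ ⟨b, rfl⟩ K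
    obtain ⟨l, l1, l2⟩ := odd3 h2 (kp a b K)
    obtain ⟨k, k1, k2⟩ := up l (closure {a, b}) fun x hx => by
      rcases (KPair.of_map i K).mem_closure_iff.1 hx with rfl | rfl | rfl | rfl
      · simp
      · rw [l1]; exact b.2
      · rw [l2]; exact mul_mem a.2 x.2
      · rw [coe_mul, ← conj_mul, l1, l2]; exact mul_mem b.2 (mul_mem a.2 b.2)
    exact ⟨k, k1, k2 a (subset_closure (by simp)) b l1, (k2 b (subset_closure (by simp)) (a * b) l2).trans (map_mul _ _ _)⟩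
  have h3 : ∃ a ∈ ψ.range, ∃ b ∈ ψ.range, KPair a b := by
    obtain ⟨a, ha, b, hb, K⟩ := odd4 h2 D
    have K' : KPair (⟨a, ha⟩ : (D : Subgroup PSL(2, F))) ⟨b, hb⟩ :=
      KPair.of_map (f := (D : Subgroup PSL(2, F)).subtype) (subtype_injective _) (by exact K)
    exact ⟨_, ⟨⟨a, ha⟩, rfl⟩, _, ⟨⟨b, hb⟩, rfl⟩, K'.map i⟩
  by_cases h4 : Nat.card ψ.range = 4
  swap
  · refine (H.dih ?_ ?_ h2' h3 h4).elim
    · rintro _ ⟨a, rfl⟩ _ ⟨b, rfl⟩ a1 aa b1 bb
      rw [← map_mul, ← map_one ψ, i.eq_iff] at aa bb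
      obtain ⟨l, hl⟩ := odd1 h2 (x := a) (y := b) (fun e => a1 (by rw [show a = 1 from Subtype.ext e, map_one]))
        (congrArg Subtype.val aa) (fun e => b1 (by rw [show b = 1 from Subtype.ext e, map_one])) (congrArg Subtype.val bb)
      obtain ⟨k, k1, k2⟩ := up l (zpowers a) (by
        rintro _ ⟨n, rfl⟩
        simp only [SubgroupClass.coe_zpow]
        rw [← conj_zpow, hl]; exact zpow_mem b.2 n)
      exact ⟨k, k1, k2 a (mem_zpowers a) b hl⟩
    · rintro _ ⟨a, rfl⟩ _ ⟨b, rfl⟩ K _ ⟨d, rfl⟩ p q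
      rw [← map_mul, ← map_mul, i.eq_iff] at p q
      rw [K.mem_closure_iff, ← map_mul, ← map_one ψ]
      simp only [i.eq_iff, Subtype.ext_iff]
      exact odd2 h2 (kp a b K) (congrArg Subtype.val p) (congrArg Subtype.val q)
  generalize ψ.range = E at H h2' h3 h4
  have cl : ∀ a ∈ E, ∀ b ∈ E, KPair a b → closure {a, b} = E := fun a ha b hb K =>
    eq_of_le_of_card_ge (by rw [closure_le]; rintro _ (rfl | rfl) <;> assumption) (by rw [h4, K.card_closure])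
  obtain ⟨a, ha, b, hb, K⟩ := h3
  have sq : ∀ d ∈ E, d * d = 1 := by
    intro d hd
    rw [← cl a ha b hb K, K.mem_closure_iff] at hd
    rcases hd with rfl | rfl | rfl | rfl
    exacts [mul_one _, K.xx, K.yy, by rw [mul_assoc, K.yxg, K.xxy, K.yy]]
  have cm : ∀ x ∈ E, ∀ y ∈ E, x * y = y * x := fun x hx y hy => by
    rw [eq_inv_of_mul_eq_one_left (sq _ (mul_mem hx hy)), mul_inv_rev, inv_eq_of_mul_eq_one_right (sq x hx),
      inv_eq_of_mul_eq_one_right (sq y hy)]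
  letI : CommGroup E := { (inferInstance : Group E) with mul_comm := fun x y => Subtype.ext (cm _ x.2 _ y.2) }
  have L : Dl t E (fun a : Additive E => (a.toMul : G)) := by
    refine ⟨fun _ _ => rfl, fun x y e => Additive.toMul.injective (Subtype.ext e),
      fun d => ⟨fun h => ⟨.ofMul ⟨d, h⟩, rfl⟩, by rintro ⟨x, rfl⟩; exact x.toMul.2⟩,
      fun x => Additive.toMul.injective (Subtype.ext (sq _ x.toMul.2)), fun x y x0 y0 => ?_, h4.symm.dvd⟩
    by_cases e : x = y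
    · exact ⟨id, ⟨1, one_mem _, fun a => by simp⟩, e⟩
    have Kx : KPair (x.toMul : G) (y.toMul : G) := ⟨sq _ x.toMul.2, sq _ y.toMul.2,
      fun f => x0 (Additive.toMul.injective (Subtype.ext f)), fun f => y0 (Additive.toMul.injective (Subtype.ext f)),
      fun f => e (Additive.toMul.injective (Subtype.ext f)), cm _ y.toMul.2 _ x.toMul.2⟩
    obtain ⟨k, k1, k2, k3⟩ := h2' _ x.toMul.2 _ y.toMul.2 Kx
    have n : ∀ d ∈ E, k * d * k⁻¹ ∈ E := by
      intro d hd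
      rw [← cl _ x.toMul.2 _ y.toMul.2 Kx, Kx.mem_closure_iff] at hd
      rcases hd with rfl | rfl | rfl | rfl
      · simp
      · rw [k2]; exact y.toMul.2
      · rw [k3]; exact mul_mem x.toMul.2 y.toMul.2
      · rw [← conj_mul, k2, k3]; exact mul_mem y.toMul.2 (mul_mem x.toMul.2 y.toMul.2)
    exact ⟨fun z => .ofMul ⟨_, n _ z.toMul.2⟩, ⟨k, k1, fun _ => rfl⟩, Additive.toMul.injective (Subtype.ext k2)⟩
  exact fin H L (elem H L (exc4 L h4) (.inl h4)) S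

end H326.Jt
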