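import Cfsg.Agent.S3214
import Cfsg.Agent.S1230
import Cfsg.Agent.S0252
import Cfsg.Agent.S0253
import Cfsg.Agent.H22.Frobenius
import Cfsg.Agent.H10.Small
import Cfsg.Agent.H13.ConjSet

/-! Recognition of `PSL₂(q)` by counting. `Tri G l m n`: `|G| = l m n` with pairwise coprime factors and every element
order divides a factor; `Od G q a b` (the odd case, simple by counting: `Od.simple`, `Od.psl`), `Tri.psl_even`. -/

set_option autoImplicit false
set_option linter.unusedSectionVars false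
set_option linter.unusedVariables false

namespace H326
open Cfsg H18 Subgroup
open H21 (PNil)
open scoped MatrixGroups

structure Tri (G : Type*) [Group G] (l m n : ℕ) : Prop where
  card : Nat.card G = l * m * n
  lm : l.Coprime m
  ln : l.Coprime n
  mn : m.Coprime n
  ord : ∀ x : G, x ^ l = 1 ∨ x ^ m = 1 ∨ x ^ n = 1

/-- nontrivial solutions of `x ^ l = 1` in `N` -/
def sol {G : Type*} [Group G] (N : Subgroup G) (l : ℕ) : Set G := {x | x ∈ N ∧ x ≠ 1 ∧ x ^ l = 1}

theorem arith {q a b q' a' b' k l m : ℕ} (hq : a + b = q) (hab : a = b + 1 ∨ b = a + 1) (h5 : 5 ≤ q) (hb : Odd b)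
    (ha : Even a) (cq : q.Coprime (2 * a * b)) (d1 : q' ∣ q) (d2 : a' ∣ 2 * a) (d3 : b' ∣ b)
    (E : q' * a' * b' = 1 + 2 * a * b * k + b * q * l + q * (2 * a) * m) (e1 : q' ∣ 2 * a * b * k + 1)
    (e2 : a' ∣ b * q * l + 1) (e3 : b' ∣ q * (2 * a) * m + 1) :
    q' * a' * b' = 1 ∨ q' * a' * b' = q * (2 * a) * b := by
  have b3 : 3 ≤ b := by obtain ⟨j, rfl⟩ := hb; obtain ⟨i, rfl⟩ := ha; omega
  have a2 : 2 ≤ a := by omega
  have l2 : a' ≤ 2 * a := Nat.le_of_dvd (by omega) d2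
  have l3 : b' ≤ b := Nat.le_of_dvd (by omega) d3
  have sq : (q : ℤ) * q = 4 * a * b + 1 := by subst hq; rcases hab with rfl | rfl <;> push_cast <;> ring
  have z1 := Nat.zero_le (b * q * l)
  have z2 := Nat.zero_le (q * (2 * a) * m)
  have kq : k < q' := by
    by_contra! c
    have h1 : q' * a' * b' ≤ k * (2 * a) * b := Nat.mul_le_mul (Nat.mul_le_mul c l2) l3
    nlinarith
  have k2 : (q' : ℤ) ∣ k - 2 := by
    have h1 : (q' : ℤ) ∣ q * q * k := ((Int.natCast_dvd_natCast.2 d1).mul_right _).mul_right _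
    have h2 : (q' : ℤ) ∣ 2 * a * b * k + 1 := by exact_mod_cast Int.natCast_dvd_natCast.2 e1
    have := h1.sub (h2.mul_left 2)
    rwa [sq, show (4 * (a : ℤ) * b + 1) * k - 2 * (2 * a * b * k + 1) = k - 2 by ring] at this
  obtain ⟨c', hc⟩ : b' ∣ 2 * m + 1 := by
    have h2 : (b' : ℤ) ∣ q * (2 * a) * m + 1 := by exact_mod_cast Int.natCast_dvd_natCast.2 e3
    have h3 : (b' : ℤ) ∣ b := Int.natCast_dvd_natCast.2 d3
    have h4 : (b : ℤ) ∣ q * (2 * a) - 2 := by
      subst hq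
      rcases hab with rfl | rfl
      · exact ⟨4 * b + 6, by push_cast; ring⟩
      · exact ⟨4 * a - 2, by push_cast; ring⟩
    have := h2.sub ((h3.trans h4).mul_right m)
    rw [show (q : ℤ) * (2 * a) * m + 1 - (q * (2 * a) - 2) * m = 2 * m + 1 by ring] at this
    exact_mod_cast this
  have c1 : 1 ≤ c' := Nat.pos_of_ne_zero (by rintro rfl; omega)
  have bm : b' ≤ 2 * m + 1 := by nlinarith
  have qo : Odd q' := Odd.of_dvd_nat (hq ▸ ha.add_odd hb) d1
  by_cases k0 : q' = 1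
  · subst k0
    obtain rfl : k = 0 := by omega
    have h1 : a' * b' ≤ 2 * a * b' := Nat.mul_le_mul_right _ l2
    have b1 : b' ≤ 1 := by
      by_contra! c
      have h2 : q * a * b' ≤ q * a * (2 * m + 1) := Nat.mul_le_mul_left _ bm
      have h3 : 5 * (a * (b' - 1)) ≤ q * (a * (b' - 1)) := Nat.mul_le_mul_right _ h5
      obtain ⟨j, rfl⟩ : ∃ j, b' = j + 2 := ⟨b' - 2, by omega⟩
      simp only [show j + 2 - 1 = j + 1 from rfl] at h3
      have := Nat.zero_le (a * j)
      nlinarith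
    have h2 : a' * b' ≤ 2 * a := by nlinarith
    obtain rfl : m = 0 := by
      by_contra c
      have : 1 * (2 * a) * 1 ≤ q * (2 * a) * m :=
        Nat.mul_le_mul (Nat.mul_le_mul_right _ (by omega)) (Nat.pos_of_ne_zero c)
      nlinarith
    obtain rfl : l = 0 := by
      by_contra c
      have : b * q * 1 ≤ b * q * l := Nat.mul_le_mul_left _ (Nat.pos_of_ne_zero c)
      nlinarith
    left; simpa using E
  obtain rfl : k = 2 := by
    obtain ⟨j, hj⟩ := qo
    have := Int.eq_zero_of_abs_lt_dvd k2 (abs_lt.2 ⟨by omega, by omega⟩)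
    omega
  have E' : q' * a' * b' = q * (q + b * l + 2 * a * m) := by zify at E ⊢; rw [E]; linear_combination -sq
  obtain rfl : q' = q := by
    refine Nat.dvd_antisymm d1 (Nat.Coprime.dvd_of_dvd_mul_right (k := q) (n := a' * b') ?_ ?_)
    · exact cq.coprime_dvd_right (Nat.mul_dvd_mul d2 d3)
    · rw [← mul_assoc, E']; exact dvd_mul_right _ _
  have E2 : a' * b' = b + b * l + a * (b' * c') := by
    rw [mul_assoc] at E'
    have := Nat.eq_of_mul_eq_mul_left (by omega) E'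
    rw [← hc]; linarith
  obtain rfl : a' = 2 * a := by
    obtain ⟨j, hj⟩ := d2
    have : a * b' * 1 ≤ a * b' * c' := Nat.mul_le_mul_left _ c1
    have h3 : a < a' := by
      by_contra! c
      have := Nat.mul_le_mul_right b' c
      nlinarith
    obtain rfl : j = 1 := by
      rcases j with _ | _ | j
      · omega
      · rfl
      · nlinarith
    omega
  obtain ⟨c, hc'⟩ : a ∣ l + 1 := by
    have h2 : (a : ℤ) ∣ b * q' * l + 1 := by
      exact_mod_cast Int.natCast_dvd_natCast.2 ((dvd_mul_left a 2).trans e2)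
    have h4 : (a : ℤ) ∣ b * q' - 1 := by
      subst hq
      rcases hab with rfl | rfl
      · exact ⟨2 * b - 1, by push_cast; ring⟩
      · exact ⟨2 * a + 3, by push_cast; ring⟩
    have := h2.sub (h4.mul_right l)
    rw [show (b : ℤ) * q' * l + 1 - (b * q' - 1) * l = l + 1 by ring] at this
    exact_mod_cast this
  have c0 : 1 ≤ c := Nat.pos_of_ne_zero (by rintro rfl; omega)
  have E3 : 2 * b' = b * c + b' * c' := Nat.eq_of_mul_eq_mul_left (show 0 < a by omega) (by
    have : b + b * l = a * (b * c) := by rw [show b + b * l = b * (l + 1) by ring, hc']; ring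
    nlinarith)
  obtain rfl : b' = b := le_antisymm l3 (by nlinarith)
  exact Or.inr rfl

variable {G : Type*} [Group G] [Finite G] {l m n q a b : ℕ} {x y t c u z : G} {N K X : Subgroup G}

omit [Finite G] in
theorem one_of_cop (h : l.Coprime m) (h1 : x ^ l = 1) (h2 : x ^ m = 1) : x = 1 :=
  orderOf_eq_one_iff.1 ((h.coprime_dvd_left (orderOf_dvd_of_pow_eq_one h1)).eq_one_of_dvd (orderOf_dvd_of_pow_eq_one h2))

theorem pnil_of_mul (h : ∀ x ∈ K, ∀ y ∈ K, Odd (orderOf x) → Odd (orderOf y) → Odd (orderOf (x * y))) : PNil 2 K := by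
  let O : Subgroup G :=
    { carrier := {x | x ∈ K ∧ Odd (orderOf x)}
      mul_mem' := fun a b => ⟨mul_mem a.1 b.1, h _ a.1 _ b.1 a.2 b.2⟩
      one_mem' := ⟨one_mem _, by simp⟩
      inv_mem' := fun a => ⟨inv_mem a.1, by simpa using a.2⟩ }
  refine Hall.pcore_hall (K := O) (hall_of_sylows (fun x hx => hx.1)
    (piGrp_of_elt fun x hx => H5.piNat_two_compl.2 hx.2) fun p hp h2 _ => ?_)
    (fun g hg => mem_N_of_finite fun x hx => ⟨conj_mem_N (le_N hg) hx.1, by rw [orderOf_conj]; exact hx.2⟩)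
  obtain ⟨P, hP⟩ := exists_sylow hp K
  exact ⟨P, hP, fun x hx => ⟨hP.le hx, H5.piNat_two_compl.1 ((hP.pi.elt hx).of_p h2)⟩⟩

theorem pnil_of_comm (h : ∀ x ∈ K, ∀ y ∈ K, Odd (orderOf x) → Odd (orderOf y) → x * y = y * x) : PNil 2 K :=
  pnil_of_mul fun x hx y hy a b => (a.mul b).of_dvd_nat (Commute.orderOf_mul_dvd_mul_orderOf (h x hx y hy a b))

/-- odd elements lie in subgroups of index at most two -/
theorem mem_of_odd (h : X.relIndex K ∣ 2) (hx : x ∈ K) (ho : Odd (orderOf x)) : x ∈ X := by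
  obtain h | h := (Nat.dvd_prime Nat.prime_two).1 h
  · exact relIndex_eq_one.1 h hx
  obtain ⟨k, hk⟩ := ho
  have h : x ^ 2 ∈ X := (X.subgroupOf K).sq_mem_of_index_two h ⟨x, hx⟩
  have h := X.pow_mem h (k + 1)
  rwa [← pow_mul, show 2 * (k + 1) = orderOf x + 1 by omega, pow_succ, pow_orderOf_eq_one, one_mul] at h

namespace Tri
variable (h : Tri G l m n)
include h

omit [Finite G] in
theorem rot : Tri G m n l :=
  ⟨by rw [h.card]; ring, h.mn, h.lm.symm, h.ln.symm, fun x => by have := h.ord x; tauto⟩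

omit [Finite G] in
theorem equiv {H : Type*} [Group H] (e : H ≃* G) : Tri H l m n :=
  ⟨(Nat.card_congr e.toEquiv).trans h.card, h.lm, h.ln, h.mn, fun x => by
    simpa only [← map_pow, map_eq_one_iff e e.injective] using h.ord (e x)⟩

omit [Finite G] in
theorem pw (x1 : x ≠ 1) (hx : x ^ l = 1) (hy : y ∈ C1(x)) : y ^ l = 1 := by
  have c : Commute x y := (mem_C1.1 hy).symm
  have k : ∀ {m n : ℕ}, l.Coprime m → l.Coprime n → y ^ m = 1 → (x * y) ^ n ≠ 1 := fun {m n} a b e f =>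
    x1 (one_of_cop (a.mul_right b) hx (by
      have : (x * y) ^ (m * n) = 1 := by rw [mul_comm, pow_mul, f, one_pow]
      rwa [c.mul_pow, pow_mul y, e, one_pow, mul_one] at this))
  have j : (x * y) ^ l = 1 → y ^ l = 1 := fun e => by rwa [c.mul_pow, hx, one_mul] at e
  obtain e | e | e := h.ord y
  · exact e
  all_goals obtain f | f | f := h.ord (x * y)
  exacts [j f, (k h.lm h.lm e f).elim, (k h.lm h.ln e f).elim, j f, (k h.ln h.lm e f).elim, (k h.ln h.ln e f).elim]

theorem cen (x1 : x ≠ 1) (hx : x ^ l = 1) : Nat.card C1(x) ∣ l := by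
  refine Nat.Coprime.dvd_of_dvd_mul_right (n := m * n) (Nat.coprime_of_dvd fun r hr d e => ?_)
    (mul_assoc l m n ▸ h.card ▸ card_subgroup_dvd_card _)
  obtain ⟨y, hy, rfl⟩ := cauchy hr d
  exact hr.ne_one (((h.lm.mul_right h.ln).coprime_dvd_left (orderOf_dvd_of_pow_eq_one (h.pw x1 hx hy))).eq_one_of_dvd e)

theorem idx (x1 : x ≠ 1) (hx : x ^ l = 1) : m * n ∣ C1(x).index := by
  obtain ⟨k, e⟩ := h.cen x1 hx
  have := C1(x).card_mul_index
  rw [h.card, e, mul_assoc, mul_assoc] at this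
  exact Dvd.intro_left k (Nat.eq_of_mul_eq_mul_left card_pos' this).symm

theorem cnt (N : Subgroup G) [hN : N.Normal] :
    ∃ k, (sol N l).ncard = m * n * k ∧ l.gcd (Nat.card N) ∣ m * n * k + 1 := by
  obtain ⟨k, e⟩ := H10.dvd_ncard_of_conj ⊤ (sol N l).toFinite (m * n)
    (fun g _ s hs => ⟨hN.conj_mem s hs.1 g, by simpa using hs.2.1, by rw [conj_pow, hs.2.2]; simp⟩)
    fun s hs => by rw [relIndex_top_right]; exact h.idx hs.2.1 hs.2.2
  refine ⟨k, e, (H22.frobenius_gcd_dvd (G := N) l).trans (dvd_of_eq ?_)⟩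
  rw [← e, ← Set.ncard_insert_of_notMem (a := 1) (fun c => c.2.1 rfl), ← Nat.card_coe_set_eq]
  refine Nat.card_congr ⟨fun x => ⟨x.1, (em _).imp id fun c => ⟨x.1.2, c, congrArg Subtype.val x.2⟩⟩,
    fun x => ⟨⟨x.1, x.2.elim (fun c => by simp [c]) (·.1)⟩,
      Subtype.ext (x.2.elim (fun c => by simp [c]) (·.2.2))⟩, fun _ => rfl, fun _ => rfl⟩

theorem sum (N : Subgroup G) : Nat.card N = 1 + (sol N l).ncard + (sol N m).ncard + (sol N n).ncard := by
  have e : (N : Set G) = insert 1 (sol N l ∪ sol N m ∪ sol N n) := by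
    ext x
    refine ⟨fun hx => (em _).imp id fun c => ?_, ?_⟩
    · obtain e | e | e := h.ord x
      exacts [.inl (.inl ⟨hx, c, e⟩), .inl (.inr ⟨hx, c, e⟩), .inr ⟨hx, c, e⟩]
    · rintro (rfl | (h | h) | h)
      exacts [one_mem _, h.1, h.1, h.1]
  have d : ∀ {l m : ℕ}, l.Coprime m → Disjoint (sol N l) (sol N m) := fun c =>
    Set.disjoint_left.2 fun x a b => a.2.1 (one_of_cop c a.2.2 b.2.2)
  rw [← SetLike.coe_sort_coe, Nat.card_coe_set_eq, e, Set.ncard_insert_of_notMem (by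
    rintro ((h | h) | h) <;> exact h.2.1 rfl), Set.ncard_union_eq (Set.disjoint_union_left.2 ⟨d h.ln, d h.mn⟩),
    Set.ncard_union_eq (d h.lm)]
  ring

theorem gcd (N : Subgroup G) : Nat.card N = l.gcd (Nat.card N) * m.gcd (Nat.card N) * n.gcd (Nat.card N) := by
  rw [← h.lm.mul_gcd, ← (h.ln.mul_left h.mn).mul_gcd, ← h.card, Nat.gcd_eq_right (card_subgroup_dvd_card N)]
end Tri

/-- the odd case: `|G| = q (q² - 1) / 2`, `{a, b} = {(q - 1) / 2, (q + 1) / 2}` with `a` even -/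
structure Od (G : Type*) [Group G] (q a b : ℕ) : Prop extends Tri G q (2 * a) b where
  add : a + b = q
  ab : a = b + 1 ∨ b = a + 1
  ev : Even a
  five : 5 ≤ q

namespace Od
variable (h : Od G q a b)
include h

omit [Finite G] in
theorem odd : Odd b := by
  obtain ⟨j, e⟩ := h.ev
  have := h.ab
  rw [Nat.odd_iff]; omega

theorem simple : IsSimpleGroup G := by
  have := h.five
  have := h.ab
  have := h.add
  have : Nontrivial G := Finite.one_lt_card_iff_nontrivial.1 (by
    rw [h.card]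
    exact lt_of_lt_of_le (by omega) (Nat.mul_le_mul (Nat.mul_le_mul h.five (show 1 ≤ 2 * a by omega)) (show 1 ≤ b by omega)))
  refine ⟨fun N hN => ?_⟩
  obtain ⟨k, k1, k2⟩ := h.toTri.cnt N
  obtain ⟨l, l1, l2⟩ := h.toTri.rot.cnt N
  obtain ⟨m, m1, m2⟩ := h.toTri.rot.rot.cnt N
  have := arith h.add h.ab h.five h.odd h.ev (h.lm.mul_right h.ln) (Nat.gcd_dvd_left ..) (Nat.gcd_dvd_left ..)
    (Nat.gcd_dvd_left ..) (by rw [← h.toTri.gcd, ← k1, ← l1, ← m1]; exact h.toTri.sum N) k2 l2 m2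
  rw [← h.toTri.gcd, ← h.card] at this
  exact this.imp card_eq_one.1 (card_eq_iff_eq_top N).1
end Od

end H326
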