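import Cfsg.Agent.H26.L2S

/-! Recognition of `PSL₂(q)` by class sizes: `CS G l m n` (class sizes `m n`, `n l`, `l m` and possibly `2 n l`),
`CS.tri` (the central quotient has order `l m n`), `cs_psl`, `cs_prod`. -/

set_option autoImplicit false
set_option linter.unusedSectionVars false
set_option linter.unusedVariables false

namespace H326
open Cfsg H18 Subgroup
open scoped MatrixGroups commutatorElement

variable {G : Type*} [Group G] [Finite G] {l m n q a b r s p : ℕ} {x y t c u z w : G} {N K X B D Y : Subgroup G}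

omit [Finite G] in
theorem Z_le_C1 : center G ≤ C1(x) := fun _ h => mem_C1.2 (mem_center_iff.1 h x).symm
omit [Finite G] in
theorem ix_eq_one : C1(x).index = 1 ↔ x ∈ center G := by
  rw [index_eq_one, centralizer_eq_top_iff_subset, Set.singleton_subset_iff]; rfl

/-- an isolated centralizer -/
def Isol (K : Subgroup G) : Prop := ∀ y ∉ center G, C1(y) ≤ K ∨ K ≤ C1(y) → C1(y) = K

theorem Isol.cent (h : Isol K) (hx : x ∉ center G) (e : C1(x) = K) (px : PiElt {p} x) (hy : y ∈ K)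
    (py : PiElt {p}ᶜ y) : K ≤ C1(y) := by
  have c := (mem_C1.1 (e.ge hy)).symm
  have k := C1_mul c px py
  rw [← h (x * y) (fun j => hx (zpowers_le.2 j (mem_zpowers_mul_left c px py))) (.inl (k.le.trans (inf_le_left.trans e.le))), k]
  exact inf_le_right

theorem exists_pelt (hr : r.Prime) (h : r ∣ (center G).relIndex K) : ∃ y ∈ K, y ∉ center G ∧ PiElt {r} y := by
  by_contra! c
  obtain ⟨P, hP⟩ := exists_sylow hr K
  rw [← relIndex_inf_right] at h
  exact hP.idx_of_le (K := center G ⊓ K) (fun y hy => ⟨by_contra fun j => c y (hP.le hy) j (hP.pi.elt hy), hP.le hy⟩)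
    r hr h rfl

theorem Isol.cases (h : Isol C1(x)) (hx : x ∉ center G) :
    Abel C1(x) ∨ ∃ p, PiNat {p} ((center G).relIndex C1(x)) := by
  obtain ⟨p, hp, y, hy, py, yZ⟩ : ∃ p : ℕ, p.Prime ∧ ∃ y ∈ zpowers x, PiElt {p} y ∧ y ∉ center G := by
    by_contra! c
    exact hx (le_of_pElts c (mem_zpowers x))
  have e := h y yZ (.inr (C1_le_of_mem_zpowers hy))
  refine or_iff_not_imp_right.2 fun c => ?_
  obtain ⟨s, hs, d, ne⟩ := exists_prime_not_mem (not_exists.1 c p)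
  obtain ⟨w, hw, wZ, pw⟩ := exists_pelt hs d
  have f := h w wZ (.inr (h.cent yZ e py hw (pw.of_p ne)))
  refine le_of_pElts fun t _ v hv pv => mem_C.2 fun g hg => mem_C1.1 ?_
  by_cases k : t = p
  · exact h.cent wZ f pw hv (pv.of_p (k ▸ Ne.symm ne :)) hg
  · exact h.cent yZ e py hv (pv.of_p k) hg

theorem Isol.prime (h : Isol C1(x)) (hx : x ∉ center G) (e : (center G).relIndex C1(x) = l * s) (hr : r.Prime)
    (rs : r ∣ s) (l1 : l ≠ 1) (mn : m.Coprime n) (h1 : C1(y).index = l * m) (h2 : C1(w).index = l * n)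
    (n1 : C1(y).index ≠ C1(x).index) (n2 : C1(w).index ≠ C1(x).index) : r ∣ l := by
  obtain ab | ⟨p, hp⟩ := h.cases hx
  · obtain ⟨v, hv, vZ, pv⟩ := exists_pelt hr (e ▸ rs.mul_left l)
    have k : ∀ {w : G} {m : ℕ}, C1(w).index = l * m → C1(w).index ≠ C1(x).index → r ∣ l * m := fun {w m} h1 n1 =>
      by_contra fun c => by
        obtain ⟨j, hj⟩ := PiNat.eq_pow pv (orderOf_pos v).ne'
        obtain ⟨g, a, ha, rfl⟩ := H13.exists_conj_mem hr (x := v) (hj ▸ pow_orderOf_eq_one v) (h1 ▸ c)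
        have m : g * w * g⁻¹ ∈ C1(x) := by
          rw [← h _ vZ (.inr (ab.trans (C_le_C1 hv))), ← cj_C1]
          exact conj_mem_cj (mem_C1_comm.1 ha)
        refine n1 ?_
        rw [← h _ (fun j => l1 (Nat.eq_one_of_mul_eq_one_right
          (h1.symm.trans (by rw [← index_cj (g := g), cj_C1]; exact ix_eq_one.2 j)))) (.inr (ab.trans (C_le_C1 m))),
          ← cj_C1, index_cj]
    by_contra c
    exact hr.ne_one (Nat.eq_one_of_dvd_coprimes mn ((hr.dvd_mul.1 (k h1 n1)).resolve_left c)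
      ((hr.dvd_mul.1 (k h2 n2)).resolve_left c))
  · obtain ⟨t, ht, d⟩ := Nat.exists_prime_and_dvd l1
    exact ((hp r hr (e ▸ rs.mul_left l)).trans (hp t ht (e ▸ d.mul_right s)).symm : r = t) ▸ d

/-- class sizes `m n`, `n l`, `l m` and possibly `2 n l` -/
structure CS (G : Type*) [Group G] (l m n : ℕ) : Prop where
  lm : l.Coprime m
  ln : l.Coprime n
  mn : m.Coprime n
  l1 : 1 < l
  m2 : 2 < m
  n1 : 1 < n
  all : ∀ x : G, C1(x).index = 1 ∨ C1(x).index = m * n ∨ C1(x).index = n * l ∨ C1(x).index = l * m ∨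
    C1(x).index = 2 * (n * l)
  e1 : ∃ x : G, C1(x).index = m * n
  e2 : ∃ x : G, C1(x).index = n * l
  e3 : ∃ x : G, C1(x).index = l * m

local notation "π" => QuotientGroup.mk' (center G)

theorem ix_map : (C1(x).map π).index = C1(x).index :=
  index_map_eq _ (QuotientGroup.mk'_surjective _) (by rw [QuotientGroup.ker_mk']; exact Z_le_C1)
omit [Finite G] in
theorem map_le : C1(x).map π ≤ C1(π x) := by
  rintro _ ⟨y, hy, rfl⟩
  exact mem_C1.2 (by rw [← map_mul, mem_C1.1 hy, map_mul])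
theorem ix_dvd : C1(π x).index ∣ C1(x).index := ix_map (x := x) ▸ index_dvd_of_le map_le
theorem lift (h : C1(π x).index = C1(x).index) (hw : π w ∈ C1(π x)) : w ∈ C1(x) := by
  have : C1(x).map π = C1(π x) := eq_of_card_eq map_le (Nat.eq_of_mul_eq_mul_right
    (Nat.pos_of_ne_zero (FiniteIndex.index_ne_zero (H := C1(π x)))) (by
      rw [card_mul_index, h.trans ix_map.symm, card_mul_index]))
  obtain ⟨v, hv, e⟩ := this.ge hw
  obtain ⟨z, hz, rfl⟩ := (QuotientGroup.mk'_eq_mk' _).1 e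
  exact mul_mem hv (Z_le_C1 hz)
omit [Finite G] in
theorem pi_eq_one : π x = 1 ↔ x ∈ center G := QuotientGroup.eq_one_iff x

theorem nd (h : l.Coprime m) (h' : l.Coprime n) (l1 : 1 < l) : ¬ l ∣ m * n := fun d =>
  l1.ne' ((h.mul_right h').eq_one_of_dvd d)

namespace CS
variable (h : CS G l m n)
include h

omit [Finite G] in
theorem sw : CS G n m l :=
  ⟨h.mn.symm, h.ln.symm, h.lm.symm, h.n1, h.m2, h.l1, fun x => by
    have := h.all x; rw [mul_comm m l, mul_comm l n, mul_comm n m]; tauto, mul_comm l m ▸ h.e3, mul_comm l n ▸ h.e2,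
    mul_comm m n ▸ h.e1⟩

omit [Finite G] in
theorem eq_of (hy : y ∉ center G) (d : m * n ∣ C1(y).index ∨ C1(y).index ∣ m * n) : C1(y).index = m * n := by
  have m1 : 1 < m := by have := h.m2; omega
  have k1 := nd h.lm h.ln h.l1
  obtain e | e | e | e | e := h.all y
  · exact (hy (ix_eq_one.1 e)).elim
  · exact e
  all_goals rw [e] at d; obtain d | d := d
  · exact (nd h.mn h.lm.symm m1 ((dvd_mul_right _ _).trans d)).elim
  · exact (k1 ((dvd_mul_left _ _).trans d)).elim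
  · exact (nd h.ln.symm h.mn.symm h.n1 ((dvd_mul_left _ _).trans d)).elim
  · exact (k1 ((dvd_mul_right _ _).trans d)).elim
  · exact absurd (Nat.le_of_dvd two_pos ((h.mn.mul_right h.lm.symm).dvd_of_dvd_mul_right
      ((dvd_mul_right _ _).trans d))) h.m2.not_ge
  · exact (k1 (((dvd_mul_left _ _).mul_left 2).trans d)).elim

theorem isol (e : C1(x).index = m * n) : Isol C1(x) := fun y hy d => by
  have k := (h.eq_of hy (e ▸ d.imp index_dvd_of_le index_dvd_of_le)).trans e.symm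
  have : Nat.card C1(y) = Nat.card C1(x) := Nat.eq_of_mul_eq_mul_right
    (Nat.pos_of_ne_zero (FiniteIndex.index_ne_zero (H := C1(x)))) (by rw [card_mul_index, ← k, card_mul_index])
  exact d.elim (eq_of_card_eq · this) fun d => (eq_of_card_eq d this.symm).symm

theorem prime (e : (center G).index = l * m * n * s) (hr : r.Prime) (rs : r ∣ s) : r ∣ l := by
  obtain ⟨x, hx⟩ := h.e1
  obtain ⟨y, hy⟩ := h.e2
  obtain ⟨w, hw⟩ := h.e3
  have := h.m2
  have := h.n1
  refine (h.isol hx).prime (fun c => (Nat.one_lt_mul_iff.2 ⟨by omega, by omega, by omega⟩).ne'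
    (hx.symm.trans (ix_eq_one.2 c))) (Nat.eq_of_mul_eq_mul_right (show 0 < m * n by positivity) ?_) hr rs h.l1.ne'
    h.mn hw (hy.trans (mul_comm n l)) (fun c => nd h.lm h.ln h.l1 (hx ▸ c ▸ hw ▸ dvd_mul_right _ _))
    fun c => nd h.lm h.ln h.l1 (hx ▸ c ▸ hy ▸ dvd_mul_left _ _)
  rw [← hx, relIndex_mul_index Z_le_C1, e, hx]; ring

theorem card : Nat.card (G ⧸ center G) = l * m * n := by
  obtain ⟨x, hx⟩ := h.e1
  obtain ⟨w, hw⟩ := h.e3
  obtain ⟨s, e⟩ : l * m * n ∣ (center G).index := by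
    rw [mul_assoc]
    exact (h.lm.mul_right h.ln).mul_dvd_of_dvd_of_dvd ((dvd_mul_right l m).trans (hw ▸ index_dvd_of_le Z_le_C1))
      (hx ▸ index_dvd_of_le Z_le_C1)
  obtain rfl : s = 1 := by
    by_contra c
    obtain ⟨r, hr, d⟩ := Nat.exists_prime_and_dvd c
    exact hr.ne_one (Nat.eq_one_of_dvd_coprimes h.ln (h.prime e hr d) (h.sw.prime (by rw [e]; ring) hr d))
  exact e.trans (mul_one _)

theorem card_map : Nat.card (C1(x).map π) * C1(x).index = l * m * n := by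
  rw [← ix_map, card_mul_index, h.card]

theorem tri : Tri (G ⧸ center G) l m n := ⟨h.card, h.lm, h.ln, h.mn, fun x => by
  obtain ⟨x, rfl⟩ := QuotientGroup.mk'_surjective _ x
  have k := pow_card_eq_one_of_mem (mem_map_of_mem π (C1_self (x := x)))
  have c := h.card_map (x := x)
  have := h.l1
  have := h.m2
  have := h.n1
  obtain e | e | e | e | e := h.all x
  · simp [pi_eq_one.2 (ix_eq_one.1 e), -QuotientGroup.mk'_apply]
  all_goals rw [e] at c
  · exact .inl (Nat.eq_of_mul_eq_mul_right (by positivity) (c.trans (mul_assoc ..)) ▸ k)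
  · exact .inr (.inl (Nat.eq_of_mul_eq_mul_right (by positivity) (c.trans (by ring : _ = m * (n * l))) ▸ k))
  · exact .inr (.inr (Nat.eq_of_mul_eq_mul_right (by positivity) (c.trans (mul_comm ..)) ▸ k))
  · refine .inr (.inl ?_)
    rw [← Nat.eq_of_mul_eq_mul_right (show 0 < n * l by positivity)
      ((mul_assoc _ 2 _).trans (c.trans (by ring : _ = m * (n * l)))), pow_mul, k, one_pow]⟩

theorem ix_eq (x1 : π x ≠ 1) (hx : π x ^ l = 1) : C1(x).index = m * n ∧ C1(π x).index = C1(x).index := by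
  have d := h.tri.idx x1 hx
  have e := h.eq_of (mt pi_eq_one.2 x1) (.inl (d.trans ix_dvd))
  exact ⟨e, Nat.dvd_antisymm ix_dvd (e ▸ d)⟩

theorem pow_of (e : C1(x).index = m * n) : π x ≠ 1 ∧ π x ^ l = 1 := by
  have := h.m2
  have := h.n1
  refine ⟨fun c => (Nat.one_lt_mul_iff.2 ⟨by omega, by omega, by omega⟩).ne'
    (e.symm.trans (ix_eq_one.2 (pi_eq_one.1 c))), ?_⟩
  have c := h.card_map (x := x)
  rw [e] at c
  exact Nat.eq_of_mul_eq_mul_right (by positivity) (c.trans (mul_assoc ..)) ▸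
    pow_card_eq_one_of_mem (mem_map_of_mem π (C1_self (x := x)))

theorem cen_l (x : G ⧸ center G) (x1 : x ≠ 1) (hx : x ^ l = 1) : Nat.card C1(x) = l := by
  obtain ⟨x, rfl⟩ := QuotientGroup.mk'_surjective _ x
  obtain ⟨e, f⟩ := h.ix_eq x1 hx
  refine Nat.eq_of_mul_eq_mul_right (Nat.pos_of_ne_zero (FiniteIndex.index_ne_zero (H := C1(π x)))) ?_
  rw [card_mul_index, h.card, f, e, mul_assoc]

theorem cen_m (hm : m = 2 * a) (x : G ⧸ center G) (x1 : x ≠ 1) (hx : x ^ m = 1) : a ∣ Nat.card C1(x) := by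
  obtain ⟨x, rfl⟩ := QuotientGroup.mk'_surjective _ x
  refine Dvd.dvd.trans ?_ (card_dvd map_le)
  have d := (h.tri.rot.idx x1 hx).trans ix_dvd
  have c := h.card_map (x := x)
  have := h.l1
  have := h.n1
  obtain e | e | e | e | e := h.all x
  · exact (x1 (pi_eq_one.2 (ix_eq_one.1 e))).elim
  · exact (nd h.lm h.ln h.l1 ((dvd_mul_left _ _).trans (e ▸ d))).elim
  · exact ⟨2, Nat.eq_of_mul_eq_mul_right (show 0 < n * l by positivity) (by rw [← e, c, e, hm]; ring)⟩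
  · exact (nd h.ln.symm h.mn.symm h.n1 ((dvd_mul_right _ _).trans (e ▸ d))).elim
  · exact dvd_of_eq (Nat.eq_of_mul_eq_mul_right (show 0 < 2 * (n * l) by positivity) (by rw [← e, c, e, hm]; ring))

theorem abel (hA : ∀ y : G ⧸ center G, y ≠ 1 → y ^ l = 1 → Abel C1(y)) (e : C1(x).index = m * n) : Abel C1(x) :=
  cent_iff.2 fun w hw y hy => by
    by_cases yZ : y ∈ center G
    · exact mem_center_iff.1 yZ w
    obtain ⟨x1, hx⟩ := h.pow_of e
    have y1 := mt pi_eq_one.1 yZ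
    have my := map_le (mem_map_of_mem π hy)
    exact mem_C1.1 (lift (h.ix_eq y1 (h.tri.pw x1 hx my)).2
      (mem_C1.2 (comm_of_cent (hA _ x1 hx) (map_le (mem_map_of_mem π hw)) my)))
end CS

theorem tr (hz : z ∈ center G) (hz' : z ∈ commutator G) (h : ∀ w ∈ ⁅K, K⁆, w ∈ center G → w = 1) :
    z ^ K.index = 1 := by
  have key : ∀ (k : ℕ) (g : G), g⁻¹ * z ^ k * g ∈ K → g⁻¹ * z ^ k * g = z ^ k := fun k g _ => by
    rw [mul_assoc, ← mem_center_iff.1 (pow_mem hz k) g, inv_mul_cancel_left]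
  have e := MonoidHom.transfer_eq_pow (Abelianization.of (G := K)) z key
  rw [MonoidHom.mem_ker.1 (Abelianization.commutator_subset_ker _ hz'), eq_comm, ← MonoidHom.mem_ker,
    Abelianization.ker_of] at e
  refine h _ ?_ (pow_mem hz _)
  rw [← map_subtype_commutator]
  exact mem_map_of_mem K.subtype e

theorem tr_abel (hz : z ∈ center G) (hz' : z ∈ commutator G) (h : Abel K) : z ^ K.index = 1 :=
  tr hz hz' fun _ hw _ => mem_bot.1 (h.der ▸ hw)

omit [Finite G] in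
theorem der_two (hY : Abel Y) (le : Y ≤ D) (i : Y.relIndex D = 2) (hu : u ∈ D) (un : u ∉ Y) (hw : w ∈ ⁅D, D⁆) :
    ∃ y ∈ Y, w = y⁻¹ * (u * y * u⁻¹) := by
  have cn : ∀ {g y}, g ∈ D → y ∈ Y → g * y * g⁻¹ ∈ Y := fun hg hy => H9.conj_mem_of_relIndex_two i le hg hy
  have cm : ∀ {x y}, x ∈ Y → y ∈ Y → x * y = y * x := fun hx hy => comm_of_cent hY hx hy
  let K : Subgroup G :=
    { carrier := {w | ∃ y ∈ Y, w = y⁻¹ * (u * y * u⁻¹)}
      mul_mem' := by
        rintro _ _ ⟨x, hx, rfl⟩ ⟨y, hy, rfl⟩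
        refine ⟨x * y, mul_mem hx hy, ?_⟩
        rw [mul_assoc x⁻¹, ← mul_assoc _ y⁻¹, cm (cn hu hx) (inv_mem hy), cm hx hy]
        nth_rw 2 [← cm hx hy]
        group
      one_mem' := ⟨1, one_mem _, by simp⟩
      inv_mem' := by
        rintro _ ⟨x, hx, rfl⟩
        refine ⟨x⁻¹, inv_mem hx, ?_⟩
        rw [inv_inv, cm hx (cn hu (inv_mem hx))]; group }
  have k : ∀ {g y}, g ∈ D → y ∈ Y → g * y * g⁻¹ * y⁻¹ ∈ K := fun {g y} hg hy => by
    by_cases c : g ∈ Y
    · rw [cm c hy]; simpa using one_mem K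
    obtain ⟨v, hv, rfl⟩ : ∃ v ∈ Y, g = v * u := ⟨_, H9.mul_inv_mem_of_relIndex_two i hg hu c un, by group⟩
    refine ⟨y, hy, ?_⟩
    rw [show v * u * y * (v * u)⁻¹ = v * (u * y * u⁻¹) * v⁻¹ by group, cm hv (cn hu hy), mul_inv_cancel_right,
      cm (cn hu hy) (inv_mem hy)]
  refine (commutator_le.2 fun g hg g' hg' => ?_ : ⁅D, D⁆ ≤ K) hw
  by_cases c : g' ∈ Y
  · exact k hg c
  by_cases c' : g ∈ Y
  · simpa [commutatorElement_def, mul_assoc] using inv_mem (k hg' c')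
  simpa [commutatorElement_def, mul_assoc] using k hg (H9.mul_inv_mem_of_relIndex_two i hg' hg c c')

theorem prod_of {L : Type*} [Group L] (e : G ⧸ center G ≃* L) (hp : commutator (G ⧸ center G) = ⊤)
    (h : ∀ z ∈ center G, z ∈ commutator G → z = 1) :
    ∃ N A : Subgroup G, N.Normal ∧ A ≤ center G ∧ N ⊓ A = ⊥ ∧ N ⊔ A = ⊤ ∧ Nonempty (N ≃* L) := by
  have m : (commutator G).map π = ⊤ := by
    rw [commutator_def, map_commutator, map_top_of_surjective _ (QuotientGroup.mk'_surjective _), ← commutator_def, hp]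
  refine ⟨commutator G, center G, inferInstance, le_rfl, eq_bot_iff.2 fun z hz => h z hz.2 hz.1, ?_,
    ⟨(MulEquiv.ofBijective ((π).comp (commutator G).subtype) ⟨(injective_iff_map_eq_one _).2 fun z hz =>
      Subtype.ext (h z (pi_eq_one.1 hz) z.2), fun x => ?_⟩).trans e⟩⟩
  · have := comap_map_eq π (commutator G)
    rwa [m, comap_top, QuotientGroup.ker_mk', eq_comm] at this
  · obtain ⟨y, hy, rfl⟩ := m.ge (mem_top x)
    exact ⟨⟨y, hy⟩, rfl⟩

theorem CS.of_range {L : Type*} [Group L] (h : CS L l m n)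
    (e : Set.range (fun g : G => C1(g).index) = Set.range fun g : L => C1(g).index) : CS G l m n :=
  ⟨h.lm, h.ln, h.mn, h.l1, h.m2, h.n1, fun x => by
    obtain ⟨y, f⟩ := e.le ⟨x, rfl⟩
    simpa only [show C1(y).index = C1(x).index from f] using h.all y, e.ge h.e1, e.ge h.e2, e.ge h.e3⟩

theorem Tri.exists_ix (h : Tri G l m n) (hB : ∃ B : Subgroup G, Abel B ∧ Nat.card B = l) (l1 : 1 < l) :
    ∃ x : G, C1(x).index = m * n := by
  obtain ⟨B, hB, e⟩ := hB
  obtain ⟨x, hx, x1⟩ := exists_mem_ne_one' ((one_lt_card_iff_ne_bot B).1 (e ▸ l1))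
  exact ⟨x, h.idx_eq (h.cen_eq hB e x1 (e ▸ pow_card_eq_one_of_mem hx)).2⟩

theorem OdL.toCS (h : OdL G q a b c u) : CS G q (2 * a) b := by
  have := h.toOd.b3
  have := h.five
  obtain ⟨t, ht⟩ := h.toOd.exists_inv
  exact ⟨h.lm, h.ln, h.mn, by omega, by omega, by omega,
    fun x => (h.sizes x).imp_left fun e => ix_eq_one.2 (by simp [e]), h.toTri.exists_ix h.P (by omega),
    ⟨t, h.toTri.rot.idx_eq (h.cenT ht)⟩, h.toTri.rot.rot.exists_ix h.B (by omega)⟩

theorem perf [IsSimpleGroup G] (h : ¬ IsMulCommutative G) : commutator G = ⊤ :=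
  (inferInstance : (commutator G).Normal).eq_bot_or_eq_top.resolve_left fun e =>
    h ⟨⟨fun a b => commutatorElement_eq_one_iff_mul_comm.1 (mem_bot.1 (e ▸ commutator_mem_commutator trivial trivial))⟩⟩

theorem CS.split_odd (h : CS G q (2 * a) b) {c u : G ⧸ center G} (hL : OdL (G ⧸ center G) q a b c u)
    (hz : z ∈ center G) (hz' : z ∈ commutator G) : z = 1 := by
  obtain ⟨x, hx⟩ := h.e1
  obtain ⟨t, ht⟩ := h.e2
  obtain ⟨w, hw⟩ := h.e3
  obtain ⟨P, hP, cP⟩ := hL.P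
  obtain ⟨B, hB, cB⟩ := hL.B
  have a1 := hx ▸ tr_abel hz hz' (h.abel (fun y y1 hy => (hL.toTri.cen_eq hP cP y1 hy).1) hx)
  have a2 := hw ▸ tr_abel hz hz' (h.sw.abel (fun y y1 hy => (hL.toTri.rot.rot.cen_eq hB cB y1 hy).1)
    (hw.trans (mul_comm ..)))
  have := h.l1
  have := h.n1
  have a3 := hL.toOd.b3
  have cT : Nat.card (C1(t).map π) = 2 * a :=
    Nat.eq_of_mul_eq_mul_right (show 0 < b * q by positivity) (by rw [← ht, h.card_map, ht]; ring)
  have t1 : π t ≠ 1 := fun c => (Nat.one_lt_mul_iff.2 ⟨by omega, by omega, by omega⟩).ne'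
    (ht.symm.trans (ix_eq_one.2 (pi_eq_one.1 c)))
  have tm := cT ▸ pow_card_eq_one_of_mem (mem_map_of_mem π (C1_self (x := t)))
  have t2 : orderOf (π t) = 2 := H9.orderOf_eq_two.2 ⟨by_contra fun c => by
    have := card_le (map_le (x := t))
    rw [cT, hL.cenA tm c] at this
    omega, t1⟩
  have lf := fun w => lift (w := w) ((hL.toTri.rot.idx_eq (hL.cenT t2)).trans ht.symm)
  obtain ⟨z', hz'', oz, -, k, i2, -, out⟩ := hL.dih
  obtain ⟨g, hg⟩ := k _ t2
  have eD : C1(t) = (cj g C1(z')).comap π := by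
    rw [cj_C1, ← hg]
    exact le_antisymm (map_le_iff_le_comap.1 map_le) lf
  have i : ((cj g (zpowers c)).comap π).relIndex C1(t) = 2 := by
    rw [eD, relIndex_comap, map_comap_eq_self_of_surjective (QuotientGroup.mk'_surjective _), relIndex_cj, i2]
  obtain ⟨v, hv, vn⟩ := H9.exists_notMem_of_relIndex_two i
  have a4 := ht ▸ tr hz hz' (K := C1(t)) fun w hw wZ => by
    obtain ⟨y, hy, rfl⟩ := der_two (Y := (cj g (zpowers c)).comap π) (cent_iff.2 fun x hx y hy => by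
      rw [cj_zpowers] at hx hy
      obtain ⟨d, e⟩ := QuotientGroup.mk'_surjective _ (g * c * g⁻¹)
      obtain ⟨i, hi⟩ := hx
      obtain ⟨j, hj⟩ := hy
      obtain ⟨x', hx', rfl⟩ := (QuotientGroup.mk'_eq_mk' _).1 (show π (d ^ i) = π x by rw [map_zpow, e]; exact hi)
      obtain ⟨y', hy', rfl⟩ := (QuotientGroup.mk'_eq_mk' _).1 (show π (d ^ j) = π y by rw [map_zpow, e]; exact hj)
      exact (((Commute.zpow_zpow_self d i j).mul_right (mem_center_iff.1 hy' _)).mul_left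
        (mem_center_iff.1 hx' _).symm))
      (eD ▸ comap_mono (cj_mono (abel_zpowers.trans (C_le_C1 hz'')))) i hv vn hw
    have hy' := mem_cj.1 hy
    have e := (out _ (mem_cj.1 (eD.le hv)) (fun j => vn (mem_cj.2 j))).2 _ hy'
    have f := pi_eq_one.2 wZ
    simp only [map_mul, map_inv, inv_mul_eq_one] at f
    have y2 : g⁻¹ * π y * g * (g⁻¹ * π y * g) = 1 := by
      rw [← eq_inv_iff_mul_eq_one, ← e]; nth_rw 1 [f]; group
    have : y ∈ center G ∨ π y = π t := or_iff_not_imp_left.2 fun c => by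
      rw [hg, ← inv_eq hy' hz'' (H9.orderOf_eq_two.2 ⟨y2, fun j => c (pi_eq_one.1 (by simpa [mul_eq_one_iff_eq_inv'] using j))⟩) oz]
      group
    have : v ∈ C1(y) := by
      obtain j | j := this
      · exact mem_C1.2 (mem_center_iff.1 j v)
      obtain ⟨s, hs, rfl⟩ := (QuotientGroup.mk'_eq_mk' _).1 j.symm
      exact mem_C1_comm.1 (mul_mem (mem_C1_comm.1 hv) (Z_le_C1 hs))
    rw [conj_eq_self_of_C1 this, inv_mul_cancel]
  have : z ^ (2 * a) = 1 := one_of_cop (h.ln.symm) (by rw [← pow_mul, a1]) (by rw [← pow_mul, mul_comm, a2])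
  exact one_of_cop (h.mn.mul_right h.lm.symm) this a4

section PSL
variable {F : Type*} [Field F] [Fintype F]

theorem cs_odd (o : Odd (Fintype.card F)) (h5 : 5 ≤ Fintype.card F)
    (e : Set.range (fun g : G => C1(g).index) = Set.range fun g : PSL(2, F) => C1(g).index) :
    Nonempty (G ⧸ center G ≃* PSL(2, F)) ∧
    ∃ N A : Subgroup G, N.Normal ∧ A ≤ center G ∧ N ⊓ A = ⊥ ∧ N ⊔ A = ⊤ ∧ Nonempty (N ≃* PSL(2, F)) := by
  obtain ⟨a, b, c, u, h⟩ := psl_od o h5
  have k := h.toCS.of_range e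
  have h' : Od (G ⧸ center G) _ a b := ⟨k.tri, h.add, h.ab, h.ev, h.five⟩
  obtain ⟨f⟩ := h'.psl (h'.c2n (k.cen_m rfl)) (F := F) rfl
  have := h'.simple
  exact ⟨⟨f⟩, prod_of f (perf h'.ncomm) fun z => k.split_odd (h.equiv f.symm)⟩

theorem ev_cs {k : ℕ} (hk : 2 ≤ k) (hF : Fintype.card F = 2 ^ k) : CS PSL(2, F) (2 ^ k) (2 ^ k - 1) (2 ^ k + 1) ∧
    ∀ x : PSL(2, F), x ≠ 1 → Abel C1(x) ∧ C1(x).index ≠ 2 * ((2 ^ k + 1) * 2 ^ k) := by
  obtain ⟨h, -, hA, hB⟩ := psl_ev hk hF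
  have hP := psl_unip (F := F)
  rw [hF] at hP
  have := H13.four_le hk
  have k' : ∀ x : PSL(2, F), x ≠ 1 → Abel C1(x) ∧ (C1(x).index = (2 ^ k - 1) * (2 ^ k + 1) ∨
      C1(x).index = (2 ^ k + 1) * 2 ^ k ∨ C1(x).index = 2 ^ k * (2 ^ k - 1)) := fun x x1 => by
    obtain ⟨P, hP, cP⟩ := hP
    obtain ⟨A, hA, cA⟩ := hA
    obtain ⟨B, hB, cB⟩ := hB
    obtain e | e | e := h.ord x
    · exact (h.cen_eq hP cP x1 e).imp_right fun j => .inl (h.idx_eq j)
    · exact (h.rot.cen_eq hA cA x1 e).imp_right fun j => .inr (.inl (h.rot.idx_eq j))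
    · exact (h.rot.rot.cen_eq hB cB x1 e).imp_right fun j => .inr (.inr (h.rot.rot.idx_eq j))
  refine ⟨⟨h.lm, h.ln, h.mn, by omega, by omega, by omega, fun x => or_iff_not_imp_left.2 fun x1 => ?_,
    h.exists_ix hP (by omega), h.rot.exists_ix hA (by omega), h.rot.rot.exists_ix hB (by omega)⟩,
    fun x x1 => (k' x x1).imp_right fun j => ?_⟩
  · have := (k' x fun e => x1 (ix_eq_one.2 (by simp [e]))).2
    tauto
  · obtain ⟨i, hi⟩ : ∃ i, 2 ^ k = i + 1 := ⟨2 ^ k - 1, by omega⟩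
    rw [hi, Nat.add_sub_cancel] at j
    rw [hi] at this ⊢
    obtain j | j | j := j <;> rw [j] <;> nlinarith

theorem cs_even {k : ℕ} (hk : 2 ≤ k) (hF : Fintype.card F = 2 ^ k)
    (e : Set.range (fun g : G => C1(g).index) = Set.range fun g : PSL(2, F) => C1(g).index) :
    ∃ N A : Subgroup G, N.Normal ∧ A ≤ center G ∧ N ⊓ A = ⊥ ∧ N ⊔ A = ⊤ ∧ Nonempty (N ≃* PSL(2, F)) := by
  obtain ⟨h, hA⟩ := ev_cs hk hF
  have h := h.of_range e
  have := H13.four_le hk
  obtain ⟨f⟩ := h.tri.psl_even hk hF rfl (lt_of_lt_of_le (by omega) (Nat.le_mul_of_pos_left _ (by omega)))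
    fun x => h.tri.sq_of_cen (by
      obtain ⟨i, hi⟩ : ∃ i, 2 ^ k = i + 1 := ⟨2 ^ k - 1, by omega⟩
      rw [hi, Nat.add_sub_cancel]; ring) (dvd_pow_self 2 (by omega)) h.cen_l
  have hA' : ∀ y : G ⧸ center G, y ≠ 1 → Abel C1(y) := fun y y1 => cent_iff.2 fun a ha b hb => f.injective (by
    rw [map_mul, map_mul]
    exact comm_of_cent (hA (f y) (by simpa using y1)).1 (mem_C1.2 (by rw [← map_mul, mem_C1.1 ha, map_mul]))
      (mem_C1.2 (by rw [← map_mul, mem_C1.1 hb, map_mul])))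
  have := H13.psl_simple (F := F) (by omega)
  have := f.isSimpleGroup
  refine prod_of f (perf fun c => H10.not_comm_PSL2 (F := F) ⟨⟨fun a b => f.symm.injective (by
    rw [map_mul, map_mul]; exact c.1.1 _ _)⟩⟩) fun z hz hz' => ?_
  have r : CS G (2 ^ k - 1) (2 ^ k + 1) (2 ^ k) := ⟨h.mn, h.lm.symm, h.ln.symm, by omega, by omega, by omega, fun x => by
    obtain ⟨y, j⟩ := e.le ⟨x, rfl⟩
    by_cases y1 : y = 1
    · exact .inl (j.symm.trans (ix_eq_one.2 (y1 ▸ one_mem _)))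
    have := h.all x
    have : C1(x).index ≠ _ := fun c => (hA y y1).2 (j.trans c)
    tauto, h.e2, h.e3, h.e1⟩
  obtain ⟨x, hx⟩ := h.e1
  obtain ⟨t, ht⟩ := h.e2
  obtain ⟨w, hw⟩ := h.e3
  have a1 := hx ▸ tr_abel hz hz' (h.abel (fun y y1 _ => hA' y y1) hx)
  have a2 := hw ▸ tr_abel hz hz' (h.sw.abel (fun y y1 _ => hA' y y1) (hw.trans (mul_comm ..)))
  have a3 := ht ▸ tr_abel hz hz' (r.abel (fun y y1 _ => hA' y y1) ht)
  have : z ^ (2 ^ k - 1) = 1 := one_of_cop (h.ln.symm) (by rw [← pow_mul, a1]) (by rw [← pow_mul, mul_comm, a2])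
  exact one_of_cop (h.mn.mul_right h.lm.symm) this a3
end PSL

end H326
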