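import Cfsg.Agent.H26.L2S
import Cfsg.Agent.H17.Part4
import Cfsg.Agent.H22.PGL4
import Cfsg.Agent.H16.MinNormal
import Cfsg.Agent.H9.MaxClass

/-! Socles of groups with solvable involution centralizers (`soc`, `soc_c2n`), and groups in which the subgroups of a
cyclic subgroup of even order have the same normalizer (`NH`, `NH.main`). -/

set_option autoImplicit false
set_option linter.unusedSectionVars false
set_option linter.unusedVariables false

namespace H326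
open Cfsg H18 Subgroup
open H5 (piNat_two_compl)
open H13 (two_elt)
open H10 (KPair)
open scoped MatrixGroups commutatorElement

variable {G : Type*} [Group G] [Finite G] {q : ℕ} {x y t c u z w g s : G} {N K X T S V : Subgroup G}

theorem inv_of_nml (hss : ∀ N : Subgroup G, N.Normal → Solv N → N = ⊥) [N.Normal] (h : N ≠ ⊥) :
    ∃ t ∈ N, orderOf t = 2 :=
  cauchy Nat.prime_two (by_contra fun c => h (hss N ‹_› (H21.solv_of_odd ((piNat_compl_iff Nat.prime_two).2 c))))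

theorem soc [Nontrivial G] (hss : ∀ N : Subgroup G, N.Normal → Solv N → N = ⊥)
    (cen : ∀ t : G, orderOf t = 2 → Solv C1(t)) :
    ∃ N : Subgroup G, N.Normal ∧ IsSimpleGroup N ∧ ¬ IsMulCommutative N ∧ C(N) = ⊥ := by
  classical
  obtain ⟨N, _, n1, -, n2⟩ := H16.exists_minimal_normal_le (⊤ : Subgroup G) top_ne_bot
  obtain ⟨t, tN, ht⟩ := inv_of_nml hss n1
  have ns : ¬ Solv N := fun c => n1 (hss N ‹_› c)
  obtain ⟨T, _, m, hT, m0, ⟨e⟩⟩ := H16.exists_pi_of_minimal_normal N n1 n2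
  have ncT : ¬ Group.IsSolvable T := fun c => ns (IsMulCommutative.casesOn (motive := fun _ => Solv N)
    (⟨⟨fun a b => e.injective (by ext i; simpa using IsSimpleGroup.comm_iff_isSolvable.2 c (e a i) (e b i))⟩⟩)
    fun h => (abel_of_comm ⟨h⟩).solv)
  obtain ⟨i, hi⟩ : ∃ i, e ⟨t, tN⟩ i ≠ 1 := by
    by_contra! c
    have : (⟨t, tN⟩ : N) = 1 := e.injective (by ext i; simpa using c i)
    simp [show t = 1 from congrArg Subtype.val this] at ht
  have u : ∀ j, j = i := fun j => by_contra fun c => by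
    let f : Fin m → T →* G := fun j => N.subtype.comp (e.symm.toMonoidHom.comp (MonoidHom.mulSingle (fun _ => T) j))
    have fi : ∀ j, Function.Injective (f j) := fun j =>
      N.subtype_injective.comp (e.symm.injective.comp (Pi.mulSingle_injective (M := fun _ => T) j))
    have o : orderOf (f i (e ⟨t, tN⟩ i)) = 2 := by
      rw [orderOf_injective _ (fi i)]
      refine orderOf_eq_prime ?_ hi
      rw [← Pi.pow_apply, ← map_pow, show (⟨t, tN⟩ : N) ^ 2 = 1 from Subtype.ext (ht ▸ pow_orderOf_eq_one t),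
        map_one, Pi.one_apply]
    have := cen _ o
    refine ncT (Group.isSolvable_of_isSolvable_injective (f := (f j).codRestrict
      (centralizer {f i (e ⟨t, tN⟩ i)}) fun x => mem_centralizer_singleton_iff.2 ?_)
      ((MonoidHom.injective_codRestrict ..).2 (fi j)))
    exact ((Pi.mulSingle_commute c x _).map (N.subtype.comp e.symm.toMonoidHom)).eq
  have : Unique (Fin m) := ⟨⟨i⟩, u⟩
  refine ⟨N, ‹_›, (e.trans (MulEquiv.funUnique _ T)).isSimpleGroup, fun c => ns (abel_of_comm c).solv,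
    by_contra fun c => ?_⟩
  obtain ⟨z, h1, h2⟩ := inv_of_nml hss c
  exact ns ((cen z h2).of_le fun x hx => mem_C1.2 (h1 x hx))

omit [Finite G] in
theorem c2n_sub [Finite N] [Finite G] (h : H13.C2N G) (t : N) (ht : orderOf t = 2) : HasNormalPComplement 2 C1(t) := by
  have o : orderOf (t : G) = 2 := by rwa [orderOf_coe]
  refine H4.pnil_subgroupOf ((hasNormalPComplement_iff Nat.prime_two).2
    (h t (H9.mul_self_of_orderOf o) (H9.ne_one_of_orderOf o))) ?_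
  rintro _ ⟨y, hy, rfl⟩
  exact mem_C1.2 (congrArg Subtype.val (mem_C1.1 hy))

/-- every nontrivial subgroup of a cyclic subgroup of even order has the same normalizer -/
def NH (G : Type*) [Group G] : Prop := ∀ x y g : G, Even (orderOf x) → y ∈ zpowers x → y ≠ 1 →
  g * y * g⁻¹ ∈ zpowers y → g * x * g⁻¹ ∈ zpowers x

theorem mem_N_zpowers : g ∈ N(zpowers x) ↔ g * x * g⁻¹ ∈ zpowers x :=
  ⟨fun h => conj_mem_N h (mem_zpowers x), fun h => mem_N_of_cj_le (by rwa [cj_zpowers, zpowers_le])⟩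

theorem comm_of_disj (hx : x ∈ T) (hg : g ∈ K) (h1 : g * x * g⁻¹ ∈ T) (h2 : x * g * x⁻¹ ∈ K) (h : T ⊓ K = ⊥) :
    g * x = x * g := by
  have : g * x * g⁻¹ * x⁻¹ = 1 := eq_one_of_eq_bot h (mem_inf.2 ⟨mul_mem h1 (inv_mem hx), by
    rw [show g * x * g⁻¹ * x⁻¹ = g * (x * g * x⁻¹)⁻¹ by group]; exact mul_mem hg (inv_mem h2)⟩)
  rwa [mul_inv_eq_one, mul_inv_eq_iff_eq_mul] at this

omit [Finite G] in
theorem abel_inv (h : ∀ x ∈ X, t * x * t⁻¹ = x⁻¹) : Abel X := cent_iff.2 fun a ha b hb =>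
  inv_injective (by rw [← h _ (mul_mem ha hb), ← conj_mul, h a ha, h b hb, mul_inv_rev])

namespace NH
variable (h : NH G)
include h

omit [Finite G] in
theorem inj {H : Type*} [Group H] (f : H →* G) (hf : Function.Injective f) : NH H := fun x y g ho ⟨i, hi⟩ y1 ⟨j, hj⟩ => by
  obtain ⟨k, hk⟩ := h (f x) (f y) (f g) (by rwa [orderOf_injective f hf]) ⟨i, by simp [← hi]⟩
    (by simpa [map_eq_one_iff f hf] using y1) ⟨j, by simpa using congrArg f hj⟩
  exact ⟨k, hf (by simpa using hk)⟩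

theorem cen (ht : t ∈ zpowers x) (t2 : t * t = 1) (t1 : t ≠ 1) (hg : g ∈ C1(t)) : g * x * g⁻¹ ∈ zpowers x :=
  h x t g (even_iff_two_dvd.2 (H9.orderOf_eq_two.2 ⟨t2, t1⟩ ▸ orderOf_dvd_of_mem_zpowers ht)) ht t1
    (by rw [conj_eq_self_of_C1 hg]; exact mem_zpowers t)

theorem odd1 (t2 : t * t = 1) (t1 : t ≠ 1) (ho : Odd (orderOf y)) (hy : y ∈ C1(t)) (hg : g ∈ C1(t)) :
    g * y * g⁻¹ ∈ zpowers y := by
  have c := (mem_C1.1 hy).symm
  have := mem_N_zpowers.2 (h.cen (mem_zpowers_mul_left c (two_elt t2) (piNat_two_compl.2 ho)) t2 t1 hg)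
  exact mem_N_zpowers.1 (cyc_zpowers.norm_sub (zpowers_le.2 (mem_zpowers_mul_right c (two_elt t2) (piNat_two_compl.2 ho)))
    (zpowers_le.2 this) (mem_zpowers g))

theorem odd2 (t2 : t * t = 1) (t1 : t ≠ 1) (ho : Odd (orderOf y)) (y1 : y ≠ 1) (hy : y ∈ C1(t))
    (hg : g * y * g⁻¹ ∈ zpowers y) : g ∈ C1(t) := by
  have c := (mem_C1.1 hy).symm
  have m := mem_zpowers_mul_left c (two_elt t2) (piNat_two_compl.2 ho)
  have o := H9.orderOf_eq_two.2 ⟨t2, t1⟩
  have := mem_N_zpowers.2 (h _ y g (even_iff_two_dvd.2 (o ▸ orderOf_dvd_of_mem_zpowers m))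
    (mem_zpowers_mul_right c (two_elt t2) (piNat_two_compl.2 ho)) y1 hg)
  exact mem_C1.2 (mul_inv_eq_iff_eq_mul.1 (inv_eq (conj_mem_N this m) m (by rw [orderOf_conj, o]) o))

theorem four (e : x * x = u) (u2 : u * u = 1) (u1 : u ≠ 1) (hg : g ∈ C1(u)) : g * x = x * g ∨ g * x = u * x * g := by
  have ux : u ∈ zpowers x := e ▸ mul_mem (mem_zpowers x) (mem_zpowers x)
  have m := h.cen ux u2 u1 hg
  have c := comm_of_cent abel_zpowers m (inv_mem (mem_zpowers x))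
  have k : g * x * g⁻¹ * x⁻¹ * (g * x * g⁻¹ * x⁻¹) = 1 := by
    rw [mul_assoc _ x⁻¹, ← mul_assoc x⁻¹, ← c, ← mul_assoc, ← mul_assoc, conj_mul, e, conj_eq_self_of_C1 hg, ← e]
    group
  by_cases j : g * x * g⁻¹ * x⁻¹ = 1
  · exact .inl (by rwa [mul_inv_eq_one, mul_inv_eq_iff_eq_mul] at j)
  · refine .inr ?_
    rw [← inv_eq (mul_mem m (inv_mem (mem_zpowers x))) ux (H9.orderOf_eq_two.2 ⟨k, j⟩) (H9.orderOf_eq_two.2 ⟨u2, u1⟩)]
    group

theorem c2n : H13.C2N G := fun t t2 t1 => pnil_of_mul fun x hx y hy ox oy =>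
  piNat_two_compl.1 ((PiGrp.sup_norm (PiElt.zpowers (piNat_two_compl.2 ox)) (PiElt.zpowers (piNat_two_compl.2 oy))
    (zpowers_le.2 (mem_N_zpowers.2 (h.odd1 t2 t1 oy hy hx)))).elt (mul_mem_sup (mem_zpowers x) (mem_zpowers y)))

theorem selfcent [hN : N.Normal] (aT : Abel T) (e2 : ∀ t ∈ T, t * t = 1) (T1 : T ≠ ⊥) (hC : N ⊓ C(T) ≤ T) (sN : s ∈ N)
    (sT : s ∈ N(T)) (so : Odd (orderOf s)) (fp : ∀ w ∈ T, w ∈ C1(s) → w = 1) : C(T) ≤ T := fun e he => by
  have v : e⁻¹ * (s * e * s⁻¹) ∈ T := hC (mem_inf.2 ⟨by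
    simpa [mul_assoc] using mul_mem (hN.conj_mem' s sN e) (inv_mem sN),
    mul_mem (inv_mem he) (conj_mem_N (norm_C (zpowers_le.2 sT) (mem_zpowers s)) he)⟩)
  obtain ⟨⟨w, hw⟩, k⟩ := (Finite.injective_iff_surjective (f := fun w : T =>
    (⟨(w : G)⁻¹ * (s * w * s⁻¹), mul_mem (inv_mem w.2) (conj_mem_N sT w.2)⟩ : T))).1 (fun a b j => by
      have j : (a : G)⁻¹ * (s * a * s⁻¹) = (b : G)⁻¹ * (s * b * s⁻¹) := congrArg Subtype.val j
      refine Subtype.ext (mul_inv_eq_one.1 (fp _ (mul_mem a.2 (inv_mem b.2)) (mem_C1.2 ?_)))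
      calc (a : G) * (b : G)⁻¹ * s = a * ((b : G)⁻¹ * (s * b * s⁻¹)) * (s * (b : G)⁻¹) := by group
        _ = _ := by rw [← j]; group) ⟨_, v⟩
  have k : w⁻¹ * (s * w * s⁻¹) = e⁻¹ * (s * e * s⁻¹) := congrArg Subtype.val k
  have es : e * w⁻¹ ∈ C1(s) := mem_C1.2 (by
    calc e * w⁻¹ * s = e * (w⁻¹ * (s * w * s⁻¹)) * (s * w⁻¹) := by group
      _ = _ := by rw [k]; group)
  by_cases e1 : e * w⁻¹ = 1
  · exact mul_inv_eq_one.1 e1 ▸ hw
  obtain ⟨y, hy, py⟩ := exists_prime_pow_elt e1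
  have yT : y ∈ C(T) := zpowers_le.2 (mul_mem he (aT (inv_mem hw))) hy
  have ys : s ∈ C1(y) := mem_C1_comm.1 (zpowers_le.2 es hy)
  obtain ⟨t, ht, t1⟩ := exists_mem_ne_one' T1
  refine (t1 (fp t ht ?_)).elim
  rcases py.eq_two_or_odd' with o | o
  · exact mem_C1.2 (comm_of_disj (mem_zpowers s) ht (h.odd1 (H9.mul_self_of_orderOf o) (H9.ne_one_of_orderOf o) so ys
      (mem_C1.2 (yT t ht))) (conj_mem_N sT ht)
      (PiGrp.inf_eq_bot' (PiElt.zpowers (piNat_two_compl.2 so)) (piGrp_of_elt fun t ht => two_elt (e2 t ht))))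
  · exact mem_C1_comm.1 (h.odd2 (e2 t ht) t1 o (ne_one_of_prime py) (C_le_C1 ht yT)
      (by rw [conj_eq_self_of_C1 ys]; exact mem_zpowers y))

theorem dih (hss : ∀ N : Subgroup G, N.Normal → Solv N → N = ⊥) (hS : Hall {2} S ⊤) (hC : C(S) ≤ S) (hc : c ∈ S)
    (i2 : (zpowers c).relIndex S = 2) (hz : z ∈ zpowers c) (z2 : z * z = 1) (z1 : z ≠ 1) (SK : S ≤ C1(z))
    (out : ∀ s ∈ S, s ∉ zpowers c → s * s = 1) : H117.IsL2 G ∨ H117.IsPGL2 G := by
  have hA := h.c2n z z2 z1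
  set A := O[{2}ᶜ](C1(z))
  have ao : ∀ {a}, a ∈ A → Odd (orderOf a) := fun ha => piNat_two_compl.1 (hA.pi.elt ha)
  have cS := zpowers_le.2 hc
  have pY : PiGrp {2} (zpowers c) := hS.pi.of_le cS
  have ca : ∀ {a}, a ∈ A → a * c = c * a := fun ha => comm_of_disj (mem_zpowers c) (mem_zpowers _)
    (h.cen hz z2 z1 (hA.le ha)) (h.odd1 z2 z1 (ao ha) (hA.le ha) (SK hc))
    (pY.inf_eq_bot (hA.pi.elt ha).zpowers)
  have iY : ∀ s ∈ S, s ∉ zpowers c → ∀ y ∈ zpowers c, s * y * s⁻¹ = y⁻¹ := fun s hs sn y hy => by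
    have := out (y * s) (mul_mem (cS hy) hs) fun j => sn ((mul_mem_cancel_left hy).1 j)
    exact eq_inv_of_mul_eq_one_right (by rw [H9.inv_eq_of_mul_self (out s hs sn), ← this]; group)
  have iA : ∀ s ∈ S, s ∉ zpowers c → ∀ a ∈ A, s * a * s⁻¹ = a⁻¹ := fun s hs sn a ha => by
    have m := h.odd1 z2 z1 (ao ha) (hA.le ha) (SK hs)
    have mA := mul_mem ha (zpowers_le.2 ha m)
    have k : a * (s * a * s⁻¹) * s = s * (a * (s * a * s⁻¹)) := by
      nth_rw 2 [comm_of_cent abel_zpowers (mem_zpowers a) m]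
      rw [H9.inv_eq_of_mul_self (out s hs sn)]
      simp [← mul_assoc, out s hs sn, mul_assoc _ s s]
    have : a * (s * a * s⁻¹) ∈ S := hC (mem_C.2 fun w hw => by
      have j : zpowers c ≤ C1(a * (s * a * s⁻¹)) := zpowers_le.2 (mem_C1.2 (ca mA).symm)
      by_cases wc : w ∈ zpowers c
      · exact mem_C1.1 (j wc)
      · simpa using mem_C1.1 (mul_mem (j (H9.mul_inv_mem_of_relIndex_two i2 hw hs wc sn)) (mem_C1.2 k.symm)))
    exact eq_inv_of_mul_eq_one_right ((hS.pi.elt this).eq_one' (hA.pi.elt mA))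
  obtain ⟨s0, hs0, sn0⟩ := H9.exists_notMem_of_relIndex_two i2
  have AY : A ≤ C(zpowers c) := by rw [C_zpowers]; exact fun a ha => mem_C1.2 (ca ha)
  have aH : Abel (A ⊔ zpowers c) := (abel_inv (iA s0 hs0 sn0)).sup abel_zpowers AY
  have dec : ∀ g ∈ C1(z), g ∉ A ⊔ zpowers c → ∃ a ∈ A, ∃ s ∈ S, s ∉ zpowers c ∧ g = a * s := fun g hg gn => by
    rw [← (hS.of_le SK le_top).sup_compl hA, sup_comm, mem_sup_of_norm' (SK.trans pcore_nml.norm)] at hg
    obtain ⟨a, ha, s, hs, rfl⟩ := hg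
    exact ⟨a, ha, s, hs, fun j => gn (mul_mem_sup ha j), rfl⟩
  have out' : ∀ g ∈ C1(z), g ∉ A ⊔ zpowers c → g * g = 1 ∧ ∀ x ∈ A ⊔ zpowers c, g * x * g⁻¹ = x⁻¹ := fun g hg gn => by
    obtain ⟨a, ha, s, hs, sn, rfl⟩ := dec g hg gn
    refine ⟨by rw [show a * s * (a * s) = a * (s * a * s⁻¹) * (s * s) by group, iA s hs sn a ha, out s hs sn]; simp,
      fun x hx => ?_⟩
    have : s * x * s⁻¹ = x⁻¹ := by
      obtain ⟨b, hb, y, hy, rfl⟩ := (mem_sup_of_norm (cent_norm AY)).1 hx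
      rw [← conj_mul, iA s hs sn b hb, iY s hs sn y hy, ← mul_inv_rev, comm_of_cent AY hb hy]
    rw [show a * s * x * (a * s)⁻¹ = a * (s * x * s⁻¹) * a⁻¹ by group, this,
      comm_of_cent aH (mem_sup_left ha) (inv_mem hx), mul_inv_cancel_right]
  have HK : A ⊔ zpowers c ≤ C1(z) := sup_le hA.le (cS.trans SK)
  have uq : ∀ v ∈ A ⊔ zpowers c, orderOf v = 2 → v = z := fun v hv o =>
    inv_eq ((hall_of_sup' pY hA.pi (.inr (cent_norm AY))).mem_of_nml (aH.norm le_sup_right) hv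
      (two_elt (H9.mul_self_of_orderOf o))) hz o (H9.orderOf_eq_two.2 ⟨z2, z1⟩)
  refine H117.dih z2 z1 (mem_sup_right hz) aH out' (fun g hg g' hg' gn gn' => ?_) (fun g x hx x1 hg => ?_) hS SK
    (hss _ fit_nml.normal fit_nil.solv) fun c => z1 (eq_one_of_eq_bot (hss ⊤ inferInstance c) trivial)
  · obtain ⟨a, ha, s, hs, sn, rfl⟩ := dec g hg gn
    obtain ⟨b, hb, r, hr, rn, rfl⟩ := dec g' hg' gn'
    rw [show a * s * (b * r) = a * (s * b * s⁻¹) * (s * r) by group, iA s hs sn b hb]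
    exact mul_mem_sup (mul_mem ha (inv_mem hb)) (H9.mul_mem_of_relIndex_two i2 hs hr sn rn)
  obtain ⟨y, hy, py⟩ := exists_prime_pow_elt x1
  have yH := zpowers_le.2 hx hy
  have yH' : g * y * g⁻¹ ∈ A ⊔ zpowers c := zpowers_le.2 hg (by rw [← cj_zpowers]; exact conj_mem_cj hy)
  rcases py.eq_two_or_odd' with o | o
  · have := uq _ yH' (by rw [orderOf_conj, o])
    rw [uq y yH o] at this
    exact mem_C1.2 (mul_inv_eq_iff_eq_mul.1 this)
  have e : g * z * g⁻¹ * (g * y * g⁻¹) * (g * z * g⁻¹)⁻¹ = g * y * g⁻¹ :=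
    conj_eq_self_of_C1 (by rw [← cj_C1]; exact conj_mem_cj (mem_C1_comm.1 (HK yH)))
  have m := h.odd2 z2 z1 (y := g * y * g⁻¹) (by rwa [orderOf_conj]) (by simpa using ne_one_of_prime py) (HK yH')
    (by rw [e]; exact mem_zpowers _)
  refine mem_C1.2 (mul_inv_eq_iff_eq_mul.1 (uq _ (by_contra fun j => ?_)
    (by rw [orderOf_conj, H9.orderOf_eq_two.2 ⟨z2, z1⟩])))
  rw [(out' _ m j).2 _ yH', inv_eq_iff_mul_eq_one, conj_mul, conj_eq_one_iff] at e
  exact ne_one_of_prime py ((two_elt e).eq_one' (piNat_two_compl.2 o))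

theorem odd_case (hss : ∀ N : Subgroup G, N.Normal → Solv N → N = ⊥) [N.Normal] (k : KPair x y) (sN : s ∈ N)
    (s3 : s ^ 3 = 1) (sx : s * x * s⁻¹ = x * y) (sy : s * y * s⁻¹ = x)
    (hC : ∀ g ∈ N, g * x = x * g → g * y = y * g → g ∈ closure {x, y}) : H117.IsL2 G ∨ H117.IsPGL2 G := by
  set V := closure ({x, y} : Set G)
  have xV : x ∈ V := subset_closure (by simp)
  have yV : y ∈ V := subset_closure (by simp)
  have e2 : ∀ t ∈ V, t * t = 1 := fun t ht => by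
    obtain rfl | rfl | rfl | rfl := k.mem_closure_iff.1 ht
    exacts [one_mul 1, k.xx, k.yy, by rw [mul_assoc, k.yxg, k.xxy, k.yy]]
  have aV : Abel V := cent_iff.2 fun a ha b hb => by
    rw [← H9.inv_eq_of_mul_self (e2 _ (mul_mem ha hb)), mul_inv_rev, H9.inv_eq_of_mul_self (e2 a ha),
      H9.inv_eq_of_mul_self (e2 b hb)]
  have sxy : s * (x * y) * s⁻¹ = y := by rw [← conj_mul, sx, sy, mul_assoc, k.comm, k.xxy]
  have CV := h.selfcent aV e2 (ne_bot_of_mem xV k.x1) (fun g hg => hC g hg.1 (hg.2 x xV).symm (hg.2 y yV).symm) sN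
    (mem_N_of_finite fun t ht => by
      obtain rfl | rfl | rfl | rfl := k.mem_closure_iff.1 ht
      exacts [by simp, sx ▸ mul_mem xV yV, sy ▸ xV, sxy.symm ▸ yV])
    ((by decide : Odd 3).of_dvd_nat (orderOf_dvd_of_pow_eq_one s3)) fun w hw ws => by
      have := conj_eq_self_of_C1 (mem_C1_comm.1 ws)
      obtain rfl | rfl | rfl | rfl := k.mem_closure_iff.1 hw
      exacts [rfl, (k.y1 (by simpa [sx] using this)).elim, (k.ne (sy.symm.trans this)).elim,
        (k.x1 (by simpa [sxy] using this)).elim]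
  obtain ⟨S, hS, VS⟩ := exists_sylow_le Nat.prime_two (piGrp_of_elt fun t ht => two_elt (e2 t ht)) (le_top (a := V))
  have CS := (C_anti VS).trans (CV.trans VS)
  by_cases ab : Abel S
  · obtain rfl : V = S := le_antisymm VS ((ab.trans (C_anti VS)).trans CV)
    exact h.dih hss hS CS xV (relIndex_eq_of_mul (zpowers_le.2 xV) (by
      rw [k.card_closure, card_zpowers', H9.orderOf_eq_two.2 ⟨k.xx, k.x1⟩])) (mem_zpowers x) k.xx k.x1
      (ab.trans (C_le_C1 xV)) fun s hs _ => e2 s hs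
  obtain ⟨v, hv, le⟩ : ∃ v ∈ V, S ⊓ C1(v) ≤ V := by
    obtain ⟨z, hz, z1⟩ := exists_mem_ne_one' (hS.pi.nil.Z_ne_bot (ne_bot_of_mem (VS xV) k.x1))
    have j : ∀ g ∈ S, g * z = z * g := fun g hg => hz.2 g hg
    have i : ∀ {g}, g * x = x * g → g * y = y * g → g ∈ V := fun a b => CV (by
      rw [centralizer_closure]; rintro _ (rfl | rfl); exacts [a.symm, b.symm])
    obtain rfl | rfl | rfl | rfl := k.mem_closure_iff.1 (CV (C_anti VS hz.2))
    · exact (z1 rfl).elim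
    · exact ⟨y, yV, fun g hg => i (j g hg.1) (mem_C1.1 hg.2)⟩
    · exact ⟨x, xV, fun g hg => i (mem_C1.1 hg.2) (j g hg.1)⟩
    · refine ⟨x, xV, fun g hg => i (mem_C1.1 hg.2) (mul_left_cancel (a := x) ?_)⟩
      rw [← mul_assoc, ← mem_C1.1 hg.2, mul_assoc, j g hg.1, mul_assoc]
  obtain ⟨n, c, mc⟩ := H9.mc_of_card_centralizer hS.pi.isPGroup (VS hv) ((card_le le).trans k.card_closure.le)
    fun c => ab (abel_of_comm c)
  have SK : S ≤ C1(c ^ 2 ^ (n + 1)) := fun g hg => mem_C1.2 (mc.commute_u hg)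
  refine h.dih hss hS CS mc.xmem mc.idx mc.u_mem_x mc.u_mul_u mc.u_ne_one SK ?_
  obtain d | d | ⟨n1, d⟩ := mc.cases
  · exact d
  · have j : ∀ t ∈ V, t ≠ 1 → t = c ^ 2 ^ (n + 1) := fun t ht t1 => (mc.eq_one_or_eq_u (by_contra fun j =>
      mc.u_ne_one ((d t (VS ht) j).symm.trans (e2 t ht))) (e2 t ht)).resolve_left t1
    exact (k.ne ((j x xV k.x1).trans (j y yV k.y1).symm)).elim
  obtain ⟨r, hr, rn, r2⟩ := mc.sd_exists d
  have rn' : c * r ∉ zpowers c := fun j => rn ((mul_mem_cancel_left (mem_zpowers c)).1 j)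
  have hr' := mul_mem mc.xmem hr
  have e := d _ hr' rn'
  obtain j | j := h.four ((mc.sd_sq d hr rn).trans (by rw [r2, mul_one])) mc.u_mul_u mc.u_ne_one (SK mc.xmem)
  · exact (mc.not_commute hr' rn' j.symm).elim
  · rw [mul_assoc (c ^ _), mul_inv_eq_iff_eq_mul.1 e, ← mul_assoc (c ^ _), ← mul_assoc (c ^ _),
      ← (mc.commute_u (inv_mem mc.xmem)).eq, mul_assoc c⁻¹, mc.u_mul_u, mul_one, mul_left_inj] at j
    exact (mc.sq_ne_one (by rw [sq]; nth_rw 1 [j]; simp)).elim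

theorem even_case (hss : ∀ N : Subgroup G, N.Normal → Solv N → N = ⊥) [hN : N.Normal] (aT : Abel T)
    (e2 : ∀ t ∈ T, t * t = 1) (c8 : 4 < Nat.card T) (hT : Hall {2} T N) (hC : ∀ t ∈ T, t ≠ 1 → N ⊓ C1(t) ≤ T)
    (tr : ∀ t ∈ T, ∀ v ∈ T, t ≠ 1 → v ≠ 1 → ∃ b ∈ N ⊓ N(T), b * t * b⁻¹ = v) : H117.IsL2 G := by
  have T1 : T ≠ ⊥ := (one_lt_card_iff_ne_bot T).1 (by omega)
  have nc : ∀ x, T ≠ zpowers x := fun x e => by
    have := orderOf_le_of_pow_eq_one two_pos (show x ^ 2 = 1 by rw [sq]; exact e2 x (e ▸ mem_zpowers x))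
    rw [e, card_zpowers'] at c8
    omega
  obtain ⟨t, ht, t1⟩ := exists_mem_ne_one' T1
  have CT : C(T) ≤ T := by
    obtain ⟨v, hv, vn⟩ := SetLike.not_le_iff_exists.1 fun j => nc t (le_antisymm j (zpowers_le.2 ht))
    obtain ⟨b, hb, e⟩ := tr t ht v hv t1 fun j => vn (j ▸ one_mem _)
    refine h.selfcent aT e2 T1 ((inf_le_inf_left N (C_le_C1 ht)).trans (hC t ht t1)) (piPart_mem (π := {2}ᶜ) hb.1)
      (piPart_mem hb.2) (piNat_two_compl.1 piElt_piPart) fun w hw ws => by_contra fun w1 => vn ?_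
    have : b ∈ T := mem_of_parts (π := {2}) (hT.le_of_norm (zpowers_le.2 (piPart_mem hb.1)) piElt_piPart.zpowers
      (.inl (zpowers_le.2 (piPart_mem hb.2))) (mem_zpowers _)) (hC w hw w1 ⟨piPart_mem hb.1, mem_C1_comm.1 ws⟩)
    rw [← e, comm_of_cent aT this ht, mul_inv_cancel_right]
    exact mem_zpowers t
  obtain ⟨S, hS, TS⟩ := exists_sylow_le Nat.prime_two hT.pi le_top
  have eT : T = S ⊓ N := hT.eq_of_le' (hS.inf_nml nml_top) (le_inf TS hT.le)
  have nT : S ≤ N(T) := fun g hg => mem_N_of_finite fun w hw =>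
    eT.ge ⟨conj_mem_N (le_N hg) (TS hw), hN.conj_mem w (hT.le hw) g⟩
  have k : ∀ x ∈ N(T), x * x ∈ T → x * x ≠ 1 → ∀ A ≤ T, Nat.card A ≤ Nat.card (A ⊓ C1(x) : Subgroup G) * 2 :=
    fun x xn x2 x1 A hA => by
      rw [← H9.orderOf_eq_two.2 ⟨e2 _ x2, x1⟩, ← card_zpowers']
      refine H3.card_le_mul_of_comm fun a ha => ?_
      obtain j | j := h.four rfl (e2 _ x2) x1 (aT.trans (C_le_C1 x2) (hA ha))
      · rw [commutatorElement_eq_one_iff_mul_comm.2 j]; exact one_mem _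
      · rw [commutatorElement_def, j, show x * x * x * a * a⁻¹ * x⁻¹ = x * x by group]; exact mem_zpowers _
  have ST : S ≤ T := fun s0 hs0 => by_contra fun sn0 => by
    classical
    obtain ⟨s, hs, sn, s2⟩ : ∃ s ∈ S, s ∉ T ∧ s * s ∈ T := by
      have ex : ∃ j, s0 ^ 2 ^ j ∈ T := let ⟨j, e⟩ := hS.pi.isPGroup ⟨s0, hs0⟩
        ⟨j, (show s0 ^ 2 ^ j = 1 from congrArg Subtype.val e) ▸ one_mem _⟩
      obtain ⟨j, e⟩ := Nat.exists_eq_succ_of_ne_zero (n := Nat.find ex) fun e =>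
        sn0 (by simpa [e] using Nat.find_spec ex)
      exact ⟨_, pow_mem hs0 _, Nat.find_min ex (m := j) (by omega), by
        rw [← sq, ← pow_mul, ← pow_succ, ← Nat.succ_eq_add_one, ← e]; exact Nat.find_spec ex⟩
    obtain ⟨x, hx, xn, x2, x1⟩ : ∃ x ∈ S, x ∉ T ∧ x * x ∈ T ∧ x * x ≠ 1 := by
      by_contra! c
      refine sn (CT (mem_C.2 fun v hv => ?_))
      have := c (v * s) (mul_mem (TS hv) hs) (fun j => sn ((mul_mem_cancel_left hv).1 j)) (by
        rw [show v * s * (v * s) = v * (s * v * s⁻¹) * (s * s) by group]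
        exact mul_mem (mul_mem hv (conj_mem_N (nT hs) hv)) s2)
      rw [← H9.inv_eq_of_mul_self this, mul_inv_rev, H9.inv_eq_of_mul_self (c s hs sn s2), H9.inv_eq_of_mul_self (e2 v hv)]
    obtain ⟨v, hv, vn⟩ := SetLike.not_le_iff_exists.1 fun j : T ≤ C1(x) => xn (CT (mem_C.2 fun v hv => mem_C1.1 (j hv)))
    obtain ⟨b, hb, e⟩ := tr _ x2 v hv x1 fun j => vn (j ▸ one_mem _)
    have k1 := k x (nT hx) x2 x1 T le_rfl
    have k2 := k (b * x * b⁻¹) (mul_mem (mul_mem hb.2 (nT hx)) (inv_mem hb.2)) (by rwa [conj_mul, e])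
      (by rwa [conj_mul, Ne, conj_eq_one_iff]) (T ⊓ C1(x)) inf_le_left
    obtain ⟨w, hw, w1⟩ := exists_mem_ne_one' ((one_lt_card_iff_ne_bot (T ⊓ C1(x) ⊓ C1(b * x * b⁻¹))).1 (by omega))
    have m : x⁻¹ * (b * x * b⁻¹) ∈ T := hC w hw.1.1 w1 (mem_inf.2 ⟨by
      simpa [mul_assoc] using mul_mem (hN.conj_mem' b hb.1 x) (inv_mem hb.1),
      mul_mem (inv_mem (mem_C1_comm.1 hw.1.2)) (mem_C1_comm.1 hw.2)⟩)
    have : b * x * b⁻¹ ∈ C1(v) := by
      rw [← e, ← cj_C1]; exact conj_mem_cj (mem_C1.2 (mul_assoc ..).symm)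
    exact vn (mem_C1_comm.1 (by
      rw [show x = b * x * b⁻¹ * (x⁻¹ * (b * x * b⁻¹))⁻¹ by group]
      exact mul_mem ‹_› (inv_mem (aT.trans (C_le_C1 hv) m))))
  obtain rfl := le_antisymm TS ST
  obtain ⟨P, rfl⟩ := hS.exists_sylow_top Nat.prime_two
  obtain ⟨F, _, _, e, f⟩ := Cfsg.Agent.S1230.result P (fun c => let ⟨x, e⟩ := Cyc.gen c; nc x e.symm)
    (fun c => T1 (hss _ c aT.solv)) fun t ht => by
      obtain ⟨g, -, hg⟩ := sylow_le_cj' Nat.prime_two hS (two_elt (H9.mul_self_of_orderOf ht)).zpowers le_top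
      obtain ⟨t, tP, rfl⟩ := mem_cj'.1 (hg (mem_zpowers t))
      rw [orderOf_conj] at ht
      have t1 := H9.ne_one_of_orderOf ht
      have le := aT.trans (C_le_C1 tP)
      have : C1(t) = P := hS.eq_of_le le le_top (piGrp_of_prime_elt fun y hy py => py.eq_two_or_odd'.resolve_right fun o =>
        ne_one_of_prime py ((hS.pi.elt (CT (mem_C.2 fun w hw => ?_))).eq_one' (piNat_two_compl.2 o)))
      · rw [← cj_C1, this]
        exact ⟨(aT.cj g).comm, fun c hc => by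
          obtain ⟨c, hc', rfl⟩ := mem_cj'.1 hc
          rw [sq, conj_mul, e2 c hc']; simp⟩
      refine comm_of_disj (mem_zpowers y) hw (h.odd1 (e2 t tP) t1 o hy (le hw))
        (hC t tP t1 ⟨hN.conj_mem w (hT.le hw) y, conj_mem_N (le_N hy) (le hw)⟩)
        ((PiElt.zpowers (piNat_two_compl.2 o)).inf_eq_bot' hS.pi)
  exact ⟨F, _, _, by omega, f⟩

theorem not_A7 (e : G ≃* alternatingGroup (Fin 7)) : False := by
  have m : ∀ a b c d : Fin 7, a ≠ b → c ≠ d → Equiv.swap a b * Equiv.swap c d ∈ alternatingGroup (Fin 7) :=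
    fun a b c d h1 h2 => by simp [Equiv.Perm.mem_alternatingGroup, h1, h2]
  obtain ⟨t, y, g, t2, t1, y3, y1, yt, gy, gt⟩ : ∃ t y g : alternatingGroup (Fin 7), t.1 * t.1 = 1 ∧ t.1 ≠ 1 ∧
      y.1 ^ 3 = 1 ∧ y.1 ≠ 1 ∧ y.1 * t.1 = t.1 * y.1 ∧ g.1 * y.1 = y.1 * g.1 ∧ g.1 * t.1 ≠ t.1 * g.1 := by
    refine ⟨⟨Equiv.swap 0 1 * Equiv.swap 2 3, m _ _ _ _ (by decide) (by decide)⟩,
      ⟨Equiv.swap 4 5 * Equiv.swap 5 6, m _ _ _ _ (by decide) (by decide)⟩,
      ⟨Equiv.swap 0 1 * Equiv.swap 1 2, m _ _ _ _ (by decide) (by decide)⟩, ?_⟩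
    dsimp only
    decide
  exact gt (congrArg Subtype.val (mem_C1.1 ((h.inj e.symm.toMonoidHom e.symm.injective).odd2 (t := t) (y := y) (g := g)
    (Subtype.ext t2) (fun j => t1 (congrArg Subtype.val j))
    ((by decide : Odd 3).of_dvd_nat (orderOf_dvd_of_pow_eq_one (Subtype.ext y3))) (fun j => y1 (congrArg Subtype.val j))
    (mem_C1.2 (Subtype.ext yt)) (by rw [conj_eq_self_of_C1 (mem_C1.2 (Subtype.ext gy))]; exact mem_zpowers _))))
end NH

theorem exists_ne {F : Type*} [Field F] [Fintype F] (h : 2 < Fintype.card F) : ∃ a : F, a ≠ 0 ∧ a ≠ 1 := by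
  classical
  obtain ⟨a, -, ha⟩ := Finset.exists_mem_notMem_of_card_lt_card (s := ({0, 1} : Finset F)) (t := Finset.univ)
    (Finset.card_le_two.trans_lt h)
  exact ⟨a, by simpa using ha⟩

open H13.Sz in
theorem NH.not_Sz (h : NH G) (e : Lie.IsoSuzuki G) : False := by
  obtain ⟨F, _, _, m, hm, hF, ⟨e⟩⟩ := e
  have : IsSz F m := ⟨hm, hF⟩
  have f := (lieEquiv F m).trans e.symm
  have c2 : (2 : F) = 0 := by
    have := FiniteField.cast_card_eq_zero F
    rw [hF] at this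
    exact (pow_eq_zero_iff (n := 2 * m + 1) (by omega)).1 (by exact_mod_cast this)
  obtain ⟨a, a0, a1⟩ := exists_ne (F := F) (hF ▸ lt_of_lt_of_le (by decide) (H13.four_le (by omega)))
  have k := (h.inj f.toMonoidHom f.injective).four (x := u m 1 0) (u := u m 0 1) (g := u m a 0)
    (by rw [u_mul_u, u_inj]; grind) (by rw [u_mul_u, u_eq_one]; grind) (by simp [u_eq_one])
    (mem_C1.2 (by rw [u_mul_u, u_mul_u, u_inj]; simp))
  have t := th_th (m := m) a
  simp only [u_mul_u, u_inj, map_one, map_zero, map_add, zero_add, add_zero, mul_one, one_mul, mul_zero] at k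
  obtain ⟨-, k⟩ | ⟨-, k⟩ := k <;> rw [k] at t
  · grind
  · rw [map_add, map_one, k] at t; grind

theorem NH.not_L34 (h : NH G) (e : H13.IsL34 G) : False := by
  obtain ⟨F, _, _, hF, ⟨e⟩⟩ := e
  have c2 : (2 : F) = 0 := by
    have := FiniteField.cast_card_eq_zero F
    rw [hF] at this
    exact (pow_eq_zero_iff (n := 2) (by omega)).1 (by rw [← this]; norm_num)
  let U : F → F → F → SL(3, F) := fun a b c => ⟨!![1, a, c; 0, 1, b; 0, 0, 1], by simp [Matrix.det_fin_three]⟩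
  let P : F → F → F → PSL(3, F) := fun a b c => QuotientGroup.mk (U a b c)
  have Pm : ∀ a b c a' b' c', P a b c * P a' b' c' = P (a + a') (b + b') (c + c' + a * b') := fun a b c a' b' c' => by
    rw [← QuotientGroup.mk_mul]
    congr 1
    ext i j
    rw [Matrix.SpecialLinearGroup.coe_mul]
    fin_cases i <;> fin_cases j <;> simp [U, Matrix.mul_apply, Fin.sum_univ_three] <;> ring
  have P1 : P 0 0 0 = 1 := by
    refine congrArg QuotientGroup.mk (show U 0 0 0 = 1 from ?_)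
    ext i j
    fin_cases i <;> fin_cases j <;> simp [U]
  have Pi : ∀ {a b c a' b' c'}, P a b c = P a' b' c' → c = c' := fun {a b c a' b' c'} e => by
    obtain ⟨z, hz, e⟩ := (QuotientGroup.mk'_eq_mk' _).1 e
    obtain ⟨r, -, j⟩ := Matrix.SpecialLinearGroup.mem_center_iff.1 hz
    have e := congrArg Subtype.val e
    rw [Matrix.SpecialLinearGroup.coe_mul, ← j] at e
    have e1 := congrFun (congrFun e 0) 0
    have e2 := congrFun (congrFun e 0) 2
    simp [U] at e1 e2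
    simpa [e1] using e2
  obtain ⟨a, a0, a1⟩ := exists_ne (F := F) (by omega)
  have k := (h.inj e.symm.toMonoidHom e.symm.injective).four (x := P 1 1 0) (u := P 0 0 1) (g := P a 0 0)
    (by rw [Pm]; congr 1 <;> grind) (by rw [Pm, ← P1]; congr 1 <;> grind) (fun j => one_ne_zero (Pi (j.trans P1.symm)))
    (mem_C1.2 (by rw [Pm, Pm]; congr 1 <;> ring))
  simp only [Pm] at k
  obtain k | k := k <;> have := Pi k <;> grind

theorem Tri.one_class {l m n : ℕ} (h : Tri G l m n) (hm : m * n + 1 = l * l)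
    (hc : ∀ x : G, x ≠ 1 → x ^ l = 1 → Nat.card C1(x) = l) (t1 : t ≠ 1) (tl : t ^ l = 1) (x1 : x ≠ 1)
    (hx : x ^ l = 1) : ∃ g, g * t * g⁻¹ = x := by
  have dl : l ∣ Nat.card G := by rw [h.card, mul_assoc]; exact dvd_mul_right _ _
  obtain ⟨j, e1, e2⟩ := h.cnt ⊤
  have s := h.sum ⊤
  rw [card_top, Nat.gcd_eq_left dl] at e2
  rw [card_top, e1, h.card, mul_assoc, mul_comm] at s
  have jl : j < l := Nat.lt_of_mul_lt_mul_left (a := m * n) (by omega)
  have : (l : ℤ) ∣ j - 1 := by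
    have h2 : (l : ℤ) ∣ m * n * j + 1 := by exact_mod_cast Int.natCast_dvd_natCast.2 e2
    have := ((dvd_mul_right (l : ℤ) l).mul_right j).sub h2
    rwa [show (l : ℤ) * l = m * n + 1 by exact_mod_cast hm.symm,
      show ((m : ℤ) * n + 1) * j - (m * n * j + 1) = j - 1 by ring] at this
  have l2 : l ≠ 1 := by rintro rfl; exact t1 (by simpa using tl)
  obtain rfl : j = 1 := by
    have := Int.eq_zero_of_abs_lt_dvd this (abs_lt.2 ⟨by omega, by omega⟩)
    omega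
  have := Set.eq_of_subset_of_ncard_le (s := {y | ∃ g ∈ (⊤ : Subgroup G), g * t * g⁻¹ = y}) (t := sol ⊤ l)
    (by rintro _ ⟨g, -, rfl⟩; exact ⟨trivial, by simpa using t1, by rw [conj_pow, tl]; simp⟩)
    (by rw [H22.ncard_conj_by_subgroup, relIndex_top_right, h.idx_eq (hc t t1 tl), e1, mul_one])
  obtain ⟨g, -, rfl⟩ := this.ge ⟨trivial, x1, hx⟩
  exact ⟨g, rfl⟩

theorem ev_data {F : Type*} [Field F] [Fintype F] {k : ℕ} (hk : 2 ≤ k) (hF : Fintype.card F = 2 ^ k)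
    (e : G ≃* PSL(2, F)) : ∃ T : Subgroup G, Abel T ∧ (∀ t ∈ T, t * t = 1) ∧ Nat.card T = 2 ^ k ∧ Hall {2} T ⊤ ∧
      (∀ t ∈ T, t ≠ 1 → C1(t) ≤ T) ∧ ∀ t ∈ T, ∀ v ∈ T, t ≠ 1 → v ≠ 1 → ∃ b ∈ N(T), b * t * b⁻¹ = v := by
  obtain ⟨h, h2, -⟩ := psl_ev hk hF
  have h := h.equiv e
  have := H13.four_le hk
  obtain ⟨T, aT, cT⟩ := abel_equiv e.symm psl_unip
  rw [hF] at cT
  have pw : ∀ {t}, t ∈ T → t ^ 2 ^ k = 1 := fun ht => cT ▸ pow_card_eq_one_of_mem ht
  have c : ∀ t ∈ T, t ≠ 1 → T = C1(t) := fun t ht t1 =>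
    eq_of_card_eq (aT.trans (C_le_C1 ht)) (cT.trans (h.cen_eq aT cT t1 (pw ht)).2.symm)
  refine ⟨T, aT, fun t ht => e.injective (by
      rw [map_mul, ← sq, map_one]; exact h2 _ (by rw [← map_pow, pw ht, map_one])), cT,
    hall_of_card_mul le_top (piGrp_of_card_pow Nat.prime_two cT) ((piNat_compl_iff_coprime Nat.prime_two).2
      ((h.lm.mul_right h.ln).coprime_dvd_left (dvd_pow_self 2 (by omega))).symm) (by rw [card_top, h.card, cT, mul_assoc]),
    fun t ht t1 => (c t ht t1).ge, fun t ht v hv t1 v1 => ?_⟩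
  obtain ⟨g, rfl⟩ := h.one_class (by
    obtain ⟨i, hi⟩ : ∃ i, 2 ^ k = i + 1 := ⟨2 ^ k - 1, by omega⟩
    rw [hi, Nat.add_sub_cancel]; ring) (fun x x1 hx => (h.cen_eq aT cT x1 hx).2) t1 (pw ht) v1 (pw hv)
  exact ⟨g, mem_N_iff_cj.2 (by rw [c t ht t1, cj_C1, ← c _ hv v1, ← c t ht t1]), rfl⟩

open H10 in
theorem od_data {F : Type*} [Field F] [Fintype F] (ho : Odd (Fintype.card F)) (e : G ≃* PSL(2, F)) :
    ∃ x y s : G, KPair x y ∧ s ^ 3 = 1 ∧ s * x * s⁻¹ = x * y ∧ s * y * s⁻¹ = x ∧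
      ∀ g, g * x = x * g → g * y = y * g → g ∈ closure {x, y} := by
  have h2 := H24.two_ne_zero_of_odd ho
  obtain ⟨a, b, hab⟩ := exists_sq_add_sq_neg_one (F := F)
  have k := kPair_inv h2 hab
  obtain ⟨s, hs, s3, s1, s2⟩ := H22.kp_three h2 k inv0_mem (inv1_mem hab)
  let f : G →* PGL(2, F) := (ι F).comp e.toMonoidHom
  have fi : Function.Injective f := ι_injective.comp e.injective
  have sj : ∀ g ∈ PSL2 F, ∃ x, f x = g := by
    rintro _ ⟨g, rfl⟩; exact ⟨e.symm g, by simp [f]⟩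
  obtain ⟨x, hx⟩ := sj _ inv0_mem
  obtain ⟨y, hy⟩ := sj _ (inv1_mem hab)
  obtain ⟨s, rfl⟩ := sj _ hs
  have k' : KPair x y := KPair.of_map fi (hx ▸ hy ▸ k)
  refine ⟨x, y, s, k', fi (by simpa using s3), fi (by simpa [hx, hy] using s1), fi (by simpa [hx, hy] using s2),
    fun g a b => k'.mem_closure_iff.2 ?_⟩
  have := k.mem_closure_iff.1 (mem_of_commute_inv h2 hab (g := f g) (by rw [← hx, ← map_mul, a, map_mul])
    (by rw [← hy, ← map_mul, b, map_mul]))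
  simpa only [← hx, ← hy, ← map_mul, ← map_one f, fi.eq_iff] using this

theorem NH.main [Nontrivial G] (h : NH G) (hss : ∀ N : Subgroup G, N.Normal → Solv N → N = ⊥) :
    H117.IsL2 G ∨ H117.IsPGL2 G := by
  obtain ⟨N, hN, _, nc, -⟩ := soc hss fun t ht =>
    (h.c2n t (H9.mul_self_of_orderOf ht) (H9.ne_one_of_orderOf ht)).solv_two
  have h' := h.inj N.subtype N.subtype_injective
  have od : ∀ (F : Type) [Field F] [Fintype F], Odd (Fintype.card F) → (N ≃* PSL(2, F)) → H117.IsL2 G ∨ H117.IsPGL2 G :=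
    fun F _ _ o e => by
      obtain ⟨x, y, s, k, s3, s1, s2, c⟩ := od_data o e
      have k' := k.map N.subtype_injective
      exact h.odd_case hss k' s.2 (congrArg Subtype.val s3) (congrArg Subtype.val s1) (congrArg Subtype.val s2)
        fun g hg a b => k'.mem_closure_iff.2 (by
          have := k.mem_closure_iff.1 (c ⟨g, hg⟩ (Subtype.ext a) (Subtype.ext b))
          simp only [Subtype.ext_iff] at this
          exact this)
  obtain ⟨F, _, _, h3, ⟨e⟩⟩ | k | ⟨⟨e⟩⟩ | k := Cfsg.Agent.S3214.result nc (c2n_sub h.c2n)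
  · obtain ⟨o, -⟩ | ⟨k, hk, hF⟩ := card_cases h3
    · exact od F o e
    obtain rfl | k3 := hk.eq_or_lt
    · have := Fact.mk Nat.prime_five
      obtain ⟨a⟩ := Cfsg.Agent.S0252.result hF
      obtain ⟨b⟩ := Cfsg.Agent.S0253.result (ZMod.card 5)
      exact od (ZMod 5) (by rw [ZMod.card]; decide) (e.trans (a.trans b.symm))
    obtain ⟨T, aT, e2, cT, hT, hC, tr⟩ := ev_data hk hF e
    have := aT.comm
    refine .inl (h.even_case (N := N) (T := T.map N.subtype) hss (abel_of_comm inferInstance)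
      (by rintro _ ⟨t, ht, rfl⟩; exact congrArg Subtype.val (e2 t ht))
      (by rw [card_map_subtype, cT]; exact Nat.pow_lt_pow_right one_lt_two k3) ?_ ?_ ?_)
    · obtain ⟨P, rfl⟩ := hT.exists_sylow_top Nat.prime_two
      exact hall_map_sylow Nat.prime_two P
    · rintro _ ⟨t, ht, rfl⟩ t1 g hg
      exact ⟨⟨g, hg.1⟩, hC t ht (fun j => t1 (congrArg Subtype.val j)) (mem_C1.2 (Subtype.ext (mem_C1.1 hg.2))), rfl⟩
    · rintro _ ⟨t, ht, rfl⟩ _ ⟨v, hv, rfl⟩ t1 v1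
      obtain ⟨b, hb, e⟩ := tr t ht v hv (fun j => t1 (congrArg Subtype.val j)) fun j => v1 (congrArg Subtype.val j)
      exact ⟨b, ⟨b.2, le_normalizer_map N.subtype (mem_map_of_mem _ hb)⟩, congrArg Subtype.val e⟩
  exacts [(h'.not_Sz k).elim, (h'.not_A7 e).elim, (h'.not_L34 k).elim]

end H326
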