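import Cfsg.Agent.H26.NA
/-! `ANF` and the Baumann factorization by blocks. -/
set_option autoImplicit false
namespace H26
open Cfsg Subgroup H4 H118
open scoped Pointwise commutatorElement
universe u

local notation "𝐉" => thompsonSubgroupOf 2
local notation "O₂" => pCoreOf 2
local notation "O²" => pResidualOf 2

variable {G : Type*} [Group G] [Finite G] {B W A K T X M : Subgroup G} {g s k : G}

theorem four_rep (f : Four W) (le : W ≤ T) (hA : A ∈ MaxEA 2 T) (n : A ≤ 𝐍 W) : W ⊔ A ⊓ 𝐂 W ∈ MaxEA 2 T := by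
  refine (MaxEA.of_card_ge hA) (sup_le le (inf_le_left.trans (MaxEA.le hA))) (elemAb_sup f.ea
    (elemAb_mono (MaxEA.elemAb hA) inf_le_left) (le_centralizer_iff.1 inf_le_right)) ?_
  by_cases c : A ≤ 𝐂 W
  · exact card_le_of_le (le_sup_of_le_right (le_inf le_rfl c))
  have p := elemAb_isPGroup (MaxEA.elemAb hA)
  have c1 := f.card_inf_c p n c
  have c2 := card_mul_relIndex (𝐂 W) A
  have c3 := card_sup_mul_card_inf (H := A ⊓ 𝐂 W) (inf_le_left.trans n)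
  rw [(MaxEA.inf_centralizer_eq hA) le f.ea] at c1
  rw [f.relIndex_two p n c, inf_comm] at c2
  rw [inf_assoc, inf_eq_right.2 f.le_c, inf_comm A W, c1, f.card, sup_comm] at c3
  omega

omit [Finite G] in
theorem th_le (f : Four W) (h : Th W g) (h1 : g ∈ 𝐍 X) (h2 : W ⊓ X ≠ ⊥) : W ≤ X := fun y hy => by
  obtain ⟨x, hx, x1⟩ := (bot_or_exists_ne_one _).resolve_left h2
  by_cases y1 : y = 1
  · exact y1 ▸ one_mem _
  obtain ⟨e, he, rfl⟩ := h.tr f hx.1 hy x1 y1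
  exact conj_mem_of_mem_normalizer (zpowers_le.2 h1 he) hx.2

namespace Bk
variable (h : Bk B W g)
include h

theorem le_c (h1 : g ∈ 𝐍 K) (h2 : O² K ≤ 𝐂 W) : B ⊓ K ≤ 𝐂 W := fun b hb => by_contra fun b1 => by
  obtain ⟨c1, c2⟩ := h.four.comm_three h.th.n (h.nW hb.1) h.th.cube h.th.nc (h.four.sq_mem_of_isP h.isP h.nW hb.1) b1
  obtain ⟨n, hn⟩ := exists_pow_mem_pResidualOf (p := 2)
    (show ⁅g, b⁆ ∈ K from mul_mem (conj_mem_of_mem_normalizer h1 hb.2) (inv_mem (mem_inf.1 hb).2))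
  exact c2 (mem_of_pow_mem_coprime (Nat.Coprime.pow_left n (by norm_num)) (h2 hn) c1)

theorem n_inf (h1 : g ∈ 𝐍 K) (h2 : O² K ≤ 𝐂 W) : g ∈ 𝐍 (B ⊓ K) := by
  rw [show B ⊓ K = B ⊓ 𝐂 W ⊓ K from le_antisymm (le_inf (le_inf inf_le_left (h.le_c h1 h2)) inf_le_right)
    (inf_le_inf_right _ inf_le_left)]
  exact zpowers_le.1 (le_normalizer_inf (zpowers_le.2 h.nQ) (zpowers_le.2 h1))

theorem inf_ne : W ⊓ oz B ≠ ⊥ := inf_omegaOne_center_ne_bot h.isP h.le h.nW h.four.ne_bot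

/-- an element normalizing `B` and `Q` fixes the involution of `C_W(B)` -/
theorem fix (h1 : k ∈ 𝐍 B) (h2 : k ∈ 𝐍 (B ⊓ 𝐂 W)) : k ∈ 𝐂 (W ⊓ oz B) := by
  obtain ⟨A, hA, b, hb, b1, -⟩ := h.inv
  have h' := h.conj h1
  have e : B ⊓ 𝐂 (cj k W) = B ⊓ 𝐂 W := by
    rw [← cj_centralizer, ← cj_eq_iff.2 h2, cj_inf, cj_eq_iff.2 h1]
  have n := (MaxEA.le hA).trans h.nW
  have l : cj k W ≤ W ⊔ A ⊓ 𝐂 W := MaxEA.le_of_centralizes (four_rep h.four h.le hA n) h'.le h'.four.ea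
    (le_centralizer_iff.1 ((sup_le (le_inf h.le h.four.le_c) (inf_le_inf_right _ (MaxEA.le hA))).trans
      (e.ge.trans inf_le_right)))
  have c : ⁅cj k W, A⁆ ≤ W := commutator_le_of_le_sup_centralizer' l
    (inf_le_left.trans (elemAb_le_centralizer (MaxEA.elemAb hA))) (le_normalizer_of_le_centralizer inf_le_right) n
  have ca : ∀ {V : Subgroup G} {x : G}, Bk B V x → Nat.card ↥(V ⊓ oz B) = 2 := fun {V x} v => by
    rw [show V ⊓ oz B = V ⊓ 𝐂 B from le_antisymm (inf_le_inf_left _ (oz_le_c B)) (le_inf inf_le_left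
      (le_oz (elemAb_mono v.four.ea inf_le_left) (inf_le_left.trans v.le) inf_le_right))]
    exact v.four.card_inf_c v.isP v.nW fun e => v.jc ((thompsonOf_le 2 B).trans e)
  have c' : ⁅cj k W, A⁆ ≤ cj k W ⊓ oz B := h'.four.commutator_le_of_card inf_le_left (ca h') ((MaxEA.le hA).trans h'.nW)
    (le_normalizer_of_le_centralizer ((MaxEA.le hA).trans ((le_c_oz B).trans (centralizer_anti inf_le_right))))
  have ne : ⁅cj k W, A⁆ ≠ ⊥ := fun z => b1 (e.le ⟨MaxEA.le hA hb, commutator_eq_bot_iff'.1 z hb⟩).2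
  have e2 := (eq_bot_or_eq_of_card (ca h') c').resolve_left ne
  have e3 := (eq_bot_or_eq_of_card (ca h) (le_inf c (c'.trans inf_le_right))).resolve_left ne
  refine normalizer_le_c_of_card_two (ca h) (cj_eq_iff.1 ?_)
  rw [cj_inf, cj_eq_iff.2 (n_oz B h1), ← e2, e3]

/-- such an element centralizes `W` if it commutes with `g` on `W` -/
theorem cen (h1 : k ∈ 𝐍 B) (h2 : k ∈ 𝐍 (B ⊓ 𝐂 W)) (h3 : ⁅k⁻¹, g⁻¹⁆ ∈ 𝐂 W) : k ∈ 𝐂 W := by
  have f := h.fix h1 h2
  refine zpowers_le.1 (le_centralizer_iff.1 (le_trans (th_le h.four h.th (X := W ⊓ 𝐂 (zpowers k)) ?_ ?_) inf_le_right))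
  · refine mem_normalizer_of_conj_mem fun x hx => ⟨conj_mem_of_mem_normalizer h.th.n hx.1, mem_centralizer_zpowers.2 ?_⟩
    have e1 := mem_centralizer_iff'.1 h3 x hx.1
    have e2 := mem_centralizer_zpowers.1 hx.2
    calc k * (g * x * g⁻¹) = g * (k * (⁅k⁻¹, g⁻¹⁆ * x * ⁅k⁻¹, g⁻¹⁆⁻¹)) * ⁅k⁻¹, g⁻¹⁆ * g⁻¹ := by
          simp only [commutatorElement_def]; group
      _ = _ := by rw [e1, e2]; simp only [commutatorElement_def]; group
  · exact fun e => h.inf_ne (le_bot_iff.1 (e ▸ le_inf inf_le_left (le_inf inf_le_left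
      (le_centralizer_iff.1 (zpowers_le.2 f)))))

end Bk

theorem anf : ANF.{u} := by
  intro G _ _ B W₁ W₂ N g₁ g₂ ch sol bau h1 h2 pN N1 nB n1 n2
  set Y := B ⊔ zpowers g₁ ⊔ zpowers g₂
  have BY : B ≤ Y := le_sup_of_le_left le_sup_left
  have y1 : g₁ ∈ Y := mem_sup_left (mem_sup_right (mem_zpowers _))
  have y2 : g₂ ∈ Y := mem_sup_right (mem_zpowers _)
  have Yle : ∀ {K : Subgroup G}, B ≤ K → g₁ ∈ K → g₂ ∈ K → Y ≤ K := fun a b c =>
    sup_le (sup_le a (zpowers_le.2 b)) (zpowers_le.2 c)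
  have gen : ∀ {K : Subgroup G}, B ≤ K → Y ≤ 𝐍 K → Y ≤ K := fun a b =>
    Yle a (h1.mem ((thompsonOf_le 2 B).trans a) (b y1)) (h2.mem ((thompsonOf_le 2 B).trans a) (b y2))
  have nI : ∀ {K : Subgroup G}, Y ≤ 𝐍 K → O² K ≤ 𝐂 W₁ → O² K ≤ 𝐂 W₂ → Y ≤ 𝐍 (B ⊓ K) := fun a b c =>
    Yle (le_normalizer_inf le_normalizer (BY.trans a)) (h1.n_inf (a y1) b) (h2.n_inf (a y2) c)
  have nP : ∀ {K : Subgroup G}, IsPGroup 2 K → Y ≤ 𝐍 K → Y ≤ 𝐍 (B ⊓ K) := fun a b =>
    nI b (by rw [pResidualOf_eq_bot a]; exact bot_le) (by rw [pResidualOf_eq_bot a]; exact bot_le)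
  have nb : ∀ {T : Subgroup G}, IsPGroup 2 T → B ≤ T → T ≤ 𝐍 B := fun {T} a b =>
    (bau T a b).2 ▸ le_normalizer.trans (n_bm T)
  have YL : Y ≤ 𝐍 N := Yle nB n1 n2
  have sY : Group.IsSolvable Y := H17.solvable_of_le YL (sol _ (twoLocal_n pN N1))
  have iL := inL_of_twoLocal ch (twoLocal_n pN N1)
  set P := O₂ (𝐍 N)
  have pP : IsPGroup 2 P := isPGroup_pCoreOf 2 _
  have YP : Y ≤ 𝐍 P := YL.trans (le_normalizer_pCoreOf 2 _)
  have c1 : ⁅Y, P⁆ ≤ B ⊓ P := (le_commStab_iff.1 (gen (le_commStab_iff.2 ⟨BY.trans (nP pP YP),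
    commutator_le_inf_of_le_normalizer (BY.trans YP) (le_sup_right.trans (nb (isPGroup_sup h1.isP pP (BY.trans YP))
      le_sup_left))⟩) (le_normalizer_commStab YP (nP pP YP)))).2
  have p0 : IsPGroup 2 ↥(Y ⊓ 𝐂 (B ⊓ P)) := isPGroup_of_pResidualOf_le pP ((pResidualOf_le_centralizer_of_stab
    h1.isP.to_inf_left ((commutator_comm _ _).le.trans ((commutator_mono inf_le_left le_rfl).trans c1))
    inf_le_right).trans iL.2)
  have n0 := nP p0 (le_normalizer_inf le_normalizer (le_normalizer_centralizer (nP pP YP)))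
  have l0 : ncl (oz B) Y ≤ B ⊓ (Y ⊓ 𝐂 (B ⊓ P)) := ncl_le (le_inf (oz_le B) (le_inf ((oz_le B).trans BY)
    ((oz_le_c B).trans (centralizer_anti inf_le_left)))) n0
  have a0 : ncl (oz B) Y ≤ 𝐂 (ncl (oz B) Y) :=
    (ncl_le_centralizer ((oz_le_c B).trans (centralizer_anti inf_le_left)) n0).trans (centralizer_anti l0)
  have e0 : IsElementaryAbelian 2 (ncl (oz B) Y) := elemAb_iSup (fun g : Y => elemAb_cj (elemAb_oz B) (g : G))
    fun i j => (cj_le_ncl i.2).trans (a0.trans (centralizer_anti (cj_le_ncl j.2)))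
  have wl : ∀ {V : Subgroup G} {x : G}, Bk B V x → x ∈ Y → V ≤ ncl (oz B) Y := fun v a => th_le v.four v.th
    (le_normalizer_ncl _ _ a) fun e => v.inf_ne (le_bot_iff.1 (e ▸ inf_le_inf_left _ (le_ncl _ _)))
  set U := ncl (W₁ ⊔ W₂) Y
  have lU : U ≤ ncl (oz B) Y := ncl_le (sup_le (wl h1 y1) (wl h2 y2)) (le_normalizer_ncl _ _)
  have eU := elemAb_mono e0 lU
  have UB : U ≤ B := lU.trans (l0.trans inf_le_left)
  have nU : Y ≤ 𝐍 U := le_normalizer_ncl _ _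
  have u1 : W₁ ≤ U := le_sup_left.trans (le_ncl _ _)
  have u2 : W₂ ≤ U := le_sup_right.trans (le_ncl _ _)
  have cU : ∀ {K : Subgroup G}, Y ≤ 𝐍 K → K ≤ 𝐂 W₁ → K ≤ 𝐂 W₂ → K ≤ 𝐂 U := fun a b c =>
    le_centralizer_iff.1 (ncl_le_centralizer (le_centralizer_iff.1 (le_centralizer_sup b c)) a)
  obtain ⟨T, hT, BT⟩ := exists_isSyl_ge h1.isP BY
  have red : Red 2 Y U := fun K a b c => by
    have s := hT.inf_of_normal b a
    have d1 := c.trans (centralizer_anti u1)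
    have d2 := c.trans (centralizer_anti u2)
    have d : B ⊓ K ≤ 𝐂 U := cU (nI b d1 d2) (h1.le_c (b y1) d1) (h2.le_c (b y2) d2)
    have d3 : ⁅T ⊓ K, B⁆ ≤ B ⊓ K := le_inf (commutator_le_of_le_normalizer' (inf_le_left.trans (nb hT.isP BT)))
      ((commutator_mono inf_le_right le_rfl).trans (commutator_le_of_le_normalizer (BY.trans b)))
    have nc := le_normalizer_centralizer nU
    have d4 : ⁅Y, K⁆ ≤ 𝐂 U := (le_commStab_iff.1 (gen (le_commStab_iff.2 ⟨BY.trans nc, by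
      rw [commutator_comm, ← s.pResidualOf_sup]
      exact commutator_sup_le ((commutator_mono c le_rfl).trans (commutator_le_of_le_normalizer (BY.trans nc)))
        (d3.trans d) (c.trans le_normalizer) ((inf_le_left.trans hT.le).trans nc)⟩)
      (le_normalizer_commStab b nc))).2
    have k : ∀ {V : Subgroup G} {x : G}, Bk B V x → x ∈ Y → V ≤ U → K ≤ 𝐂 V := fun {V x} v m l =>
      s.le_of_pResidualOf_le (c.trans (centralizer_anti l)) fun t ht => v.cen (nb hT.isP BT ht.1)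
        (zpowers_le.1 (le_normalizer_of_commutator_le ((commutator_comm _ _).le.trans
          ((commutator_mono (zpowers_le.2 ht) inf_le_left).trans (d3.trans (le_inf inf_le_left
            (d.trans (centralizer_anti l))))))))
        (centralizer_anti l (d4 ((commutator_comm _ _).le (commutator_mem_commutator (inv_mem (mem_inf.1 ht).2) (inv_mem m)))))
    exact cU b (k h1 y1 u1) (k h2 y2 u2)
  have f := FFD.of_mF eU (sup_le ((thompsonOf_le 2 Y).trans nU) (inf_le_left.trans nU))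
    (ffd_thompson eU (UB.trans BY) nU (pSol_of_solvable sY) red)
  set E := 𝐉 Y ⊔ Y ⊓ 𝐂 U
  have nE : Y ≤ 𝐍 E := le_normalizer_sup (le_normalizer_thompsonOf 2 Y) (le_normalizer_inf_centralizer nU)
  have jE : 𝐉 B ≤ E := ((bau T hT.isP BT).1.ge.trans (thompsonOf_le_of_isSyl hT)).trans le_sup_left
  obtain ⟨A, hA, b, hb, b1, -⟩ := h1.inv
  obtain ⟨X, hX, k⟩ : ∃ X ∈ Pl 2 U E, ¬ (A ⊔ 𝐂 U) ⊓ plE U E X ≤ 𝐂 W₁ := by
    by_contra k
    push Not at k
    exact b1 ((f.off A ((MaxEA.le_thompsonOf hA).trans jE) (MaxEA.isBestOffenderOn hA UB eU)).trans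
      (sup_le (sSup_le (by rintro _ ⟨X, hX, rfl⟩; exact k X hX)) (centralizer_anti u1)) hb)
  have l : W₁ ≤ X := th_le h1.four h1.th (f.le_normalizer hX (h1.mem jE (nE y1))) fun e =>
    k (commutator_eq_bot_iff'.1 (le_bot_iff.1 (e ▸ le_inf (commutator_le_of_le_normalizer (inf_le_left.trans (sup_le
      ((MaxEA.le hA).trans h1.nW) (le_normalizer_of_le_centralizer (centralizer_anti u1)))))
      ((commutator_mono u1 inf_le_right).trans (commutator_plE_le hX.1)))))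
  rw [(four_of_natSL hX.2).eq_of_le h1.four l]
  exact f.le_normalizer hX (h2.mem jE (nE y2))

end H26
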