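import Cfsg.Agent.H26.NA2
/-! The Baumann factorization by blocks (`bau`). -/
set_option autoImplicit false
namespace H26
open Cfsg Subgroup H4 H118
open scoped Pointwise commutatorElement
universe u

local notation "𝐉" => thompsonSubgroupOf 2
local notation "O₂" => pCoreOf 2
local notation "O²" => pResidualOf 2

variable {G : Type*} [Group G] [Finite G] {B W A K T X M : Subgroup G} {g s k x : G}

theorem four_card_j (hT : IsPGroup 2 T) (f : Four W) (le : W ≤ T) (jn : 𝐉 T ≤ 𝐍 W) (jc : ¬ 𝐉 T ≤ 𝐂 W) :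
    Nat.card ↥(W ⊓ oz (𝐉 T)) = 2 := by
  rw [show W ⊓ oz (𝐉 T) = W ⊓ 𝐂 (𝐉 T) from le_antisymm (inf_le_inf_left _ (oz_le_c _)) (le_inf inf_le_left
    (le_oz (elemAb_mono f.ea inf_le_left) (fun y hy => mem_thompsonOf_of_centralizes (le hy.1) hy.2 (f.ea.2 y hy.1))
      inf_le_right))]
  exact f.card_inf_c (hT.to_le (thompsonOf_le 2 T)) jn jc

theorem exists_bk (hT : IsPGroup 2 T) (f : Four W) (le : W ≤ T) (nW : T ≤ 𝐍 W) (jc : ¬ 𝐉 T ≤ 𝐂 W) (th : Th W x)
    (xn : x ∈ 𝐍 (T ⊓ 𝐂 W)) : ∃ g, Bk (bm T) W g ∧ ∀ K : Subgroup G, x ∈ 𝐍 K → 𝐉 T ≤ K → g ∈ K := by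
  have rep : ∀ {A}, A ∈ MaxEA 2 T → W ⊔ A ⊓ 𝐂 W ∈ MaxEA 2 T := fun hA => four_rep f le hA ((MaxEA.le hA).trans nW)
  have repQ : ∀ {A}, A ∈ MaxEA 2 T → W ⊔ A ⊓ 𝐂 W ∈ MaxEA 2 (T ⊓ 𝐂 W) := fun hA =>
    (MaxEA.of_le (rep hA)) (sup_le (le_inf le f.le_c) (inf_le_inf_right _ (MaxEA.le hA))) inf_le_left
  obtain ⟨A, hA, c⟩ : ∃ A ∈ MaxEA 2 T, ¬ A ≤ 𝐂 W := by
    by_contra e; push Not at e; exact jc (thompsonOf_le_iff.2 e)
  have jQ : 𝐉 (T ⊓ 𝐂 W) ≤ 𝐉 T := thompsonOf_mono_of_exists (rep hA) (MaxEA.le (repQ hA)) inf_le_left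
  have wJ : W ≤ 𝐉 (T ⊓ 𝐂 W) := le_sup_left.trans (MaxEA.le_thompsonOf (repQ hA))
  have ul : W ⊔ oz (𝐉 T) ≤ oz (𝐉 (T ⊓ 𝐂 W)) :=
    sup_le (le_oz f.ea wJ (le_centralizer_iff.1 ((thompsonOf_le 2 _).trans inf_le_right)))
      (le_oz (elemAb_oz _) (le_trans (MaxEA.le_of_centralizes (rep hA) ((oz_le _).trans (thompsonOf_le 2 T))
        (elemAb_oz _) ((oz_le_c _).trans (centralizer_anti (MaxEA.le_thompsonOf (rep hA)))))
        (MaxEA.le_thompsonOf (repQ hA))) ((oz_le_c _).trans (centralizer_anti jQ)))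
  have zc : ⁅oz (𝐉 (T ⊓ 𝐂 W)), A⁆ ≤ W :=
    commutator_le_of_le_sup_centralizer' ((MaxEA.le_of_centralizes (repQ hA)) ((oz_le _).trans (thompsonOf_le 2 _))
      (elemAb_oz _) ((oz_le_c _).trans (centralizer_anti (MaxEA.le_thompsonOf (repQ hA)))))
      (inf_le_left.trans (elemAb_le_centralizer (MaxEA.elemAb hA))) (le_normalizer_of_le_centralizer inf_le_right)
      ((MaxEA.le hA).trans nW)
  obtain ⟨b, hb, b1⟩ := SetLike.not_le_iff_exists.1 c
  have bT := MaxEA.le hA hb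
  obtain ⟨g, hg, t1, -, t3⟩ := th.odd f (nW bT) (by rw [← pow_two]; exact (MaxEA.pow_eq hA) hb) b1
  have m : ∀ X : Subgroup G, x ∈ 𝐍 X → b ∈ X → g ∈ X := fun X h1 h2 =>
    zpowers_le.2 (mul_mem (conj_mem_of_mem_normalizer h1 h2) (inv_mem h2)) hg
  have lW := le_sup_left.trans ul
  have g1 : g ∈ 𝐍 (W ⊔ oz (𝐉 T)) := zpowers_le.1 (le_normalizer_of_commutator_le ((commutator_mono ul le_rfl).trans
    (le_sup_of_le_left ((le_commStab_iff' lW).1 (zpowers_le.2 (m _ (zpowers_le.1 (le_normalizer_commStab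
      (le_n_oz (zpowers_le.2 (normalizer_le_normalizer_thompsonOf 2 _ xn))) (zpowers_le.2 th.n)))
      ((le_commStab_iff' lW).2 zc hb)))))))
  have g2 : g ∈ 𝐍 (T ⊓ 𝐂 W) := m _ (le_normalizer xn) (le_normalizer_inf_centralizer nW bT)
  have e : bm T ⊓ 𝐂 W = T ⊓ 𝐂 W ⊓ 𝐂 (W ⊔ oz (𝐉 T)) := by
    rw [centralizer_sup', ← inf_assoc, inf_assoc T (𝐂 W), inf_idem, inf_right_comm]
  obtain ⟨n, j, hn, hj⟩ := exists_pow_pElement (p := 3) (hp := ⟨Nat.prime_three⟩) (isOfFinOrder_of_finite g)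
  refine ⟨g ^ n, ⟨hT.to_inf_left, f, wJ.trans (jQ.trans (j_le_bm T)), inf_le_left.trans nW, ⟨pow_mem t1.n n, ?_,
    fun k => t1.nc (mem_of_pow_mem_coprime hn k t1.cube)⟩, ⟨j, hj⟩, ⟨A, MaxEA.of_le hA
    ((MaxEA.le_thompsonOf hA).trans (j_le_bm T)) inf_le_left, b, hb, b1, by rw [← conj_pow, t3, inv_pow]⟩,
    pow_mem ?_ n⟩, fun K h1 h2 => pow_mem (m K h1 (h2 (MaxEA.le_thompsonOf hA hb))) n⟩
  · rw [← pow_mul, mul_comm, pow_mul]; exact pow_mem t1.cube n
  · rw [e]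
    exact zpowers_le.1 (le_normalizer_inf (zpowers_le.2 g2) (le_normalizer_centralizer (zpowers_le.2 g1)))

/-- Baumann's factorization -/
theorem bau (hT : IsSyl 2 T X) (hs : Group.IsSolvable X) (hc : CharPOf 2 X) (h1 : X ⊓ 𝐍 (bm T) ≤ M)
    (h2 : ∀ W g, Bk (bm T) W g → g ∈ X → g ∈ M) : X ≤ (X ⊓ M) ⊔ (X ⊓ 𝐂 (zc X)) := by
  have r := (pRed_omegaOne_center T).ncl hc hT le_rfl hT.le
  rw [zc, hT.sylowCenterClosure_eq]
  set V := ncl (oz T) X
  have f := FFD.of_mF r.elemAb (sup_le ((thompsonOf_le 2 X).trans r.norm) (inf_le_left.trans r.norm))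
    (ffd_thompson r.elemAb r.le r.norm (pSol_of_solvable hs) r.red)
  set E := 𝐉 X ⊔ X ⊓ 𝐂 V
  have eP : E ≤ X := sup_le (thompsonOf_le 2 X) inf_le_left
  have nE : X ≤ 𝐍 E := le_normalizer_sup (le_normalizer_thompsonOf 2 X) (le_normalizer_inf_centralizer r.norm)
  have jE : 𝐉 T ≤ E := (thompsonOf_le_of_isSyl hT).trans le_sup_left
  have lT : V ≤ T := r.le_pCoreOf.trans hT.pCoreOf_le
  have TM : T ≤ X ⊓ M := le_inf hT.le ((le_inf hT.le (le_normalizer.trans (n_bm T))).trans h1)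
  have jc : ∀ W ∈ Pl 2 V E, ¬ 𝐉 T ≤ 𝐂 W := fun W hW k => hW.2.not_le_centralizer (plE_le.trans
    (sup_le (thompsonOf_le_iff.2 fun A hA => by
      obtain ⟨g, hg, l⟩ := hT.exists_cj_le (elemAb_isPGroup (MaxEA.elemAb hA)) (MaxEA.le hA)
      obtain ⟨c, hc, e⟩ := exists_mul_mem_normalizer_thompsonOf hT nE jE (inv_mem hg)
      have l2 := MaxEA.le_thompsonOf (MaxEA.of_le (MaxEA.cj_of_mem_normalizer hA (le_normalizer hg)) l hT.le)
      have l3 := cj_mono (c * g⁻¹) l2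
      rw [cj_eq_iff.2 e, ← cj_mul, inv_mul_cancel_right] at l3
      have := cj_le_iff.1 (l3.trans k)
      rwa [cj_centralizer, cj_eq_iff.2 (inv_mem (f.le_normalizer hW hc.2))] at this)
      (inf_le_right.trans (centralizer_anti hW.1))))
  have c2 : ∀ W ∈ Pl 2 V E, Nat.card ↥(W ⊓ oz (𝐉 T)) = 2 := fun W hW =>
    four_card_j hT.isP (four_of_natSL hW.2) (hW.1.trans lT) (jE.trans (f.le_normalizer hW)) (jc W hW)
  have cn : ∀ W ∈ Pl 2 V E, X ⊓ 𝐂 (oz (𝐉 T)) ≤ 𝐍 W := fun W hW t ht => by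
    by_contra n
    have p := Pl.conj hW (r.norm ht.1) (nE ht.1)
    have l : W ⊓ oz (𝐉 T) ≤ cj t W := by
      rw [← cj_eq_of_mem_centralizer (centralizer_anti inf_le_right ht.2 : t ∈ 𝐂 (W ⊓ oz (𝐉 T)))]
      exact cj_mono t inf_le_left
    have := c2 W hW
    rw [le_bot_iff.1 ((le_inf l (inf_le_left.trans (le_centralizer_iff.1
      (f.cent W hW _ p fun e => n (cj_eq_iff.1 e.symm))))).trans p.2.inf_centralizer.le), card_bot] at this
    omega
  have EM : E ≤ (X ⊓ M) ⊔ (X ⊓ 𝐂 V) := f.le_of_isSyl (hT.inf_of_normal nE eP)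
    (le_sup_of_le_left (inf_le_left.trans TM)) (le_sup_of_le_right (inf_le_inf_right _ eP)) fun W hW => by
      have four := four_of_natSL hW.2
      have nW := f.le_normalizer hW
      have sE := hT.inf_of_normal nE eP
      obtain ⟨e, he, e1, e2⟩ := four.exists_three nW fun k => by
        rcases (f.natSL hW).eq_bot_or_eq inf_le_left (sE.le_of_pResidualOf_le (K := 𝐍 (W ⊓ oz (𝐉 T)))
          (le_normalizer_of_le_centralizer (k.trans (centralizer_anti inf_le_left)))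
          (le_normalizer_inf (inf_le_right.trans nW) (inf_le_left.trans (le_normalizer.trans (n_ozj T))))) with e | e
        · have := c2 W hW; rw [e, card_bot] at this; omega
        · have := c2 W hW; rw [e, four.card] at this; omega
      have s1 := isSyl_sup_of_inf (T := T ⊓ 𝐍 W) hT.isP.to_inf_left ((inf_le_left.trans hT.le).trans nE)
        (by rwa [inf_assoc, inf_eq_right.2 nW])
      have n1 : T ⊓ 𝐍 W ⊔ E ≤ 𝐍 W := sup_le inf_le_right nW
      have s2 := s1.inf_of_le_normalizer (le_normalizer_centralizer n1)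
      obtain ⟨n, hn, k⟩ := s2.frattini_mem (le_normalizer_inf_centralizer n1 (mem_sup_right he))
      have ej : 𝐉 (T ⊓ 𝐍 W) = 𝐉 T := thompsonOf_eq_of_le (le_inf (thompsonOf_le 2 T) (jE.trans nW)) inf_le_left
      have eb : bm (T ⊓ 𝐍 W) = bm T := by
        rw [bm, ej, inf_right_comm, inf_eq_left.2 ((inf_le_inf_right _ hT.le).trans (cn W hW))]
      have xX : n * e ∈ X := mul_mem (sup_le (inf_le_left.trans hT.le) eP hn.1) (eP he)
      obtain ⟨g, hg, m⟩ := exists_bk hT.isP.to_inf_left four (le_inf (hW.1.trans lT) le_normalizer) inf_le_right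
        (ej ▸ jc W hW) (Th.mul ⟨nW he, e1, e2⟩ hn.2) k
      rw [eb] at hg
      rw [ej] at m
      have gE := m E (nE xX) jE
      obtain ⟨t, ht, t1⟩ := SetLike.not_le_iff_exists.1 (jc W hW)
      exact nW.trans (four.le_sup_six hg.th.n (nW (jE ht)) hg.th.cube hg.th.nc
        (four.sq_mem_of_isP (hT.isP.to_le (thompsonOf_le 2 T)) (jE.trans nW) ht) t1
        ⟨gE, mem_sup_left ⟨eP gE, h2 W g hg (eP gE)⟩⟩ ⟨jE ht, mem_sup_left (TM (thompsonOf_le 2 T ht))⟩)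
  have s := (hT.mono (le_inf hT.le (le_normalizer.trans (n_ozj T))) inf_le_left).inf_of_le_normalizer
    (inf_le_right.trans (normalizer_le_normalizer_centralizer _))
  rw [inf_assoc, inf_eq_right.2 (centralizer_le_normalizer _)] at s
  have CM : X ⊓ 𝐂 (oz (𝐉 T)) ≤ (X ⊓ M) ⊔ (X ⊓ 𝐂 V) := s.le_of_pResidualOf_le
    (le_sup_of_le_right (le_inf ((pResidualOf_le _ _).trans inf_le_left) (pResidualOf_le_centralizer_of_stab
      (elemAb_isPGroup (elemAb_oz (𝐉 T))) (by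
        have nv : V ≤ 𝐍 (oz (𝐉 T)) := lT.trans (le_normalizer.trans (n_ozj T))
        rw [← f.span]
        refine commutator_sup_le (le_trans (commutator_le_of_le_normalizer (le_normalizer_of_le_centralizer
          (inf_le_right.trans (centralizer_anti ?_)))) ?_) (commutator_sSup_le (fun W hW => ?_) fun W hW => hW.1.trans nv)
          (inf_le_left.trans nv) ((sSup_le fun W hW => hW.1).trans nv)
        iterate 2 exact le_oz (elemAb_mono r.elemAb inf_le_left) (fun y hy => mem_thompsonOf_of_centralizes (lT hy.1)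
          (centralizer_anti jE hy.2) (r.elemAb.2 y hy.1)) (inf_le_right.trans (centralizer_anti jE))
        exact ((four_of_natSL hW.2).commutator_le_of_card inf_le_left (c2 W hW) (cn W hW)
          (le_normalizer_of_le_centralizer (inf_le_right.trans (centralizer_anti inf_le_right)))).trans inf_le_right)
      inf_le_right))) (le_sup_of_le_left (inf_le_left.trans TM))
  intro g hg
  obtain ⟨c, hc, e⟩ := exists_mul_mem_normalizer_thompsonOf hT nE jE hg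
  have m : c * g ∈ X := mul_mem hc.1 hg
  obtain ⟨d, hd, e'⟩ := s.frattini_mem (g := c * g) (zpowers_le.1 (le_normalizer_inf (zpowers_le.2 (le_normalizer m))
    (le_normalizer_centralizer (le_n_oz (zpowers_le.2 e)))))
  exact (mul_mem_cancel_left (EM hc.2)).1 ((mul_mem_cancel_left (CM hd)).1
    (mem_sup_left ⟨mul_mem hd.1 m, h1 ⟨mul_mem hd.1 m, e'⟩⟩))

end H26
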