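import Cfsg.Agent.H26.NDef
import Cfsg.Agent.H9.Bender
import Cfsg.Agent.H18.Bender
import Cfsg.Agent.H2.IdM
import Cfsg.Agent.H15.StdM11
/-! The small pieces of the classification of N-groups: `ng_se` (an N-group with a strongly embedded subgroup is
`PSL₂(2^n)` or a Suzuki group), `not_ms_A7`, `not_ms_7920`, `ms_equiv`. -/
set_option autoImplicit false
namespace H26
open Cfsg Subgroup H18 H5
open scoped MatrixGroups
universe u

theorem ms_equiv {G G' : Type*} [Group G] [Group G'] (h : IsMinimalSimple G) (e : G ≃* G') : IsMinimalSimple G' := by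
  refine ⟨have := h.1; e.symm.isSimpleGroup, fun j => h.2.1 ?_, fun H hH => ?_⟩
  · exact ⟨⟨fun a b => e.injective (by simpa using j.1.1 (e a) (e b))⟩⟩
  have := h.2.2 (H.comap e.toMonoidHom) fun j => hH (comap_injective (f := e.toMonoidHom) e.surjective j)
  exact Group.isSolvable_of_surjective (e.toMonoidHom.subgroupComap_surjective_of_surjective H e.surjective)

theorem not_solv_235 {G : Type*} [Group G] {a b : G} (h : a ≠ 1) (ha : a ^ 2 = 1) (hb : b ^ 3 = 1)
    (hab : (a * b) ^ 5 = 1) : ¬ Group.IsSolvable G := by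
  refine not_isSolvable_of_mem_derivedSeries h fun n => (?_ : _ ∧ b ∈ derivedSeries G n).1
  induction n with
  | zero => simp
  | succ n ih =>
    let f := QuotientGroup.mk' (derivedSeries G (n + 1))
    have c : Commute (f a) (f b) := commutatorElement_eq_one_iff_commute.1 ((map_commutatorElement f a b).symm.trans
      ((QuotientGroup.eq_one_iff _).2 (Subgroup.commutator_mem_commutator ih.1 ih.2)))
    have e1 : f a ^ 2 = 1 := by rw [← map_pow, ha, map_one]
    have e2 : f b ^ 3 = 1 := by rw [← map_pow, hb, map_one]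
    have e3 : f a * f b ^ 2 = 1 := by
      have := congrArg f hab
      rwa [map_pow, map_mul, c.mul_pow, pow_succ (f a), pow_mul (f a) 2 2, pow_add (f b) 3 2, e1, e2,
        one_pow, one_mul, one_mul, map_one] at this
    have e4 : f a = f b := by
      rw [eq_inv_of_mul_eq_one_left e3, eq_comm, eq_inv_iff_mul_eq_one, ← pow_succ', e2]
    have e5 : f a = 1 := by rwa [← e4, pow_succ, e1, one_mul] at e2
    exact ⟨(QuotientGroup.eq_one_iff _).1 e5, (QuotientGroup.eq_one_iff _).1 (e4.symm.trans e5)⟩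

theorem not_ms_of_235 {G : Type*} [Group G] {H : Subgroup G} (hH : H ≠ ⊤) {a b : G} (ma : a ∈ H) (mb : b ∈ H)
    (h : a ≠ 1) (ha : a ^ 2 = 1) (hb : b ^ 3 = 1) (hab : (a * b) ^ 5 = 1) : ¬ IsMinimalSimple G := fun k =>
  not_solv_235 (a := ⟨a, ma⟩) (b := ⟨b, mb⟩) (fun e => h (congrArg Subtype.val e)) (Subtype.ext ha) (Subtype.ext hb)
    (Subtype.ext hab) (k.2.2 H hH)

theorem not_ms_A7 : ¬ IsMinimalSimple (alternatingGroup (Fin 7)) := by
  refine not_ms_of_235 (H := MulAction.stabilizer _ (6 : Fin 7))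
    (a := ⟨Equiv.swap 0 1 * Equiv.swap 2 3, by rw [Equiv.Perm.mem_alternatingGroup]; decide⟩)
    (b := ⟨Equiv.swap 0 2 * Equiv.swap 2 4, by rw [Equiv.Perm.mem_alternatingGroup]; decide⟩)
    (fun e => ?_) (by decide) (by decide) (by decide) (by decide) (by decide) (by decide)
  exact absurd (e.ge (mem_top (⟨Equiv.swap 0 1 * Equiv.swap 2 6, by rw [Equiv.Perm.mem_alternatingGroup]; decide⟩ :
    alternatingGroup (Fin 7)))) (by decide)

open H14 H15.StdM11 in
theorem not_ms_7920 {G : Type*} [Group G] (hc : Nat.card G = 7920) : ¬ IsMinimalSimple G := fun h => by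
  obtain ⟨S⟩ := std
  have := h.1
  have := St.simple S
  have := S.faithful
  obtain ⟨e⟩ := H2.iso_of_7920 hc S.card
  have r := S.M.rels_of_chk (sep S.M) (l := [(powW [10, 10] 2, []), (powW [8, 11] 3, []), (powW [8, 11, 10, 10] 5, [])])
    (by decide +kernel)
  have f := S.M.fix_sound (ws := [[10, 10], [8, 11]]) (b := 0) (by norm_num) (by decide +kernel)
  refine not_ms_of_235 (H := MulAction.stabilizer _ (S.M.dec 0)) (fun e => ?_) (f (ev_mem_sub _ (w := [10, 10]) (by simp)))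
    (f (ev_mem_sub _ (w := [8, 11]) (by simp))) (fun e => ?_) (by simpa using r _ (.head _))
    (by simpa using r _ (.tail _ (.head _))) ?_ (ms_equiv h e)
  · have := S.M.testBit_runW [2] 1 (S.M.dec 0)
    rw [MulAction.mem_stabilizer_iff.1 (e.ge (mem_top _)), S.M.enc_dec 0 (by decide)] at this
    exact absurd this (by decide +kernel)
  · have := S.M.testBit_runW [10, 10] 4 (S.M.dec 2)
    rw [e, one_smul, S.M.enc_dec 2 (by decide)] at this
    exact absurd this (by decide +kernel)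
  · have := r _ (.tail _ (.tail _ (.head _)))
    rwa [ev_powW, show [8, 11, 10, 10] = [8, 11] ++ [10, 10] from rfl, ev_append, ev_nil] at this

variable {G : Type u} [Group G] [Finite G] {L H Q D : Subgroup G} {t : G}

theorem a1_not_solv (h : A1 L H Q D t) (h2 : 1 < prank 2 L) : ¬ Solv L := fun hs => by
  have k := (h.odd_le_ker h2 pcore_nml (piNat_two_compl.1 pcore_pi)).trans inf_le_left
  have h' := h.mim (coset O[{2}ᶜ](L)) pcore_nml.norm (mker_coset.le.trans k)
  have c := cent_sub_pcore (p := 2) (H := L ⫽ O[{2}ᶜ](L)) hs.mim pcore_quo_pcore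
  obtain ⟨S, hS⟩ := exists_sylow Nat.prime_two (Q ⫽ O[{2}ᶜ](L))
  have l := ((h'.sylow hS).pcore_le).trans hS.le
  by_cases e : O[{2}](L ⫽ O[{2}ᶜ](L)) = ⊥
  · rw [e] at c
    exact h'.t_ne (mem_bot.1 (c ⟨h'.tL, by simp⟩))
  · exact h'.tH (h'.norm_le l e ⟨h'.tL, pcore_nml.norm h'.tL⟩)

theorem ng_se (h : NG G) (hH : IsStronglyEmbedded H) :
    (∃ (F : Type) (_ : Field F) (_ : Fintype F), 4 ≤ Fintype.card F ∧ Nonempty (G ≃* PSL(2, F))) ∨ Lie.IsoSuzuki G := by
  have := h.simple
  obtain ⟨Q, t, a, -⟩ := H9.bender_simple hH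
  obtain ⟨K, V, W, Q₀, s, z⟩ := a.exists_suz
  have h2 := H19.two_lt_of_simple z
  have g := a.gen_of_simple
  obtain ⟨c, ⟨a, b⟩ | ⟨a, b, d⟩ | ⟨-, -, -, ω, -, ζ, hζ, ne, -⟩⟩ := H19.concl z h2
  · obtain ⟨F, _, _, e, ⟨f⟩⟩ := H19.isoPSL_of z a b
    obtain ⟨n, -, hn⟩ := z.exists_pow
    rw [g] at f
    refine Or.inl ⟨F, _, ‹_›, ?_, ⟨topEquiv.symm.trans f⟩⟩
    by_contra c
    have : n ≤ 1 := by_contra fun c' => c (by
      have := Nat.pow_le_pow_right two_pos (show 2 ≤ n by omega)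
      omega)
    have := Nat.pow_le_pow_right two_pos this
    omega
  · obtain ⟨F, _, _, m, h1, h3, ⟨f⟩⟩ := H19.isoSuzuki_of H19.pillarA z h2 c b a d
    rw [g] at f
    exact Or.inr ⟨F, _, _, m, h1, h3, ⟨topEquiv.symm.trans f⟩⟩
  · have z1 : orderOf ζ ≠ 1 := fun e => ne (by simp [orderOf_eq_one_iff.1 e])
    obtain ⟨p, pp, hp⟩ := Nat.exists_prime_and_dvd z1
    have := Fact.mk pp
    obtain ⟨⟨w, hw⟩, e⟩ := exists_prime_orderOf_dvd_card' (G := zpowers ζ) p (by rwa [Nat.card_zpowers])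
    rw [← orderOf_coe] at e
    have X : zpowers w ≤ W := zpowers_le.2 (zpowers_le.2 hζ hw)
    have z' := z.cent (X.trans z.leW)
    have s := h.loc _ ⟨p, zpowers w, pp, IsPGroup.of_card (n := 1) (by rw [Nat.card_zpowers, pow_one]; exact e),
      fun j => pp.ne_one (by rw [← e, orderOf_eq_one_iff]; exact zpowers_eq_bot.1 j), rfl⟩
    refine absurd (Solv.of_le s (inf_le_right.trans C_le_N)) (a1_not_solv z'.toA1 (z'.rank_iff.2 ?_))
    rwa [inf_eq_left.2 (cent_symm (X.trans z.W_cent₀))]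

end H26
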