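import Cfsg.Agent.H26.JC
import Cfsg.Agent.H9.Dihedral
import Mathlib.GroupTheory.PushoutI

/-! Groups with `P/O₂(P)` dihedral (`DQ`, `dq_of_iso`, `DQ.dih`), odd-order elements on sections of order four
(`cube_mem_c`), and the twisted amalgam of a group with itself (`Dih.twist`). -/

set_option autoImplicit false

namespace H26
open Cfsg Subgroup MulAction H4
open scoped Pointwise commutatorElement

variable {X : Type*} [Group X]

theorem cube_mem_c {Z C : Subgroup X} [Finite Z] (hZ : IsElementaryAbelian 2 Z) {d : X} (hn : d ∈ 𝐍 Z)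
    (hC : C ≤ 𝐂 (zpowers d)) (h0 : C.relIndex Z ≤ 4) (od : (orderOf d).Coprime 2) : d ^ 3 ∈ 𝐂 Z := by
  have hK : pResidualOf 2 (zpowers d) = zpowers d := pResidualOf_eq_self_of_coprime (by rwa [Nat.card_zpowers])
  have hW : ⁅Z, zpowers d⁆ ≤ Z := commutator_le_of_le_normalizer (zpowers_le.2 hn)
  have := finite_of_le hW
  have hp := elemAb_isPGroup hZ
  have hnW : zpowers d ≤ 𝐍 ⁅Z, zpowers d⁆ := le_normalizer_commutator_right _ _
  have h1 : ∀ m : ℕ, d ^ m ∈ 𝐂 ⁅Z, zpowers d⁆ → d ^ m ∈ 𝐂 Z := fun m e => by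
    have h2 : (orderOf (d ^ m)).Coprime 2 := od.coprime_dvd_left (orderOf_pow_dvd m)
    refine zpowers_le.1 (le_centralizer_of_stab (p := 2) (pResidualOf_eq_self_of_coprime (by rwa [Nat.card_zpowers]))
      (hp.to_le hW) (commutator_mono le_rfl (zpowers_le.2 (pow_mem (mem_zpowers d) m))) (zpowers_le.2 e))
  have h3 : ⁅Z, zpowers d⁆ ⊓ 𝐂 (zpowers d) = ⊥ := eq_bot_iff.2 fun w hw => by
    obtain ⟨v, hv, rfl⟩ := (H4.mem_commutator_zpowers_iff hZ.1 hn).1 hw.1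
    have h5 := H4.commutatorElement_pow_right' (a := v) (b := d) (H4.mem_centralizer_zpowers.1 hw.2) (orderOf d)
    rw [pow_orderOf_eq_one, commutatorElement_one_right] at h5
    exact eq_one_of_pow_coprime od h5.symm (hZ.2 _ (hW hw.1))
  have h4 : Nat.card ↥⁅Z, zpowers d⁆ ≤ 4 := by
    have h5 := card_mul_relIndex C ⁅Z, zpowers d⁆
    rw [inf_comm, eq_bot_iff.2 ((inf_le_inf_left _ hC).trans h3.le), card_bot, one_mul] at h5
    rw [← h5]
    exact (relIndex_le_of_le_right hW (C.subgroupOf Z).index_ne_zero_of_finite).trans h0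
  obtain ⟨k, hk⟩ := (IsPGroup.iff_card (p := 2)).1 (hp.to_le hW)
  refine h1 3 ?_
  match k, hk with
  | 0, hk => rw [card_eq_one.1 hk, centralizer_bot']; trivial
  | 1, hk => exact pow_mem (normalizer_le_c_of_card_two hk (hnW (mem_zpowers d))) 3
  | 2, hk => exact Four.cube_mem ⟨hk, fun w hw => by rw [← sq]; exact hZ.2 w (hW hw)⟩ hK hnW (mem_zpowers d)
  | k + 3, hk => rw [hk, pow_add] at h4; have := Nat.one_le_two_pow (n := k); omega

/-- `P/O₂(P)` is dihedral of order `2n`, `n` odd -/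
structure DQ (P T : Subgroup X) (n : ℕ) (s d : X) : Prop where
  syl : IsSyl 2 T P
  odd : n.Coprime 2
  two : (pCoreOf 2 P).relIndex T = 2
  idx : (pCoreOf 2 P).relIndex P = 2 * n
  sT : s ∈ T
  sQ : s ∉ pCoreOf 2 P
  dP : d ∈ P
  od : (orderOf d).Coprime 2
  dn : d ^ n ∈ pCoreOf 2 P
  inv : s * d * s⁻¹ * d ∈ pCoreOf 2 P
  gen : P ≤ T ⊔ zpowers d
  pow : ∀ g ∈ P, (s * (g * s * g⁻¹)) ^ n ∈ pCoreOf 2 P

theorem dq_of_hom {P T : Subgroup X} [Finite P] (hT : IsSyl 2 T P) {n : ℕ} (hn : 2 ≤ n) (π : P →* DihedralGroup n)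
    (hs : Function.Surjective π) (hk : ∀ x : P, π x = 1 ↔ (x : X) ∈ pCoreOf 2 P) : ∃ s d, DQ P T n s d := by
  have : NeZero n := ⟨by omega⟩
  have := hT.finite
  have hker : π.ker = pCore 2 P := by ext x; rw [MonoidHom.mem_ker, hk, pCore_eq_subgroupOf, mem_subgroupOf]
  have rn : ∀ i : ZMod n, (DihedralGroup.r i) ^ n = 1 := fun i => by simp
  have odd : n.Coprime 2 := by
    rw [Nat.coprime_two_right, ← Nat.not_even_iff_odd]
    rintro ⟨m, hm⟩
    have h1 : (m : ZMod n) + m = 0 := by rw [← Nat.cast_add, ← hm, ZMod.natCast_self]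
    have h2 : zpowers (DihedralGroup.r (m : ZMod n)) ≤ center _ := zpowers_le.2 (mem_center_iff.2 fun g => by
      rcases g with i | i
      · simp [add_comm]
      · simp [sub_eq_add_neg, neg_eq_of_add_eq_zero_left h1])
    have h3 : (zpowers (DihedralGroup.r (m : ZMod n))).Normal := ⟨fun x hx g => by
      rw [mem_center_iff.1 (h2 hx) g, mul_inv_cancel_right]; exact hx⟩
    have h4 : IsPGroup 2 (zpowers (DihedralGroup.r (m : ZMod n))) := isPGroup_zpowers (k := 1) (by simp [sq, h1])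
    have h5 := le_pCore (h4.comap_of_ker_isPGroup π (hker ▸ isPGroup_pCore 2 P))
    obtain ⟨x, hx⟩ := hs (DihedralGroup.r m)
    have h6 : π x = 1 := hker.ge (h5 (show π x ∈ zpowers _ from hx ▸ mem_zpowers _))
    rw [hx, DihedralGroup.one_def, DihedralGroup.r.injEq, ZMod.natCast_eq_zero_iff] at h6
    have := Nat.le_of_dvd (by omega) h6
    omega
  have idx : (pCoreOf 2 P).relIndex P = 2 * n := by
    rw [relIndex, ← pCore_eq_subgroupOf, ← hker, index_ker, MonoidHom.range_eq_top.2 hs, card_top, DihedralGroup.nat_card]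
  have two : (pCoreOf 2 P).relIndex T = 2 := by
    have h1 := relIndex_mul_relIndex _ _ _ hT.pCoreOf_le hT.le
    obtain ⟨k, hk⟩ := relIndex_dvd_card_of_isPGroup (H := pCoreOf 2 P) hT.isP
    have h2 := hT.not_dvd_relIndex
    have h3 := (Nat.coprime_two_right.1 odd).not_two_dvd_nat
    rw [idx, hk] at h1
    rw [hk]
    match k, h1 with
    | 0, h1 => omega
    | 1, h1 => rfl
    | k + 2, h1 => rw [pow_add, mul_assoc, mul_comm, mul_assoc] at h1; omega
  obtain ⟨s, hsT, hsQ⟩ := SetLike.not_le_iff_exists.1 fun e : T ≤ pCoreOf 2 P => by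
    rw [relIndex_eq_one.2 e] at two; omega
  obtain ⟨a, ha⟩ : ∃ a, π ⟨s, hT.le hsT⟩ = DihedralGroup.sr a := by
    rcases e : π ⟨s, hT.le hsT⟩ with i | i
    · refine absurd (mem_of_pow_mem_coprime odd ((hk (⟨s, hT.le hsT⟩ ^ n)).1 (by rw [map_pow, e, rn])) ?_) hsQ
      rw [sq]; exact two_of_relIndex two s hsT s hsT hsQ hsQ
    · exact ⟨i, rfl⟩
  obtain ⟨c, hc⟩ := hs (DihedralGroup.r 1)
  obtain ⟨k, od⟩ := exists_pow_coprime (p := 2) (isOfFinOrder_of_mem c.2)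
  have hc' : π (c ^ 2 ^ k) = DihedralGroup.r ((2 ^ k : ℕ) : ZMod n) := by rw [map_pow, hc, DihedralGroup.r_one_pow]
  have hcn : (c : X) ^ n ∈ pCoreOf 2 P := (hk (c ^ n)).1 (by rw [map_pow, hc, rn])
  refine ⟨s, (c : X) ^ 2 ^ k, hT, odd, two, idx, hsT, hsQ, P.pow_mem c.2 _, od, ?_, ?_, fun x hx => ?_, fun g hg => ?_⟩
  · exact (hk ((c ^ 2 ^ k) ^ n)).1 (by rw [map_pow, hc', rn])
  · exact (hk (⟨s, hT.le hsT⟩ * c ^ 2 ^ k * ⟨s, hT.le hsT⟩⁻¹ * c ^ 2 ^ k)).1 (by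
      simp only [map_mul, map_inv, hc', ha]; simp)
  · have h1 : (c : X) ∈ T ⊔ zpowers ((c : X) ^ 2 ^ k) := mem_of_pow_mem_coprime (odd.pow_right k)
      (mem_sup_left (hT.pCoreOf_le hcn)) (mem_sup_right (mem_zpowers _))
    have h2 : ∀ (y : P) i, π y = DihedralGroup.r i → (y : X) ∈ T ⊔ zpowers ((c : X) ^ 2 ^ k) := fun y i e => by
      have h3 := (hk (y * (c ^ i.val)⁻¹)).1 (by rw [map_mul, map_inv, map_pow, hc, e]; simp)
      exact (Subgroup.mul_mem_cancel_right _ (inv_mem (pow_mem h1 i.val))).1 (mem_sup_left (hT.pCoreOf_le h3))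
    rcases e : π ⟨x, hx⟩ with i | i
    · exact h2 _ i e
    · exact (Subgroup.mul_mem_cancel_left _ (mem_sup_left hsT)).1
        (h2 (⟨s, hT.le hsT⟩ * ⟨x, hx⟩) _ (by rw [map_mul, ha, e, DihedralGroup.sr_mul_sr]))
  · refine (hk ((⟨s, hT.le hsT⟩ * (⟨g, hg⟩ * ⟨s, hT.le hsT⟩ * ⟨g, hg⟩⁻¹)) ^ n)).1 ?_
    simp only [map_mul, map_inv, map_pow, ha]
    rcases π ⟨g, hg⟩ with i | i <;> simp

theorem dq_of_iso {P T : Subgroup X} [Finite P] (hT : IsSyl 2 T P) {n : ℕ} (hn : 2 ≤ n)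
    (e : Nonempty (P ⧸ pCore 2 P ≃* DihedralGroup n)) : ∃ s d, DQ P T n s d :=
  dq_of_hom hT hn (e.some.toMonoidHom.comp (QuotientGroup.mk' _))
    (e.some.surjective.comp (QuotientGroup.mk'_surjective _)) fun x => by
      simp [pCore_eq_subgroupOf, mem_subgroupOf]

namespace DQ
variable {P T : Subgroup X} {n : ℕ} {s d : X} (h : DQ P T n s d)
include h

theorem le_sup : T ≤ pCoreOf 2 P ⊔ zpowers s :=
  le_sup_of_two (two_of_relIndex h.two) (zpowers_le.2 h.sT) fun e => h.sQ (zpowers_le.1 e)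

theorem conj (g : X) : DQ (cj g P) (cj g T) n (g * s * g⁻¹) (g * d * g⁻¹) where
  syl := h.syl.cj g
  odd := h.odd
  two := by rw [← cj_pCoreOf, relIndex_cj, h.two]
  idx := by rw [← cj_pCoreOf, relIndex_cj, h.idx]
  sT := conj_mem_cj g h.sT
  sQ := by rw [← cj_pCoreOf, conj_mem_cj_iff]; exact h.sQ
  dP := conj_mem_cj g h.dP
  od := by rw [orderOf_cj]; exact h.od
  dn := by rw [← cj_pCoreOf, conj_pow]; exact conj_mem_cj g h.dn
  inv := by rw [← cj_pCoreOf]; convert conj_mem_cj g h.inv using 1; group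
  gen := by rw [← cj_zpowers, ← cj_sup]; exact cj_mono g h.gen
  pow := fun x hx => by
    rw [← cj_pCoreOf]; convert conj_mem_cj g (h.pow _ (mem_cj.1 hx)) using 1; rw [← conj_pow]; congr 1; group

theorem ss : s * s ∈ pCoreOf 2 P := two_of_relIndex h.two s h.sT s h.sT h.sQ h.sQ

theorem gen1 : P ≤ T ⊔ cj d T := by
  refine h.gen.trans (sup_le le_sup_left (zpowers_le.2 (mem_of_pow_mem_coprime h.odd
    (mem_sup_left (h.syl.pCoreOf_le h.dn)) ?_)))
  convert mul_mem (mul_mem (mem_sup_right (S := T) (conj_mem_cj d h.sT)) (mem_sup_left (inv_mem h.sT)))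
    (mem_sup_left (h.syl.pCoreOf_le h.inv)) using 1
  rw [sq]; group

theorem dih (zq : oz T ≤ pCoreOf 2 P) (nc : ¬ P ≤ 𝐂 (oz T)) : Dih P T := by
  refine ⟨h.syl.le, h.syl.pCoreOf_le, two_of_relIndex h.two, ⟨d, h.dP, h.gen1⟩, fun g hg e => ?_, zq, nc⟩
  have hs := h.syl.le h.sT
  have hk : g * s * g⁻¹ ∈ P := P.mul_mem (P.mul_mem hg hs) (inv_mem hg)
  have k : ∀ K, pCoreOf 2 P ≤ K → s ∈ K → g * s * g⁻¹ ∈ K → P ≤ K := fun K h1 h2 h3 =>
    e.trans (sup_le (h.le_sup.trans (sup_le h1 (zpowers_le.2 h2))) ((cj_mono g h.le_sup).trans (by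
      rw [cj_sup, cj_eq_iff.2 (le_normalizer_pCoreOf 2 P hg), cj_zpowers]; exact sup_le h1 (zpowers_le.2 h3))))
  have h1 : pCoreOf 2 P ≤ T ⊔ cj (g * s * g⁻¹) T := le_sup_of_le_left h.syl.pCoreOf_le
  refine ⟨_, hk, k _ h1 (mem_sup_left h.sT) ?_, k _ (le_sup_of_le_left (h.syl.cj_of_mem hg).pCoreOf_le) ?_
    (mem_sup_left (conj_mem_cj g h.sT))⟩
  · refine (Subgroup.mul_mem_cancel_left _ (mem_sup_left h.sT)).1 (mem_of_pow_mem_coprime h.odd (h1 (h.pow g hg)) ?_)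
    convert mul_mem (mul_mem (mem_sup_left h.sT) (mem_sup_right (S := T) (conj_mem_cj (g * s * g⁻¹) h.sT)))
      (h1 (conj_mem_of_mem_normalizer (le_normalizer_pCoreOf 2 P hg) h.ss)) using 1
    rw [sq]; group
  · have h2 := mem_sup_left (T := cj (g * s * g⁻¹) T) (conj_mem_cj g h.sT)
    convert mul_mem (mul_mem (inv_mem h2) (mem_sup_right (conj_mem_cj (g * s * g⁻¹) h.sT))) h2 using 1
    group

/-- a transvection on `⟨Ω₁Z(T)^P⟩` forces `d³` to centralize it -/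
theorem cube [Finite P] (zq : oz T ≤ pCoreOf 2 P)
    (e : ∀ x ∈ ncl (oz T) P, ∀ y ∈ ncl (oz T) P, x ∉ oz T → y ∉ oz T → x * y ∈ oz T) : d ^ 3 ∈ 𝐂 (oz T) := by
  have hnQ := le_normalizer_pCoreOf 2 P
  have h1 : ncl (oz T) P ≤ oz (pCoreOf 2 P) :=
    ncl_le (le_oz (elemAb_oz T) zq ((oz_le_c T).trans (centralizer_anti h.syl.pCoreOf_le))) (le_n_oz hnQ)
  have := finite_of_le (h1.trans ((oz_le _).trans (pCoreOf_le 2 P)))
  have hn := le_normalizer_ncl (oz T) P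
  have h2 : (oz T).relIndex (ncl (oz T) P) ≤ 2 := by
    by_cases h3 : ncl (oz T) P ≤ oz T
    · rw [relIndex_eq_one.2 h3]; omega
    · exact (relIndex_eq_two_of h3 e).le
  refine centralizer_anti (le_ncl _ P) (cube_mem_c (C := oz T ⊓ cj d (oz T)) (elemAb_mono (elemAb_oz _) h1) (hn h.dP)
    (le_trans ?_ (centralizer_anti ((zpowers_le.2 h.dP).trans h.gen1))) ?_ h.od)
  · rw [centralizer_sup', cj_oz]; exact inf_le_inf (oz_le_c _) (oz_le_c _)
  · refine (relIndex_inf_le).trans (Nat.mul_le_mul h2 (?_ : _ ≤ 2))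
    rwa [← cj_eq_iff.2 (hn h.dP), relIndex_cj]

theorem mem_c (hz : d ∈ 𝐂 (oz T)) : P ≤ 𝐂 (oz T) := h.gen.trans (sup_le (le_c_oz T) (zpowers_le.2 hz))

end DQ

theorem Dih.map {Y : Type*} [Group Y] {P T : Subgroup X} (h : Dih P T) {f : X →* Y} (hf : Function.Injective f) :
    Dih (P.map f) (T.map f) := by
  have hoz : (oz T).map f = oz (T.map f) := by rw [map_omegaOne hf, map_inf_centralizer hf]
  refine ⟨map_mono h.le, map_pCoreOf hf P ▸ map_mono h.QT, ?_, ?_, ?_, ?_, ?_⟩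
  · rintro _ ⟨a, ha, rfl⟩ _ ⟨b, hb, rfl⟩
    rw [← map_pCoreOf hf, ← map_mul]
    simp only [mem_map_iff_mem hf]
    exact h.two a ha b hb
  · obtain ⟨g, hg, e⟩ := h.gen1
    exact ⟨_, mem_map_of_mem f hg, by rw [← map_cj, ← Subgroup.map_sup]; exact map_mono e⟩
  · rintro _ ⟨g, hg, rfl⟩ e
    rw [← map_cj, ← Subgroup.map_sup, map_le_map_iff_of_injective hf] at e
    obtain ⟨l, hl, e1, e2⟩ := h.gen2 g hg e
    exact ⟨_, mem_map_of_mem f hl, by rw [← map_cj, ← Subgroup.map_sup]; exact map_mono e1,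
      by rw [← map_cj, ← map_cj, ← Subgroup.map_sup]; exact map_mono e2⟩
  · rw [← map_pCoreOf hf, ← hoz]; exact map_mono h.zq
  · rw [← hoz, map_le_centralizer_map_iff hf]; exact h.nc

open Monoid in
/-- the amalgam of `H` with itself over two identifications `ψ₁, ψ₂` of `B` with the Sylow subgroup `T` -/
theorem Dih.twist {H B : Type*} [Group H] [Group B] {T : Subgroup H} (h : Dih ⊤ T) (ψ₁ ψ₂ : B →* H)
    (i1 : Function.Injective ψ₁) (i2 : Function.Injective ψ₂) (r1 : ψ₁.range = T) (r2 : ψ₂.range = T)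
    (free : ∀ N : Subgroup B, (N.map ψ₁).Normal → (N.map ψ₂).Normal → N = ⊥)
    (sym : ((pCore 2 H).comap ψ₁ ⊓ (pCore 2 H).comap ψ₂).map ψ₁ = ((pCore 2 H).comap ψ₁ ⊓ (pCore 2 H).comap ψ₂).map ψ₂) :
    IsElementaryAbelian 2 (pCore 2 H) ∧ Nat.card (pCore 2 H) = 4 * Nat.card ↥(pCore 2 H ⊓ center H) ∧
      (Nat.card ↥(pCore 2 H ⊓ center H) = 1 ∨ Nat.card ↥(pCore 2 H ⊓ center H) = 2) ∧
      ∃ t ∈ T, t ∉ pCore 2 H ∧ t * t = 1 := by
  let φ : ∀ _ : Bool, B →* H := fun b => cond b ψ₁ ψ₂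
  have hφ : ∀ b, Function.Injective (φ b) := fun b => by cases b; exacts [i2, i1]
  have hr : ∀ b, (φ b).range = T := fun b => by cases b; exacts [r2, r1]
  let f : Bool → (H →* PushoutI φ) := fun b => PushoutI.of (φ := φ) b
  have hf : ∀ b, Function.Injective (f b) := PushoutI.of_injective hφ
  have hb : ∀ b (N : Subgroup B), (N.map (φ b)).map (f b) = N.map (PushoutI.base φ) := fun b N => by
    rw [map_map, PushoutI.of_comp_eq_base]
  have hT : ∀ b, T.map (f b) = (⊤ : Subgroup H).map (f true) ⊓ (⊤ : Subgroup H).map (f false) := fun b => by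
    rw [← hr b, ← MonoidHom.range_eq_map, ← MonoidHom.range_eq_map, MonoidHom.range_eq_map (φ b), hb,
      ← MonoidHom.range_eq_map, PushoutI.inf_of_range_eq_base_range hφ (by simp)]
  have d : ∀ b, Dih ((⊤ : Subgroup H).map (f b)) _ := fun b => hT b ▸ h.map (hf b)
  have hn : ∀ b (N : Subgroup B), (⊤ : Subgroup H).map (f b) ≤ 𝐍 (N.map (PushoutI.base φ)) → (N.map (φ b)).Normal :=
    fun b N e => normal_of_top_le_normalizer (by rwa [← hb b, map_le_normalizer_map_iff (hf b)] at e)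
  have fr : ∀ N ≤ (⊤ : Subgroup H).map (f true) ⊓ (⊤ : Subgroup H).map (f false),
      (⊤ : Subgroup H).map (f true) ≤ 𝐍 N → (⊤ : Subgroup H).map (f false) ≤ 𝐍 N → N = ⊥ := fun N h1 h2 h3 => by
    rw [← hT true, ← hr true, MonoidHom.range_eq_map, hb, ← MonoidHom.range_eq_map] at h1
    rw [← map_comap_eq_self h1] at h2 h3 ⊢
    rw [free _ (hn _ _ h2) (hn _ _ h3), Subgroup.map_bot]
  have hQ : ∀ b, pCoreOf 2 ((⊤ : Subgroup H).map (f b)) = (pCore 2 H).map (f b) := fun b => by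
    rw [← map_pCoreOf (hf b), pCoreOf_top]
  have hQT : pCore 2 H ≤ T := pCoreOf_top 2 H ▸ h.QT
  have hQ' : ∀ b, (pCore 2 H).map (f b) = ((pCore 2 H).comap (φ b)).map (PushoutI.base φ) := fun b => by
    rw [← hb b, map_comap_eq_self (hr b ▸ hQT)]
  obtain ⟨e1, e2⟩ := (dih_elem_or (d true) (d false) fr).resolve_right fun ⟨h1, h2⟩ => by
    rw [hQ, hQ, hQ', hQ', ← map_inf _ _ _ (PushoutI.base_injective hφ)] at h1 h2
    refine h1 (by
      rcases h2 with e | e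
      · rw [free _ (hn _ _ e) (sym ▸ hn _ _ e), Subgroup.map_bot]
      · rw [free _ (sym ▸ hn _ _ e) (hn _ _ e), Subgroup.map_bot])
  have b1 := b1_of (d true) (d false) fr e1 e2
  have b2 := b1_of (d false) (d true) (fun N h a b => fr N h b a) e2 e1
  have h1 := b1.card.2
  have h2 := (b1_card_le b1 b2 fr).2
  have h3 : pCoreOf 2 ((⊤ : Subgroup H).map (f true)) ⊓ 𝐂 ((⊤ : Subgroup H).map (f true)) =
      (pCore 2 H ⊓ center H).map (f true) := by rw [hQ, ← map_inf_centralizer (hf _), centralizer_top']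
  rw [h3, card_map_of_injective (hf _)] at h1 h2
  rw [hQ, card_map_of_injective (hf _)] at h1
  obtain ⟨t, ht, ht'⟩ := SetLike.not_le_iff_exists.1 fun e : pCoreOf 2 ((⊤ : Subgroup H).map (f false)) ≤
      pCoreOf 2 ((⊤ : Subgroup H).map (f true)) => by
    have := b2.idx
    rw [← b2.inf, inf_eq_left.2 e, relIndex_self] at this
    omega
  obtain ⟨u, hu, rfl⟩ : t ∈ T.map (f true) := hT true ▸ (d false).QT ht
  refine ⟨(elemAb_map_iff (hf true)).1 (hQ true ▸ e1), h1, h2, u, hu, fun e => ht' (hQ true ▸ mem_map_of_mem _ e), hf true ?_⟩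
  rw [map_mul, map_one, ← sq]
  exact e2.2 _ ht

end H26
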