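import Cfsg.Agent.H26.Sims
import Cfsg.Agent.H1.Cores

/-! `H/O(H)` for a group `H` with `H/O₂(H)` dihedral (`DQ.quot`, `DQ.quot_four`). -/

set_option autoImplicit false

namespace H26
open Cfsg Subgroup MulAction H4
open scoped Pointwise commutatorElement

variable {X : Type*} [Group X]

theorem nonempty_equiv_four {Y : Type*} [Group Y] (h : Nat.card Y = 4) (h2 : ∀ y : Y, y * y = 1) :
    Nonempty (Y ≃* Multiplicative (ZMod 2) × Multiplicative (ZMod 2)) := by
  have k : ∀ (Y : Type _) [Group Y], Nat.card Y = 4 → (∀ y : Y, y * y = 1) → Monoid.exponent Y = 2 := fun Y _ h h2 => by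
    have : Finite Y := Nat.finite_of_card_ne_zero (by omega)
    have : Nontrivial Y := Finite.one_lt_card_iff_nontrivial.1 (by omega)
    exact (Monoid.exponent_eq_prime_iff Nat.prime_two).2 fun g hg => orderOf_eq_prime (by rw [sq, h2]) hg
  have : IsKleinFour Y := ⟨h, k Y h h2⟩
  have : IsKleinFour (Multiplicative (ZMod 2) × Multiplicative (ZMod 2)) := ⟨by simp, by simp [Monoid.exponent_prod]⟩
  exact IsKleinFour.nonempty_mulEquiv

theorem DQ.le_n_zpowers {P T : Subgroup X} {n : ℕ} {s d : X} (h : DQ P T n s d) {m : ℕ}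
    (hc : d ^ m ∈ 𝐂 (pCoreOf 2 P)) : P ≤ 𝐍 (zpowers (d ^ m)) := by
  have h1 : pCoreOf 2 P ≤ 𝐍 (zpowers (d ^ m)) :=
    le_normalizer_of_le_centralizer (le_centralizer_iff.1 (zpowers_le.2 hc))
  have od : (orderOf (d ^ m)).Coprime 2 := h.od.coprime_dvd_left (orderOf_pow_dvd m)
  have : Finite (zpowers (d ^ m)) := finite_zpowers.2 (orderOf_pos_iff.1 (Nat.pos_of_ne_zero fun e => by simp [e] at od))
  refine h.gen.trans (sup_le (h.le_sup.trans (sup_le h1 (zpowers_le.2 (mem_normalizer_of_cj_le ?_))))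
    (le_normalizer_of_le_centralizer (zpowers_le.2 (H4.mem_centralizer_zpowers.2 (by group)))))
  rw [cj_zpowers, zpowers_le]
  refine pResidualOf_sup_le (isPGroup_pCoreOf 2 P) h1 (mem_pResidualOf ?_ (by rwa [orderOf_cj]))
  have h2 := mul_pow_mul_inv_mem (inv_mem (le_normalizer_pCoreOf 2 P h.dP)) h.inv m
  rw [mul_inv_cancel_right, conj_pow] at h2
  refine (Subgroup.mul_mem_cancel_right _ (mem_sup_right (mem_zpowers (d ^ m)))).1 (mem_sup_left ?_)
  simpa using h2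

variable {H : Type*} [Group H] [Finite H] {T : Subgroup H} {n : ℕ} {s d : H}

theorem DQ.mem_oddCore (h : DQ ⊤ T n s d) {m : ℕ} (hc : d ^ m ∈ 𝐂 (pCore 2 H)) : d ^ m ∈ oddCore H := by
  have := normal_of_top_le_normalizer (h.le_n_zpowers (pCoreOf_top 2 H ▸ hc))
  exact zpowers_le.1 (H1.le_pPrimeCore (by rw [Nat.card_zpowers]; exact h.od.coprime_dvd_left (orderOf_pow_dvd m)))

theorem card_map_oddCore {A : Subgroup H} (hA : IsPGroup 2 A) :
    Nat.card (A.map (QuotientGroup.mk' (oddCore H))) = Nat.card A := by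
  rw [← H1.card_map_mul_card_inf_ker (QuotientGroup.mk' (oddCore H)) A, QuotientGroup.ker_mk',
    eq_bot_iff.2 (show oddCore H ⊓ A ≤ ⊥ from fun x hx => eq_one_of_mem_isPGroup hA hx.2
      ((H1.coprime_card_pPrimeCore 2 H).coprime_dvd_left (orderOf_dvd_card_of_mem hx.1))), card_bot, mul_one]

theorem DQ.quot_four (h : DQ ⊤ T n s d) (hc : d ∈ 𝐂 (pCore 2 H)) (h4 : Nat.card T = 4) (h2 : ∀ t ∈ T, t * t = 1) :
    Nonempty (H ⧸ oddCore H ≃* Multiplicative (ZMod 2) × Multiplicative (ZMod 2)) := by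
  have h1 : T.map (QuotientGroup.mk' (oddCore H)) = ⊤ := by
    rw [eq_top_iff, ← map_mk'_top, map_mk'_le_iff]
    exact h.gen.trans (sup_le_sup_left (zpowers_le.2 (by simpa using h.mem_oddCore (m := 1) (by simpa using hc))) _)
  refine nonempty_equiv_four (by rw [← card_top, ← h1, card_map_oddCore h.syl.isP, h4]) fun y => ?_
  obtain ⟨t, ht, rfl⟩ := h1.ge (mem_top y)
  rw [← map_mul, h2 t ht, map_one]

theorem DQ.quot (h : DQ ⊤ T n s d) (hd : d ∉ 𝐂 (pCore 2 H)) (ea : IsElementaryAbelian 2 (pCore 2 H))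
    (h4 : Nat.card (pCore 2 H) = 4 * Nat.card ↥(pCore 2 H ⊓ center H)) {t : H} (ht : t ∈ T) (ht' : t ∉ pCore 2 H)
    (htt : t * t = 1) :
    (Nat.card ↥(pCore 2 H ⊓ center H) = 1 → Nonempty (H ⧸ oddCore H ≃* Equiv.Perm (Fin 4))) ∧
    (Nat.card ↥(pCore 2 H ⊓ center H) = 2 →
      Nonempty (H ⧸ oddCore H ≃* Equiv.Perm (Fin 4) × Multiplicative (ZMod 2))) := by
  set f := QuotientGroup.mk' (oddCore H)
  set Q := pCore 2 H with hQ
  have hQe : pCoreOf 2 (⊤ : Subgroup H) = Q := pCoreOf_top 2 H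
  have hQT : Q ≤ T := hQe ▸ h.syl.pCoreOf_le
  have inj : ∀ x ∈ T, f x = 1 → x = 1 := fun x hx e => eq_one_of_mem_isPGroup h.syl.isP hx
    ((H1.coprime_card_pPrimeCore 2 H).coprime_dvd_left (orderOf_dvd_card_of_mem ((QuotientGroup.eq_one_iff x).1 e)))
  have memQ : ∀ x ∈ T, f x ∈ Q.map f → x ∈ Q := fun x hx ⟨q, hq, e⟩ => by
    rw [← inv_mul_eq_one.1 (inj (q⁻¹ * x) (T.mul_mem (inv_mem (hQT hq)) hx) (by rw [map_mul, map_inv, e, inv_mul_cancel]))]
    exact hq
  have cm : ∀ q ∈ Q, ∀ x : H, f q * f x = f x * f q → q * x = x * q := fun q hq x e => by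
    have := inj (q⁻¹ * (x * q * x⁻¹)) (hQT (Q.mul_mem (inv_mem hq) (Normal.conj_mem inferInstance q hq x)))
      (by simp only [map_mul, map_inv, ← e]; group)
    rw [inv_mul_eq_one, eq_mul_inv_iff_mul_eq] at this
    exact this
  have cQ : f d ∉ 𝐂 (Q.map f) := fun e => hd fun q hq => cm q hq d (e _ (mem_map_of_mem f hq))
  have hd3 : f d ^ 3 = 1 := by
    rw [← map_pow]
    refine (QuotientGroup.eq_one_iff _).2 (h.mem_oddCore (cube_mem_c (C := Q ⊓ center H) ea
      (normalizer_eq_top Q ▸ mem_top d) (inf_le_right.trans (center_le_centralizer _)) ?_ h.od))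
    have := card_mul_relIndex_of_le (inf_le_left : Q ⊓ center H ≤ Q)
    rw [h4, mul_comm] at this
    exact (Nat.eq_of_mul_eq_mul_right Nat.card_pos this).le
  have hT : IsSyl 2 (T.map f) ⊤ := map_mk'_top (oddCore H) ▸ h.syl.map f
  have two : ∀ x ∈ T.map f, ∀ y ∈ T.map f, x ∉ Q.map f → y ∉ Q.map f → x * y ∈ Q.map f := by
    rintro _ ⟨a, ha, rfl⟩ _ ⟨b, hb, rfl⟩ h1 h2
    exact map_mul f a b ▸ mem_map_of_mem f (hQe ▸ two_of_relIndex h.two a ha b hb
      (fun e => h1 (mem_map_of_mem f (hQe ▸ e))) fun e => h2 (mem_map_of_mem f (hQe ▸ e)))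
  have hnQ : (Q.map f).Normal := Normal.map inferInstance f (QuotientGroup.mk'_surjective _)
  have n3 : ∀ R : Subgroup (H ⧸ oddCore H), IsPGroup 2 R → f d ∉ R := fun R hR e => cQ (by
    obtain ⟨k, hk⟩ := isPGroup_iff_mem.1 hR _ e
    rw [eq_one_of_pow_coprime (Nat.Coprime.pow_left k (by norm_num : Nat.Coprime 2 3)) hk hd3]; exact one_mem _)
  have hR : pCoreOf 2 (⊤ : Subgroup (H ⧸ oddCore H)) = Q.map f := by
    refine pCoreOf_eq_of ((isPGroup_pCore 2 H).map f) le_top (normalizer_eq_top _).ge (by_contra fun e => ?_)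
    have h1 := (le_sup_of_two two hT.pCoreOf_le e).trans
      (sup_le (le_pCoreOf ((isPGroup_pCore 2 H).map f) le_top (normalizer_eq_top _).ge) le_rfl)
    have h2 := map_mono (f := f) h.gen1 (mem_map_of_mem f (mem_top d))
    rw [Subgroup.map_sup, map_cj] at h2
    exact n3 _ (isPGroup_pCoreOf 2 ⊤) (sup_le h1 (cj_le_of_mem_normalizer h1 (le_normalizer_pCoreOf 2 ⊤ (mem_top _))) h2)
  have hs : f s ∉ Q.map f := fun e => h.sQ (hQe ▸ memQ s h.sT e)
  have h2 : (Q.map f).relIndex (T.map f) = 2 := relIndex_eq_two_of (fun e => hs (e (mem_map_of_mem f h.sT))) two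
  have h3 := relIndex_sup_zpowers (p := 3) (hp := ⟨Nat.prime_three⟩) (Q := Q.map f) (r := f d)
    (normalizer_eq_top (Q.map f) ▸ mem_top _) (hd3 ▸ one_mem _) (n3 _ ((isPGroup_pCore 2 H).map f))
  have h6 : (Q.map f).relIndex ⊤ = 6 := by
    set K := zpowers (f d) ⊔ Q.map f
    have hss : f s * f s ∈ Q.map f := two _ (mem_map_of_mem f h.sT) _ (mem_map_of_mem f h.sT) hs hs
    have h5 : f s ∈ 𝐍 K := mem_normalizer_of_cj_le (by
      rw [cj_sup, cj_zpowers, cj_eq_of_normal]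
      refine sup_le (zpowers_le.2 ((Subgroup.mul_mem_cancel_right _ (mem_sup_left (mem_zpowers (f d)))).1
        (mem_sup_right ?_))) le_sup_right
      have : s * d * s⁻¹ * d ∈ Q := hQe ▸ h.inv
      simpa only [map_mul, map_inv] using mem_map_of_mem f this)
    have h7 : T.map f ≤ Q.map f ⊔ zpowers (f s) :=
      le_sup_of_two two (zpowers_le.2 (mem_map_of_mem f h.sT)) fun e => hs (zpowers_le.1 e)
    have h8 := relIndex_sup_zpowers (p := 2) h5 (by rw [sq]; exact mem_sup_right hss) fun e => by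
      have := relIndex_mul_relIndex _ _ K (map_mono hQT) (h7.trans (sup_le le_sup_right (zpowers_le.2 e)))
      rw [h2, h3] at this; omega
    have h9 : zpowers (f s) ⊔ K = ⊤ := by
      rw [eq_top_iff, ← map_mk'_top]
      refine (map_mono h.gen).trans ?_
      rw [Subgroup.map_sup, MonoidHom.map_zpowers]
      exact sup_le (h7.trans (sup_le (le_sup_of_le_right le_sup_right) le_sup_left)) (le_sup_of_le_right le_sup_left)
    rw [← relIndex_mul_relIndex _ K ⊤ le_sup_right le_top, h3, ← h9, h8]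
  rw [← hR] at h6
  have hc : CharPOf 2 (⊤ : Subgroup (H ⧸ oddCore H)) := by
    have h5 : ⊤ ≤ 𝐍 (𝐂 (Q.map f)) := le_normalizer_centralizer (normalizer_eq_top _).ge
    rw [CharPOf, top_inf_eq]
    rcases six_max hT h6 (le_sup_left (b := 𝐂 (Q.map f))) le_top with e | e
    · rw [hR, ← hR]; exact hR ▸ le_pCoreOf (hT.isP.to_le (le_sup_right.trans e.le)) le_top h5
    · refine absurd (pResidualOf_sup_le hT.isP (le_top.trans h5) (mem_pResidualOf (e.ge (mem_top _)) ?_)) cQ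
      exact (show Nat.Coprime 3 2 by norm_num).coprime_dvd_left (orderOf_dvd_of_pow_eq_one hd3)
  have hC : pCoreOf 2 ⊤ ⊓ 𝐂 (⊤ : Subgroup (H ⧸ oddCore H)) = (Q ⊓ center H).map f := by
    rw [hR, centralizer_top']
    refine le_antisymm ?_ (le_inf (map_mono inf_le_left) ?_)
    · rintro _ ⟨⟨q, hq, rfl⟩, e⟩
      exact mem_map_of_mem f ⟨hq, mem_center_iff.2 fun x => (cm q hq x (mem_center_iff.1 e _).symm).symm⟩
    · rintro _ ⟨q, hq, rfl⟩
      refine mem_center_iff.2 fun x => ?_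
      obtain ⟨x, rfl⟩ := QuotientGroup.mk'_surjective _ x
      rw [← map_mul, mem_center_iff.1 hq.2, map_mul]
  have hC' : Nat.card ↥(pCoreOf 2 ⊤ ⊓ 𝐂 (⊤ : Subgroup (H ⧸ oddCore H))) = Nat.card ↥(Q ⊓ center H) := by
    rw [hC, card_map_oddCore (isPGroup_pCore 2 H).to_inf_left]
  obtain ⟨K, k1, -, k2, k3, k4⟩ := s4_split hT h6 hc (hR ▸ elemAb_map ea f)
    (by rw [hC', hR, card_map_oddCore (isPGroup_pCore 2 H), h4]) (mem_map_of_mem f ht)
    (fun e => ht' (memQ t ht (hR ▸ e))) (by rw [← map_mul, htt, map_one])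
  obtain ⟨e1, e2⟩ := iso_of_split inf_le_right k1 k2 k3 k4
  exact ⟨fun e => ⟨topEquiv.symm.trans (e1 (hC' ▸ e)).some⟩,
    fun e => ⟨(topEquiv.symm.trans (e2 (hC' ▸ e)).some).trans MulEquiv.prodComm⟩⟩

end H26
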