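import Cfsg.Agent.S1602
import Cfsg.Agent.S2060
import Cfsg.Agent.H2.IdM
import Cfsg.Agent.H17.Part4
import Cfsg.Agent.H5.Lie3
import Cfsg.Agent.H21.Crit

/-! Towards Wong's theorem (suborbit of length 3): groups with a self-centralizing four-group in an `S₄` (`U4`). -/

set_option autoImplicit false
set_option linter.unusedSectionVars false
set_option linter.unusedVariables false

namespace H326
open Cfsg H18 Subgroup H22
open scoped MatrixGroups

variable {G : Type*} [Group G] [Finite G] {L K S N : Subgroup G} {v z b g h x : G}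

theorem solv_of_c4 (hd : DS L) (hv : v ∈ L) (v2 : orderOf v = 2) (hc : Nat.card (L ⊓ C1(v) : Subgroup G) ≤ 4)
    (h8 : 8 ∣ Nat.card L) : Solv L := by
  by_contra ns
  have c := (dg_all hd).core ns
  have n : O'(L) ⊴ L := pcore_nml
  have k := (H5.Lie.card_quo_cent_le n (n.norm hv)).trans hc
  have vX : cs O'(L) v ∈ L ⫽ O'(L) := mfun_mem_mim hv
  have o : orderOf (cs O'(L) v) = 2 := by
    refine ((Nat.dvd_prime Nat.prime_two).1 ((orderOf_mfun_dvd (n.norm hv)).trans v2.dvd)).resolve_left fun e => ?_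
    exact pcore_pi.elt ((cs_eq_one_iff (n.norm hv)).1 (orderOf_eq_one_iff.1 e)) 2 Nat.prime_two (v2 ▸ dvd_rfl) rfl
  have h8' : 8 ∣ Nat.card (L ⫽ O'(L)) := (piNat_pow_self Nat.prime_two 3).dvd_of_dvd_mul pcore_pi
    (by rw [mul_comm, card_quo_mul n]; exact h8)
  have d := (dg_all hd).ds'
  generalize cs O'(L) v = w at k vX o
  generalize H17.lay (L ⫽ O'(L)) = E at c
  generalize L ⫽ O'(L) = X at c k vX h8' d
  by_cases e : w ∈ E
  · obtain ⟨T, hT⟩ := exists_sylow Nat.prime_two X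
    have := hT.pi.meet_cent (hT.inf_nml c.nml).pi (norm_inf le_N (hT.le.trans c.nml.norm))
      ((hT.inf_nml c.nml).ne_bot_p Nat.prime_two (o.symm.dvd.trans (H18.orderOf_dvd_card e)))
    obtain ⟨t, ht, pt⟩ := exists_prime_order this
    have ot := (hT.pi.elt ht.1.1).eq_of_dvd pt dvd_rfl
    obtain ⟨g, hg, rfl⟩ := one_of_perfect (d.of_le c.nml.le) c.perf c.ne t ht.1.2 w e ot o
    rw [← cj_C1, ← cj_eq_self_of_mem (c.nml.le hg), ← cj_inf, card_cj] at k
    have := Nat.le_of_dvd card_pos' ((hT.dvd_of_piNat (piNat_pow_self Nat.prime_two 3) h8').trans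
      (card_dvd (le_inf hT.le (le_C1_iff.2 ht.2))))
    omega
  obtain ⟨q, s, l⟩ | ⟨rfl, -⟩ := c.kn
  · obtain ⟨T, hT, -, -, h1, -⟩ := l.tor w vX o
    have h2 := h1 e
    have h3 := card_dvd (hT.trans (inf_le_inf_right _ c.nml.le))
    have h4 := o.symm.dvd.trans (H18.orderOf_dvd_card (H := X ⊓ C1(w)) ⟨vX, C1_self⟩)
    have h5 := l.four
    have h6 := l.gt
    have h7 := l.sgn
    have h8 : 0 < Nat.card (X ⊓ C1(w) : Subgroup _) := card_pos'
    have := Nat.le_of_dvd h8 h3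
    generalize Nat.card (X ⊓ C1(w) : Subgroup _) = n at *
    generalize Nat.card T = m at *
    interval_cases n <;> interval_cases m <;> omega
  · exact e vX

theorem no_r5 {F A : Type*} [Field F] [Group A] (M : H25.PG F A) (h2 : (2 : F) ≠ 0) {a r : A} (a2 : a * a = 1)
    (hr : r ∈ M.E) (r8 : r ^ 8 = 1) (r4 : r ^ 4 ≠ 1) (e : a * r * a⁻¹ = r ^ 5) : False := by
  obtain ⟨g, rfl, δ, hδ⟩ := (M.memE r).1 hr
  obtain ⟨ρ, -, ht, hd, hg⟩ := M.act a
  obtain ⟨g', e1, e2⟩ := hg g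
  have s : H24.IsScal ((g' * (g ^ 5)⁻¹ : GL (Fin 2) F) : H24.M2 F) := by
    rw [← M.one, map_mul, map_inv, ← e2, e, map_pow, mul_inv_cancel]
  have e3 : (g' : H24.M2 F) = (g' * (g ^ 5)⁻¹ : GL (Fin 2) F) 0 0 • (g : H24.M2 F) ^ 5 := by
    conv_lhs => rw [← inv_mul_cancel_right g' (g ^ 5), Units.val_mul, s.eq_smul]
    rw [smul_mul_assoc, one_mul]; rfl
  generalize (g' * (g ^ 5)⁻¹ : GL (Fin 2) F) 0 0 = l at e3
  have s8 := (M.one (g ^ 4 * g ^ 4)).1 (by rw [← pow_add, map_pow, r8])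
  have s4 := mt (M.one (g ^ 4)).2 (by rwa [map_pow])
  have t4 : ((g : H24.M2 F) ^ 4).trace = 0 := by
    rw [Units.val_mul] at s8
    rw [Units.val_pow_eq_pow_val] at s8 s4
    generalize (g : H24.M2 F) ^ 4 = k at s8 s4
    by_contra t
    simp only [H24.IsScal, Matrix.mul_apply, Fin.sum_univ_two, Matrix.trace_fin_two] at s8 s4 t
    exact s4 ⟨mul_right_cancel₀ t (by linear_combination s8.1), mul_right_cancel₀ t (by linear_combination s8.2.1),
      mul_right_cancel₀ t (by linear_combination s8.2.2)⟩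
  have d0 : δ ≠ 0 := fun e => H24.GL_det_ne_zero g (by rw [hδ, e, mul_zero])
  have p4 : ∀ m : H24.M2 F, (m ^ 4).trace = m.trace ^ 4 - 4 * m.trace ^ 2 * m.det + 2 * m.det ^ 2 := fun m => by
    simp only [pow_succ, pow_zero, one_mul, Matrix.mul_apply, Fin.sum_univ_two, Matrix.trace_fin_two,
      Matrix.det_fin_two]; ring
  have p5 : ∀ m : H24.M2 F, (m ^ 5).trace = m.trace ^ 5 - 5 * m.trace ^ 3 * m.det + 5 * m.trace * m.det ^ 2 := fun m => by
    simp only [pow_succ, pow_zero, one_mul, Matrix.mul_apply, Fin.sum_univ_two, Matrix.trace_fin_two,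
      Matrix.det_fin_two]; ring
  have f1 := ht g
  have f2 := hd g
  rw [← e1, e3] at f1 f2
  rw [Matrix.trace_smul, p5, smul_eq_mul, hδ] at f1
  rw [Matrix.det_smul, Matrix.det_pow, hδ, map_mul, Fintype.card_fin] at f2
  rw [p4, hδ] at t4
  have σσ : ∀ x, M.σ a (M.σ a x) = x := fun x => by rw [← RingAut.mul_apply, ← map_mul, a2, map_one]; rfl
  obtain ⟨y, hy⟩ : ∃ y, (g : H24.M2 F).trace = y * δ := ⟨_, (div_mul_cancel₀ _ d0).symm⟩
  rw [hy] at f1 t4
  rw [map_mul] at f1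
  have y4 : y ^ 4 - 4 * y ^ 2 + 2 = 0 := mul_right_cancel₀ (pow_ne_zero 4 d0) (by linear_combination t4)
  have d1 : M.σ a δ ≠ 0 := by simpa using d0
  have y2 : M.σ a y ^ 2 = 4 - y ^ 2 := mul_right_cancel₀ (mul_ne_zero d1 d1) (by
    have : (M.σ a y * M.σ a δ) ^ 2 = (l * ((y * δ) ^ 5 - 5 * (y * δ) ^ 3 * (δ * δ) + 5 * (y * δ) * (δ * δ) ^ 2)) ^ 2 := by
      rw [f1]
    linear_combination this + (4 - y ^ 2) * f2 + l ^ 2 * δ ^ 10 * (y ^ 6 - 6 * y ^ 4 + 9 * y ^ 2 - 2) * y4)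
  have n := σσ y
  have k : (y * M.σ a y - (y ^ 2 - 2)) * (y * M.σ a y + (y ^ 2 - 2)) = 0 := by
    linear_combination y ^ 2 * y2 - 2 * y4
  have j : y ^ 2 - 2 = 0 := by
    refine (mul_eq_zero.1 (?_ : (2 : F) * _ = 0)).resolve_left h2
    obtain k | k := mul_eq_zero.1 k <;> have := congrArg (M.σ a) k <;>
      simp only [map_sub, map_add, map_mul, map_pow, map_zero, map_ofNat, n] at this
    · linear_combination this - k + y2
    · linear_combination k - this + y2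
  exact h2 (by linear_combination (y ^ 2 - 2) * j - y4)

theorem m11_s5 [IsSimpleGroup G] (hc : Nat.card G = 7920) :
    ∃ f : Equiv.Perm (Fin 5) →* G, Function.Injective f := by
  obtain ⟨e⟩ := H2.m11_iso hc
  have p : some 0 ∈ H14.d0 := by decide +kernel
  obtain ⟨q, q', h1, h2, h3⟩ : ∃ q q', q ∉ H14.d0 ∧ q' ∉ H14.d0 ∧ q ≠ q' := by decide +kernel
  obtain ⟨f⟩ := Cfsg.Agent.S1602.result _ H14.d0_mem _ q q' p h1 h2 h3
  obtain ⟨k⟩ := H14.stabDp_equiv H14.d0_mem p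
  exact ⟨(e.trans (H14.eM11.symm.trans k)).symm.toMonoidHom.comp ((inclusion inf_le_left).comp f.symm.toMonoidHom),
    (e.trans (H14.eM11.symm.trans k)).symm.injective.comp ((inclusion_injective inf_le_left).comp f.symm.injective)⟩

theorem m11_out [N.Normal] [IsSimpleGroup N] (hc : Nat.card N = 7920) (hC : C(N) = ⊥) : N = ⊤ := by
  obtain ⟨e⟩ := H2.m11_iso hc
  obtain ⟨f, h1, h2⟩ := exists_conj_hom e
  have : (MulAut.conj : Spor.M11 →* _).range = ⊤ := index_eq_one.1 Cfsg.Agent.S2060.result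
  exact eq_top_iff.2 fun g _ => mem_of_mfun_mem (norm_of_normal (mem_top g)) le_N (by rw [h1, hC]; exact bot_le)
    (by rw [h2, this]; trivial)

namespace Wo
open Equiv

abbrev S4 := Perm (Fin 4)
def z0 : S4 := swap 0 1 * swap 2 3
def v0 : S4 := swap 0 2 * swap 1 3
def s0 : S4 := swap 0 1

structure U4 (φ : S4 →* G) (h : G) (S : Subgroup G) : Prop where
  inj : Function.Injective φ
  cen : ∀ g : G, g ∈ C1(φ v0) → g ∈ C1(φ z0) → g = 1 ∨ g = φ z0 ∨ g = φ v0 ∨ g = φ (v0 * z0)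
  hv : h * φ v0 * h⁻¹ = φ s0
  syl : Hall {2} S ⊤
  vS : φ v0 ∈ S
  sS : φ s0 ∈ S
  big : 16 ∣ Nat.card S

theorem card_le_four {a b c d : G} (h : ∀ g ∈ K, g = a ∨ g = b ∨ g = c ∨ g = d) : Nat.card K ≤ 4 :=
  (Set.ncard_le_ncard (s := (K : Set G)) (t := {a, b, c, d}) h).trans
    ((Set.ncard_insert_le ..).trans (Nat.succ_le_succ ((Set.ncard_insert_le ..).trans
      (Nat.succ_le_succ ((Set.ncard_insert_le ..).trans (by simp : _ ≤ 2))))))

theorem range_le {φ : S4 →* G} (hn : φ.range ≤ N(K)) (hs : φ s0 ∈ K) : φ.range ≤ K := by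
  rintro _ ⟨a, rfl⟩
  refine Perm.swap_induction_on a (map_one φ ▸ one_mem K) fun f x y hxy hf => map_mul φ _ _ ▸ mul_mem ?_ hf
  obtain ⟨c, hc⟩ := isConj_iff.1 (Perm.isConj_swap (show (0 : Fin 4) ≠ 1 by decide) hxy)
  rw [← hc, map_mul, map_mul, map_inv]
  exact conj_mem hn ⟨c, rfl⟩ hs

namespace U4
variable {φ : S4 →* G} (u : U4 φ h S)
include u

theorem ord {a : S4} (h1 : a * a = 1) (h2 : a ≠ 1) : orderOf (φ a) = 2 :=
  (orderOf_injective φ u.inj a).trans (H9.orderOf_eq_two.2 ⟨h1, h2⟩)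
theorem zS : φ z0 ∈ S := by
  rw [show z0 = v0 * s0 * (v0 * s0) by decide, map_mul, map_mul]
  exact mul_mem (mul_mem u.vS u.sS) (mul_mem u.vS u.sS)
theorem zc (hb : b ∈ C(S)) (b1 : b ≠ 1) : b = φ z0 := by
  have c := mem_C.1 hb _ u.sS
  obtain e | e | rfl | rfl := u.cen b (C_le_C1 u.vS hb) (C_le_C1 u.zS hb)
  exacts [absurd e b1, e, by rw [← map_mul, ← map_mul] at c; exact absurd (u.inj c) (by decide),
    by rw [← map_mul, ← map_mul] at c; exact absurd (u.inj c) (by decide)]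
theorem zin [K.Normal] (ns : ¬ Solv K) : φ.range ≤ K := by
  have k := u.syl.inf_nml (K := K) nml_top
  obtain ⟨b, hb, b1⟩ := exists_mem_ne_one' (u.syl.pi.meet_cent k.pi (norm_inf le_N norm_of_normal) fun e =>
    ns (H1.solv_of_two' (e ▸ k).compl_of_eq_bot))
  have zK := u.zc hb.2 b1 ▸ hb.1.2
  refine range_le norm_of_normal (u.hv ▸ conj_mem_N (norm_of_normal (mem_top h)) ?_)
  rw [show v0 = swap 1 2 * z0 * (swap 1 2)⁻¹ by decide, map_mul, map_mul, map_inv]
  exact conj_mem_N (norm_of_normal (mem_top _)) zK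
theorem S_le : S ≤ C1(φ z0) := by
  obtain ⟨b, hb, b1⟩ := exists_mem_ne_one' (u.syl.pi.nil.Z_ne_bot (ne_bot_of_prime_dvd Nat.prime_two
    (Dvd.dvd.trans (by norm_num) u.big)))
  exact le_C1_iff.2 (u.zc hb.2 b1 ▸ hb.2)
theorem four : Nat.card (C1(φ z0) ⊓ C1(φ v0) : Subgroup G) ≤ 4 := card_le_four fun g hg => u.cen g hg.2 hg.1

theorem cls [IsSimpleGroup G] :
    (∃ (F : Type) (_ : Field F) (_ : Fintype F), Odd (Fintype.card F) ∧ 3 < Fintype.card F ∧ Nonempty (G ≃* PSL(2, F))) ∨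
      Nonempty (G ≃* PSL(3, ZMod 3)) ∨ (Nat.card G = 7920 ∧ IsQuasiDihedral S) := by
  have nc : φ v0 * φ s0 ≠ φ s0 * φ v0 := fun c => by rw [← map_mul, ← map_mul] at c; exact absurd (u.inj c) (by decide)
  have hn : ¬ IsMulCommutative G := fun c => nc (c.is_comm.comm _ _)
  obtain ⟨k, x, m⟩ := H9.mc_of_card_centralizer u.syl.pi.isPGroup u.vS
    ((card_le (inf_le_inf_right _ u.S_le)).trans u.four) fun c => nc (comm_of_cent (abel_of_comm c) u.vS u.sS)
  have ov := u.ord (a := v0) (by decide) (by decide)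
  have oz := u.ord (a := z0) (by decide) (by decide)
  have zu : x ^ 2 ^ (k + 1) = φ z0 := u.zc (mem_C.2 fun g hg => m.commute_u hg) m.u_ne_one
  have vx : φ v0 ∉ zpowers x := fun e => absurd (u.inj ((m.eq_u e ov).trans zu)) (by decide)
  obtain ⟨P, rfl⟩ := u.syl.exists_sylow_top Nat.prime_two
  obtain c | c | ⟨c1, c⟩ := m.cases
  · obtain ⟨e⟩ := m.equiv_dihedral c
    refine .inl ((gw_sylow hn P e).resolve_right fun ⟨f⟩ => ?_)
    have := u.big.trans (card_subgroup_dvd_card _)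
    rw [Nat.card_congr f.toEquiv, nat_card_alternatingGroup] at this
    simp [Nat.factorial] at this
  · exact absurd ((c _ u.vS vx).symm.trans (H9.mul_self_of_orderOf ov)) m.u_ne_one
  obtain ⟨k, rfl⟩ := Nat.exists_eq_add_of_le' c1
  have q : QD P k x (φ v0) := ⟨m, c, u.vS, vx, H9.mul_self_of_orderOf ov⟩
  have : Solv C1(x ^ 2 ^ (k + 1 + 1)) := by
    rw [zu]
    have n : zpowers (φ z0) ⊴ C1(φ z0) := ⟨zpowers_le.2 C1_self, C1_le_N_zpowers⟩
    have vz := u.S_le u.vS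
    have sN := u.S_le.trans n.norm
    refine solv_of_quo n.norm (solv_of_c4 (v := cs (zpowers (φ z0)) (φ v0)) (ds_of_sylow
      ((u.syl.of_le u.S_le le_top).mim n.norm) ⟨cs _ x, mfun_mem_mim m.xmem, fun g hg hx => ?_⟩) (mfun_mem_mim vz)
      (((Nat.dvd_prime Nat.prime_two).1 (ov ▸ orderOf_mfun_dvd (n.norm vz))).resolve_left fun e => vx
        (zpowers_le.2 (zu ▸ pow_mem (mem_zpowers x) _) ((cs_eq_one_iff (n.norm vz)).1 (orderOf_eq_one_iff.1 e))))
      ((H5.Lie.card_quo_cent_le n (n.norm vz)).trans u.four) ?_) abel_zpowers.solv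
    · rw [← mim_zpowers (sN m.xmem)] at hx ⊢
      obtain ⟨a, ha, rfl⟩ := (mem_quo sN).1 hg
      have ax : a ∉ zpowers x := fun e => hx (mfun_mem_mim e)
      refine ⟨?_, fun g hg hx => ?_⟩
      · rw [← mfun_mul (sN ha) (sN ha), cs_eq_one_iff (sN (mul_mem ha ha))]
        obtain e | e := m.sq_cases ha ax <;> rw [e]
        exacts [one_mem _, zu ▸ mem_zpowers _]
      · obtain ⟨b, hb, rfl⟩ := (mem_quo sN).1 hg
        rw [← mfun_mul (sN ha) (sN hb)]
        exact mfun_mem_mim ((mul_mem_iff_of_index_two m.idx (a := ⟨a, ha⟩) (b := ⟨b, hb⟩)).2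
          (iff_of_false ax fun e => hx (mfun_mem_mim e)))
    · have := u.big.trans (card_dvd u.S_le)
      rw [← card_quo_mul n, card_zpowers', oz] at this
      omega
  obtain ⟨π, c⟩ := cz_sd q (simple_no2 hn)
  exact .inr ((H2.id_sd c).imp_right fun e => ⟨e, q.isQD⟩)

end U4
end Wo
end H326
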