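import Cfsg.Agent.H26.Wo1
import Cfsg.Agent.S5892
import Cfsg.Agent.S3331
import Cfsg.Agent.H6.A8

/-! Wong's theorem, part 2: maximal subgroups of `L₂(q)`, core-free soluble maximal subgroups (`W0`), small cases. -/

set_option autoImplicit false
set_option linter.unusedSectionVars false
set_option linter.unusedVariables false

namespace H326.Wo
open Cfsg H18 Subgroup H22 Equiv
open scoped MatrixGroups

variable {G : Type*} [Group G] [Finite G] {A K M N P S T : Subgroup G} {v z c g h x : G}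

def Res (G : Type*) [Group G] : Prop :=
  Nonempty (G ≃* alternatingGroup (Fin 5)) ∨ Nonempty (G ≃* Perm (Fin 5)) ∨
    Nonempty (G ≃* GL (Fin 2) (ZMod 7) ⧸ center (GL (Fin 2) (ZMod 7))) ∨
    Nonempty (G ≃* PSL(2, ZMod 11)) ∨ Nonempty (G ≃* PSL(2, ZMod 13)) ∨
    (∃ p : ℕ, p.Prime ∧ (p % 16 = 1 ∨ p % 16 = 15) ∧ Nonempty (G ≃* PSL(2, ZMod p))) ∨
    Nonempty (G ≃* PSL(3, ZMod 3)) ∨
    (∃ N : Subgroup G, N.Normal ∧ N.index = 2 ∧ C(N) = ⊥ ∧ Nonempty (N ≃* PSL(3, ZMod 3)))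

theorem maxl {F : Type} [Field F] [Fintype F] (ho : Odd (Fintype.card F)) (h3 : 3 < Fintype.card F)
    (e : G ≃* PSL(2, F)) (hP : IsCoatom P) {q : ℕ} (hq : Fintype.card F = q) :
    2 * Nat.card P = q * (q - 1) ∨
    (q ≠ 7 ∧ ∃ k : ℕ, (2 * k = q - 1 ∨ 2 * k = q + 1) ∧ Nat.card P = 2 * k ∧ ∃ g ∈ P, orderOf g = k) ∨
    (∃ r, 2 ≤ r ∧ (q = r ^ 2 ∧ Nat.card P = r * (r - 1) * (r + 1) ∨ r ^ 3 ≤ q ∧
      Nat.gcd 2 (r - 1) * Nat.card P = r * (r - 1) * (r + 1) ∧ ∀ g ∈ P, orderOf g ≤ r + 1)) ∨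
    Nat.card P = 60 ∨ (Nat.card P = 12 ∧ ∀ g ∈ P, g ^ 2 = 1 ∨ g ^ 3 = 1) ∨ (q.Prime ∧ Nat.card P = 24) := by
  obtain ⟨p, hc⟩ := CharP.exists F
  have := Fact.mk (CharP.char_is_prime F p)
  have e' := e.subgroupMap P
  have dih : ∀ k, Nonempty (P.map (e : G →* PSL(2, F)) ≃* DihedralGroup k) →
      Nat.card P = 2 * k ∧ ∃ g ∈ P, orderOf g = k := fun k ⟨f⟩ =>
    ⟨(Nat.card_congr (e'.trans f).toEquiv).trans DihedralGroup.nat_card, _, ((e'.trans f).symm (.r 1)).2,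
      by rw [orderOf_coe, MulEquiv.orderOf_eq, DihedralGroup.orderOf_r_one]⟩
  subst hq
  obtain h | ⟨h, k, e, f⟩ | ⟨h, -, k, e, f⟩ | ⟨F₀, _, _, h, ⟨f⟩⟩ | ⟨F₀, _, _, r, r1, r2, h, ⟨f⟩⟩ | ⟨-, -, ⟨f⟩⟩ |
    ⟨-, -, -, ⟨f⟩⟩ | ⟨h, -, ⟨f⟩⟩ := Cfsg.Agent.S5892.result p ho (by obtain ⟨k, hk⟩ := ho; omega) _
      ((OrderIso.isCoatom_iff e.mapSubgroup P).2 hP)
  · exact .inl (Nat.card_congr e'.toEquiv ▸ h)
  · exact .inr (.inl ⟨by omega, k, .inl e, dih k f⟩)
  · exact .inr (.inl ⟨h, k, .inr e, dih k f⟩)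
  · exact .inr (.inr (.inl ⟨_, Fintype.one_lt_card, .inl ⟨h, (Nat.card_congr (e'.trans f).toEquiv).trans H10.card_PGL2⟩⟩))
  · refine .inr (.inr (.inl ⟨_, Fintype.one_lt_card (α := F₀), .inr ⟨h ▸ Nat.pow_le_pow_right Fintype.card_pos ?_,
      Nat.card_congr (e'.trans f).toEquiv ▸ H10.card_PSL2, fun g hg => ?_⟩⟩))
    · have := r1.two_le; obtain ⟨k, hk⟩ := r2; omega
    · rw [← orderOf_mk g hg, ← (e'.trans f).orderOf_eq,
        ← orderOf_injective _ Matrix.ProjectiveSpecialLinearGroup.toPGL_injective]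
      exact H10.orderOf_PGL2_le _
  · refine .inr (.inr (.inr (.inl ?_)))
    rw [Nat.card_congr (e'.trans f).toEquiv, nat_card_alternatingGroup]; simp [Nat.factorial]
  · refine .inr (.inr (.inr (.inr (.inl ⟨?_, fun g hg => (H10.A4_pow (e'.trans f ⟨g, hg⟩)).imp ?_ ?_⟩))))
    · rw [Nat.card_congr (e'.trans f).toEquiv, nat_card_alternatingGroup]; simp [Nat.factorial]
    all_goals intro k; rw [← map_pow, map_eq_one_iff _ (e'.trans f).injective] at k; exact congrArg Subtype.val k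
  · refine .inr (.inr (.inr (.inr (.inr ⟨h ▸ this.out, ?_⟩))))
    rw [Nat.card_congr (e'.trans f).toEquiv, Nat.card_perm]; simp [Nat.factorial]

theorem max7 (e : G ≃* PSL(2, ZMod 7)) (hP : IsCoatom P) (h6 : Nat.card P ∣ 6) : False := by
  have := Nat.le_of_dvd (by norm_num) h6
  have := Fact.mk (by norm_num : Nat.Prime 7)
  obtain h | h | ⟨r, r2, ⟨h, -⟩ | ⟨h, -⟩⟩ | h | h | h := maxl (by decide) (by decide) e hP (ZMod.card 7)
  any_goals omega
  · have : r ≤ 2 := by nlinarith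
    interval_cases r; omega
  · have := Nat.pow_le_pow_left r2 3; omega

theorem res_p {F : Type} [Field F] [Fintype F] (e : G ≃* PSL(2, F)) {p : ℕ} (hp : p.Prime) (h : Fintype.card F = p) :
    Nonempty (G ≃* PSL(2, ZMod p)) := by
  have := Fact.mk hp
  exact H10.equiv_PSL2_of_card_eq (h.trans (ZMod.card p).symm) ⟨e⟩

theorem small {r n : ℕ} (r2 : 2 ≤ r) (h : r * (r - 1) * (r + 1) = n) (hn : n < 60) : r = 2 ∨ r = 3 := by
  by_contra k
  have := Nat.mul_le_mul (Nat.mul_le_mul (show 4 ≤ r by omega) (show 3 ≤ r - 1 by omega)) (show 5 ≤ r + 1 by omega)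
  omega

theorem max12 {F : Type} [Field F] [Fintype F] (ho : Odd (Fintype.card F)) (h3 : 3 < Fintype.card F)
    (e : G ≃* PSL(2, F)) (hP : IsCoatom P) (hc : Nat.card P = 12) (hx : x ∈ P) (x6 : orderOf x = 6) : Res G := by
  have r11 : Fintype.card F = 11 → Res G := fun h => .inr (.inr (.inr (.inl (res_p e (by norm_num) h))))
  have r13 : Fintype.card F = 13 → Res G := fun h => .inr (.inr (.inr (.inr (.inl (res_p e (by norm_num) h)))))
  obtain h | ⟨-, k, h | h, h', -⟩ | ⟨r, r2, ⟨-, h⟩ | ⟨-, h, h'⟩⟩ | h | ⟨-, h⟩ | h := maxl ho h3 e hP rfl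
  · obtain ⟨k, hk⟩ := ho
    rw [hc, hk] at h
    obtain k2 | k2 : k ≤ 2 ∨ 3 ≤ k := by omega
    · interval_cases k <;> omega
    · have := Nat.mul_le_mul (show 7 ≤ 2 * k + 1 by omega) (show 6 ≤ 2 * k + 1 - 1 by omega); omega
  · exact r13 (by omega)
  · exact r11 (by omega)
  · obtain rfl | rfl := small r2 h.symm (by omega) <;> omega
  · have := h' x hx
    have := Nat.gcd_le_left (r - 1) Nat.two_pos
    rw [hc] at h
    obtain rfl | rfl := small r2 h.symm (by omega) <;> omega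
  · omega
  · obtain h | h := h x hx <;> have := x6 ▸ orderOf_dvd_of_pow_eq_one h <;> omega
  · omega

theorem max24 {F : Type} [Field F] [Fintype F] (ho : Odd (Fintype.card F)) (h3 : 3 < Fintype.card F)
    (e : G ≃* PSL(2, F)) (hP : IsCoatom P) (hc : Nat.card P = 24) (h4 : ∀ g ∈ P, orderOf g ≤ 4)
    (h16 : 16 ∣ Nat.card G) : Res G := by
  have c := H10.card_PSL2 (F := F)
  obtain ⟨m, hm⟩ := id ho
  rw [← Nat.card_congr e.toEquiv, Nat.gcd_eq_left (show 2 ∣ Fintype.card F - 1 by omega)] at c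
  obtain h | ⟨-, k, h, h', g, hg, rfl⟩ | ⟨r, r2, ⟨k, h⟩ | ⟨-, h, h'⟩⟩ | h | ⟨h, -⟩ | ⟨h, -⟩ := maxl ho h3 e hP rfl
  · rw [hc, hm] at h
    obtain k2 | k2 : m ≤ 3 ∨ 4 ≤ m := by omega
    · interval_cases m <;> omega
    · have := Nat.mul_le_mul (show 9 ≤ 2 * m + 1 by omega) (show 8 ≤ 2 * m + 1 - 1 by omega); omega
  · have := h4 g hg; omega
  · obtain rfl | rfl := small r2 h.symm (by omega)
    · omega
    · rw [k] at c; omega
  · have := Nat.gcd_le_left (r - 1) Nat.two_pos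
    rw [hc] at h
    obtain rfl | rfl := small r2 h.symm (by omega) <;> simp at h
  · omega
  · omega
  refine .inr (.inr (.inr (.inr (.inr (.inl ⟨_, h, ?_, res_p e h rfl⟩)))))
  have d : 32 ∣ (Fintype.card F - 1) * (Fintype.card F + 1) :=
    (Nat.Coprime.pow_left 5 (Nat.coprime_two_left.2 ho)).dvd_of_dvd_mul_left (by rw [← mul_assoc, ← c]; omega)
  rw [hm] at d ⊢
  have d' : 8 ∣ m * (m + 1) := Nat.dvd_of_mul_dvd_mul_left (by norm_num : 0 < 4) (by
    convert d using 1; rw [Nat.add_sub_cancel]; ring)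
  obtain k | k := Nat.even_or_odd m
  · have := (Nat.Coprime.pow_left 3 (Nat.coprime_two_left.2 k.add_one)).dvd_of_dvd_mul_right d'; omega
  · have := (Nat.Coprime.pow_left 3 (Nat.coprime_two_left.2 k)).dvd_of_dvd_mul_left d'; omega

structure W0 (P : Subgroup G) : Prop where
  co : IsCoatom P
  free : ∀ N : Subgroup G, N.Normal → N ≤ P → N = ⊥
  ns : ¬ Solv (⊤ : Subgroup G)
  sP : Solv P

theorem emb {H : Type*} [Group H] (e : P ≃* H) : ∃ φ : H →* G, Function.Injective φ ∧ φ.range = P :=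
  ⟨P.subtype.comp e.symm.toMonoidHom, P.subtype_injective.comp e.symm.injective, by
    rw [MonoidHom.range_comp, MonoidHom.range_eq_top.2 e.symm.surjective, ← MonoidHom.range_eq_map, range_subtype]⟩

theorem two_sup (h2 : M.index = 2) (hc : c ∉ M) : M ⊔ zpowers c = ⊤ :=
  (eq_or_eq_of_prime_relIndex (by rw [relIndex_top_right, h2]; exact Nat.prime_two) le_sup_left le_top).resolve_left
    fun e => hc (e ▸ mem_sup_right (mem_zpowers c))

namespace W0
variable (w : W0 P)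
include w

theorem sup [n : N.Normal] (h1 : N ≠ ⊥) : N ⊔ P = ⊤ := w.co.2 _ (right_lt_sup.2 fun e => h1 (w.free N n e))
theorem nsol [N.Normal] (h1 : N ≠ ⊥) : ¬ Solv N := fun s =>
  w.ns (w.sup h1 ▸ sup_comm P N ▸ w.sP.sup_norm s norm_of_normal)
theorem norm (h1 : A ≤ P) (h2 : A ≠ ⊥) (h3 : P ≤ N(A)) : N(A) = P :=
  (w.co.le_iff.1 h3).resolve_left fun e => h2 (w.free A (norm_top_iff.1 e.ge) h1)
theorem cen (h1 : c ∈ P) (h2 : c ≠ 1) (h3 : P ≤ C1(c)) : C1(c) = P :=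
  le_antisymm (C1_le_N_zpowers.trans (w.norm (zpowers_le.2 h1) (by simpa) (h3.trans C1_le_N_zpowers)).le) h3
theorem nsub [M.Normal] (hK : K ⊴ M) (h1 : K ≠ ⊥) : ¬ Solv K := fun s =>
  have := (nml_top (K := M)).fit.normal
  w.nsol (N := F(M)) (fun e => s.fit_ne_bot h1 (eq_bot_iff.2 (e ▸ hK.fit_le_fit))) fit_nil.solv
theorem cent (h2 : M.index = 2) : C(M) = ⊥ := by
  have := normal_of_index_eq_two h2
  by_contra e
  have k : M ⊓ C(M) = ⊥ := by_contra fun k => w.nsol k abel_Z.solv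
  have := card_mul_relIndex' (A := M) (B := C(M))
  rw [k, card_bot, one_mul] at this
  exact w.nsol e (H10.isSolvable_of_card_dvd_24 (this ▸ (relIndex_dvd_index_of_normal M _).trans (by rw [h2]; norm_num)))
theorem top [N.Normal] (h1 : N ≠ ⊥) (h2 : P ≤ N) : N = ⊤ := sup_eq_left.2 h2 ▸ w.sup h1

theorem ft [M.Normal] (hx : x ∈ M) (x3 : orderOf x = 3) (hc : ∀ g ∈ M, g ∈ C1(x) → g ∈ zpowers x) :
    Nonempty (M ≃* alternatingGroup (Fin 5)) ∨ Nonempty (M ≃* PSL(2, ZMod 7)) := by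
  have ns := w.nsol (ne_bot_of_mem hx fun e => by simp [e] at x3)
  obtain ⟨N, n, h1, -, h2⟩ | ⟨N, n, h1, -, ⟨e⟩⟩ | h := Cfsg.Agent.S3331.result (zpowers (⟨x, hx⟩ : M))
    (by rw [card_zpowers', orderOf_mk, x3]) (by
      rw [C_zpowers]
      refine le_antisymm (fun g hg => ?_) (zpowers_le.2 C1_self)
      obtain ⟨k, e⟩ := hc g g.2 (mem_C1.2 (congrArg Subtype.val (mem_C1.1 hg)))
      exact ⟨k, Subtype.ext e⟩)
  · have : Group.IsSolvable (M ⧸ N) := H10.isSolvable_of_card_dvd_24 (by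
      obtain e | ⟨⟨e⟩⟩ := h2
      · rw [e]; norm_num
      · rw [Nat.card_congr e.toEquiv, Nat.card_perm]; simp [Nat.factorial])
    exact absurd (Group.isSolvable_of_ker_le_range N.subtype (QuotientGroup.mk' N) (by simp)) ns
  · obtain rfl : N = ⊥ := by_contra fun k => w.nsub (nml_map_subtype (X := N))
      (mt (map_eq_bot_iff_of_injective _ M.subtype_injective).1 k) (solv_map_subtype.2 (abel_of_comm h1).solv)
    exact .inl ⟨QuotientGroup.quotientBot.symm.trans e⟩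
  · exact .inr h

theorem memP {H : Type*} [Group H] {φ : H →* G} (hi : Function.Injective φ) (hr : φ.range = P) {a : H} (a1 : a ≠ 1)
    (ha : ∀ b, b * a * b⁻¹ = a ∨ b * a * b⁻¹ = a * a) (hg : g ∈ C1(φ a)) : ∃ b, φ b = g ∧ b * a = a * b := by
  have : g ∈ φ.range := hr ▸ (w.norm (zpowers_le.2 (hr ▸ ⟨a, rfl⟩)) (by simpa [map_eq_one_iff φ hi]) (by
    rw [← hr]
    rintro _ ⟨b, rfl⟩
    refine mem_N_of_cj_le ?_
    rw [cj_zpowers, zpowers_le, ← map_inv, ← map_mul, ← map_mul]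
    obtain e | e := ha b <;> rw [e]
    exacts [mem_zpowers _, map_mul φ a a ▸ mul_mem (mem_zpowers _) (mem_zpowers _)])).le (C1_le_N_zpowers hg)
  obtain ⟨b, rfl⟩ := this
  exact ⟨b, rfl, hi (by rw [map_mul, map_mul]; exact mem_C1.1 hg)⟩

theorem c3 {H : Type*} [Group H] (e : P ≃* H) (h6 : Nat.card P ∣ 6) (a : H) (a1 : a ≠ 1) (a3 : a ^ 3 = 1)
    (ha : ∀ b, b * a * b⁻¹ = a ∨ b * a * b⁻¹ = a * a) (hb : ∀ b, b * a = a * b → b = 1 ∨ b = a ∨ b = a * a) :
    Res G := by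
  obtain ⟨φ, hi, hr⟩ := emb e
  have := Fact.mk Nat.prime_three
  obtain ⟨⟨f⟩⟩ | ⟨⟨f⟩⟩ := w.ft (M := ⊤) (mem_top _) ((orderOf_injective _ hi a).trans (orderOf_eq_prime a3 a1))
    fun g _ hg => by
      obtain ⟨b, rfl, k⟩ := w.memP hi hr a1 ha hg
      obtain rfl | rfl | rfl := hb b k
      exacts [map_one φ ▸ one_mem _, mem_zpowers _, map_mul φ a a ▸ mul_mem (mem_zpowers _) (mem_zpowers _)]
  · exact .inl ⟨topEquiv.symm.trans f⟩
  · exact (max7 (topEquiv.symm.trans f) w.co h6).elim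

end W0

theorem card_C1 {H : Type*} [Group H] [Fintype H] [DecidableEq H] (a : H) :
    Nat.card C1(a) = (Finset.univ.filter fun b => b * a = a * b).card := by
  rw [← Fintype.card_subtype, ← Nat.card_eq_fintype_card]
  exact Nat.card_congr (Equiv.subtypeEquivRight fun b => mem_C1)

theorem model {H : Type*} [Group H] [Finite H] (e : P ≃* H) (hT : T ≤ P) (h3 : T.relIndex P = 3) (a : H) {k : ℕ}
    (hc : Nat.card C1(a) = 2 ^ k) (hH : Nat.card H = 2 ^ k * 3) :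
    Hall {2} T P ∧ ∃ φ : H →* G, Function.Injective φ ∧ φ.range = P ∧ C1(a).map φ = T := by
  obtain ⟨φ, hi, hr⟩ := emb e
  have c := card_mul_relIndex hT
  rw [h3, Nat.card_congr e.toEquiv, hH] at c
  have c' : Nat.card T = 2 ^ k := by omega
  have s : Hall {2} T P := ⟨hT, piGrp_of_card_pow Nat.prime_two c', h3 ▸ odd_iff.2 (by decide)⟩
  obtain ⟨g, hg, k⟩ := sylow_conj Nat.prime_two (s.of_card (K := C1(a).map φ) (hr ▸ map_le_range ..)
    (by rw [card_map_of_injective hi, hc, c'])) s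
  exact ⟨s, (MulAut.conj g).toMonoidHom.comp φ, (MulAut.conj g).injective.comp hi,
    by rw [MonoidHom.range_comp, hr]; exact cj_eq_self_of_mem hg, by rw [← map_map, k]; rfl⟩

theorem act {H : Type*} [Group H] {φ : H →* G} {a d : H} (hh : h ∈ N(C1(a).map φ)) (hd : d * a = a * d) :
    ∃ e, e * a = a * e ∧ φ e = h * φ d * h⁻¹ := by
  obtain ⟨e, h1, h2⟩ := conj_mem_N hh (mem_map_of_mem φ (mem_C1.2 hd))
  exact ⟨e, mem_C1.1 h1, h2⟩

open DihedralGroup in
theorem W0.d12 (w : W0 P) {φ : DihedralGroup 6 →* G} (hi : Function.Injective φ) (hr : φ.range = P)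
    (hT : Hall {2} (C1(sr 0).map φ) P) : Res G := by
  have mP : ∀ a, φ a ∈ P := fun a => hr ▸ ⟨a, rfl⟩
  have cP : Nat.card P = 12 := by rw [← hr, MonoidHom.range_eq_map, card_map_of_injective hi, card_top, nat_card]
  have cT : Nat.card (C1(sr 0).map φ) = 4 := by rw [card_map_of_injective hi, card_C1]; decide
  have mT : ∀ a, a * sr 0 = sr 0 * a → φ a ∈ C1(sr 0).map φ := fun a ha => mem_map_of_mem φ (mem_C1.2 ha)
  have z2 : φ (r 3) * φ (r 3) = 1 := by rw [← map_mul, ← map_one φ]; congr 1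
  have z1 : φ (r 3) ≠ 1 := fun e => absurd (hi (e.trans (map_one φ).symm)) (by decide)
  have cz : C1(φ (r 3)) = P := w.cen (mP _) z1 (by
    rw [← hr]; rintro _ ⟨a, rfl⟩; rw [mem_C1, ← map_mul, ← map_mul]; congr 1; revert a; decide)
  have zT := mT (r 3) (by decide)
  have := Fact.mk Nat.prime_two
  obtain ⟨S, hS, TS⟩ := exists_sylow_le Nat.prime_two hT.pi le_top
  by_cases e : S = C1(sr 0).map φ
  · subst e
    have hn : ¬ IsMulCommutative G := fun c => w.ns (abel_of_comm inferInstance).solv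
    have : Nontrivial G := ⟨_, _, z1⟩
    have hs : IsSimpleGroup G := ⟨fun K _ => or_iff_not_imp_left.2 fun k => w.top k (by
      have s := hS.inf_nml (K := K) nml_top
      have TK : C1(sr 0).map φ ≤ K := by_contra fun j => w.nsol k (solv_of_nilp (cyc_nilp s
        (isCyclic_of_card_dvd_prime (p := 2) (by
          have h1 := card_lt (inf_lt_left.2 j)
          have h2 := card_dvd (inf_le_left : C1(sr 0).map φ ⊓ K ≤ _)
          rw [cT] at h1 h2
          generalize Nat.card (C1(sr 0).map φ ⊓ K : Subgroup G) = n at *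
          interval_cases n <;> omega))))
      have r1 : φ (r 1) ∈ K := by
        rw [show r 1 = sr 3 * (r 1 * sr 0 * (r 1)⁻¹ : DihedralGroup 6) by decide, map_mul, map_mul, map_mul, map_inv]
        exact mul_mem (TK (mT _ (by decide))) (conj_mem_N (norm_of_normal (mem_top _)) (TK (mT _ rfl)))
      rw [← hr]
      rintro _ ⟨a, rfl⟩
      obtain ⟨i, e | e⟩ : ∃ i : Fin 6, a = r 1 ^ i.1 ∨ a = sr 0 * r 1 ^ i.1 := by revert a; decide
      · rw [e, map_pow]; exact pow_mem r1 _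
      · rw [e, map_mul, map_pow]; exact mul_mem (TK (mT _ rfl)) (pow_mem r1 _))⟩
    have mz : ∀ a, a = 1 ∨ a = r 3 → φ a ∈ zpowers (φ (r 3)) := by
      rintro _ (rfl | rfl); exacts [map_one φ ▸ one_mem _, mem_zpowers _]
    obtain ⟨F, _, _, h1, h2, ⟨f⟩⟩ | ⟨⟨f⟩⟩ := gw_simple G hs hn (ds_of_sylow hS ⟨_, zT, by
      rintro _ ⟨a, ha, rfl⟩ a1
      refine ⟨by
        rw [← map_mul, (by decide : ∀ a, a * sr 0 = sr 0 * a → a * a = 1) a (mem_C1.1 ha), map_one], ?_⟩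
      rintro _ ⟨b, hb, rfl⟩ b1
      exact map_mul φ a b ▸ mz _ ((by decide : ∀ a b, a * sr 0 = sr 0 * a → b * sr 0 = sr 0 * b →
        ¬ (a = 1 ∨ a = r 3) → ¬ (b = 1 ∨ b = r 3) → a * b = 1 ∨ a * b = r 3) a b (mem_C1.1 ha) (mem_C1.1 hb)
        (mt (mz a) a1) (mt (mz b) b1))⟩)
    · exact max12 h1 h2 f w.co cP (mP (r 1)) ((orderOf_injective φ hi _).trans orderOf_r_one)
    · have := hS.dvd_of_piNat (piNat_pow_self Nat.prime_two 3) (by
        rw [card_top, Nat.card_congr f.toEquiv, nat_card_alternatingGroup]; simp [Nat.factorial])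
      omega
  have nS : ∀ g, ¬ S ≤ C1(g * φ (r 3) * g⁻¹) := fun g k => e (eq_of_card_ge TS (Nat.le_of_dvd card_pos'
    (((hT.cj g).card_dvd (by rwa [← cz, cj_C1]) hS.pi).trans card_cj.dvd))).symm
  obtain ⟨k, y, m⟩ := H9.mc_of_card_centralizer hS.pi.isPGroup (TS zT) (cT ▸ Nat.le_of_dvd card_pos'
    (hT.card_dvd (inf_le_right.trans cz.le) hS.pi.inf_left)) fun c => nS 1 (by
      simpa using le_C1_iff.2 (abel_of_comm c (TS zT)))
  obtain ⟨M, -, M2, zM⟩ := thompson hS m.idx (TS zT) z2 fun g _ k => nS g fun a ha => by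
    rw [m.eq_u k (ord2_conj (ord2.2 ⟨z2, z1⟩) g)]; exact mem_C1.2 (m.commute_u ha)
  rw [relIndex_top_right] at M2
  have := normal_of_index_eq_two M2
  have xM : φ (r 2) ∈ M := by
    rw [show r 2 = (r 1 * r 1 : DihedralGroup 6) by decide, map_mul]; exact mul_self_mem_of_index_two M2 _
  have := Fact.mk Nat.prime_three
  obtain ⟨⟨f⟩⟩ | ⟨⟨f⟩⟩ := w.ft xM ((orderOf_injective _ hi _).trans (orderOf_eq_prime (by decide) (by decide)))
    fun g gM hg => by
      obtain ⟨b, rfl, k⟩ := w.memP hi hr (by decide) (by decide) hg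
      obtain ⟨i, e | e⟩ : ∃ i : Fin 3, b = r 2 ^ i.1 ∨ b = r 3 * r 2 ^ i.1 := by clear gM hg; revert b; decide
      · rw [e, map_pow]; exact pow_mem (mem_zpowers _) _
      · rw [e, map_mul, map_pow] at gM; exact absurd ((mul_mem_cancel_right (pow_mem xM _)).1 gM) zM
  · obtain ⟨g, hg⟩ := H6.emb_perm5 (w.cent M2) f
    refine .inr (.inl (H10.equiv_perm_of_injective g hg ?_))
    rw [← M.card_mul_index, M2, Nat.card_congr f.toEquiv, nat_card_alternatingGroup]; simp [Nat.factorial]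
  have := Fact.mk (by norm_num : Nat.Prime 7)
  refine .inr (.inr (.inl (H117.pgl_of (by decide) f norm_of_normal (w.cent M2) z2 zM (two_sup M2 zM)
    fun Q hQ q => isCyclic_of_card_dvd_prime (p := 2) ?_)))
  have h1 := card_mul_relIndex' (A := M) (B := P)
  rw [((Nat.dvd_prime Nat.prime_two).1 (M2 ▸ relIndex_dvd_index_of_normal M P)).resolve_left
    fun e => zM (relIndex_eq_one_iff.1 e (mP _)), cP] at h1
  exact q.dvd_of_dvd_mul (n := 3) (odd_iff.2 (by decide)) ((card_dvd (cz ▸ hQ)).trans (Dvd.intro_left 1 (by omega)))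

theorem memV (ψ : S4 →* G) {b : S4} (hb : b = 1 ∨ b = z0 ∨ b = v0 ∨ b = z0 * v0) : ψ b ∈ V4 (ψ z0) (ψ v0) := by
  obtain rfl | rfl | rfl | rfl := hb
  exacts [map_one ψ ▸ one_mem _, left_mem_V4, right_mem_V4, map_mul ψ z0 v0 ▸ mul_mem_V4]

theorem range_nV (ψ : S4 →* G) : ψ.range ≤ N(V4 (ψ z0) (ψ v0)) := by
  rintro _ ⟨a, rfl⟩
  refine mem_N_V4 ?_ ?_ <;> rw [← map_inv, ← map_mul, ← map_mul] <;> apply memV <;> revert a <;> decide

theorem kleinV {ψ : S4 →* G} (hi : Function.Injective ψ) (g : G) : IsKleinFour (H18.cj g (V4 (ψ z0) (ψ v0))) := by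
  have o : ∀ a : S4, a * a = 1 → a ≠ 1 → orderOf (ψ a) = 2 := fun a h1 h2 =>
    (orderOf_injective ψ hi a).trans (ord2.2 ⟨h1, h2⟩)
  have c : ψ z0 * ψ v0 = ψ v0 * ψ z0 := by rw [← map_mul, ← map_mul]; congr 1; decide
  have oz := o z0 (by decide) (by decide)
  have ov := o v0 (by decide) (by decide)
  have : IsKleinFour (V4 (ψ z0) (ψ v0)) := H9.isKleinFour_of_pElem (P := ⊤) ⟨le_top, ⟨V4_abel c,
    fun a ha => sq a ▸ sq_of_mem_V4 (sq1 oz) (sq1 ov) c ha⟩, card_V4 oz ov c fun e => absurd (hi e) (by decide)⟩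
  exact H9.isKleinFour_of_equiv (H18.cjEquiv g _).symm

theorem card_range {H : Type*} [Group H] {φ : H →* G} (hi : Function.Injective φ) : Nat.card φ.range = Nat.card H := by
  rw [MonoidHom.range_eq_map, card_map_of_injective hi, card_top]

theorem card_S4 : Nat.card S4 = 24 := by rw [Nat.card_perm]; simp [Nat.factorial]

theorem W0.s4a (w : W0 P) {φ : S4 →* G} (hi : Function.Injective φ) (hr : φ.range = P) (hh : h ∈ N(C1(z0).map φ))
    (hP : h ∉ P) (nV : N(V4 (φ z0) (φ v0)) = P) (hz : h * φ z0 * h⁻¹ = φ z0) (hv : h * φ v0 * h⁻¹ = φ s0) : Res G := by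
  have mT : ∀ a, a * z0 = z0 * a → φ a ∈ C1(z0).map φ := fun a ha => mem_map_of_mem φ (mem_C1.2 ha)
  have cP : Nat.card P = 24 := by rw [← hr, card_range hi, card_S4]
  obtain ⟨e, e1, e2⟩ := act hh (d := s0) (by decide)
  have ee : e * e = 1 := hi (by rw [map_mul, e2, conj_mul, ← map_mul, show s0 * s0 = 1 by decide]; simp)
  have eV : φ e ∈ V4 (φ z0) (φ v0) := memV φ (((by decide : ∀ e : S4, e * z0 = z0 * e → e * e = 1 →
    (e = s0 ∨ e = s0 * z0) ∨ e = 1 ∨ e = z0 ∨ e = v0 ∨ e = z0 * v0) e e1 ee).resolve_left (by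
      rintro (rfl | rfl)
      · exact absurd (hi (conj_injective (hv.trans e2))) (by decide)
      · have := (conj_mul.symm.trans (congrArg₂ _ hv hz)).trans ((map_mul φ ..).symm.trans e2)
        rw [← map_mul] at this; exact absurd (hi (conj_injective this)) (by decide)))
  have h2 : h ^ 2 ∈ C1(z0).map φ := by
    have k : ∀ a, h ^ 2 * a * (h ^ 2)⁻¹ = h * (h * a * h⁻¹) * h⁻¹ := fun a => by rw [sq]; group
    obtain ⟨d, hd⟩ : h ^ 2 ∈ φ.range := hr ▸ nV ▸ mem_N_V4 (by rw [k, hz, hz]; exact left_mem_V4)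
      (by rw [k, hv, ← e2]; exact eV)
    refine hd ▸ mT d (hi ?_)
    rw [map_mul, map_mul, hd, ← mul_inv_eq_iff_eq_mul, k, hz, hz]
  have c16 := card_mul_relIndex (le_sup_left : C1(z0).map φ ≤ _ ⊔ zpowers h)
  rw [H21.relIndex_sup_zpowers Nat.prime_two hh (fun e => hP (hr ▸ map_le_range _ _ e)) h2,
    card_map_of_injective hi, card_C1, show Finset.card _ = 8 by decide] at c16
  obtain ⟨S, hS, TS⟩ := exists_sylow_le Nat.prime_two (piGrp_of_card_pow (n := 4) Nat.prime_two c16.symm) le_top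
  have u : U4 φ h S := ⟨hi, fun g h1 h2 => by
      obtain ⟨b, rfl⟩ : g ∈ φ.range := hr ▸ nV ▸ C_le_N (by rw [C_V4]; exact ⟨h2, h1⟩)
      rw [mem_C1, ← map_mul, ← map_mul] at h1 h2
      obtain rfl | rfl | rfl | rfl := (by decide : ∀ b : S4, b * v0 = v0 * b → b * z0 = z0 * b →
        b = 1 ∨ b = z0 ∨ b = v0 ∨ b = v0 * z0) b (hi h1) (hi h2) <;> simp,
    hv, hS, TS (mem_sup_left (mT _ (by decide))), TS (mem_sup_left (mT _ (by decide))), c16.dvd.trans (card_dvd TS)⟩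
  have : Nontrivial G := ⟨h, 1, fun e => hP (e ▸ one_mem P)⟩
  have : IsSimpleGroup G := ⟨fun K _ => or_iff_not_imp_left.2 fun k => w.top k (hr ▸ u.zin (w.nsol k))⟩
  obtain ⟨F, _, _, h1, h2, ⟨f⟩⟩ | k | ⟨c, q⟩ := u.cls
  · refine max24 h1 h2 f w.co cP ?_ (u.big.trans (card_subgroup_dvd_card _))
    rw [← hr]
    rintro _ ⟨a, rfl⟩
    rw [orderOf_injective φ hi]
    obtain e | e := H10.S4_pow a
    exacts [(orderOf_le_of_pow_eq_one (by norm_num) e).trans (by norm_num), orderOf_le_of_pow_eq_one (by norm_num) e]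
  · exact .inr (.inr (.inr (.inr (.inr (.inr (.inl k))))))
  obtain ⟨f, hf⟩ := m11_s5 c
  obtain ⟨k, x, y, q⟩ := exists_qd q
  obtain ⟨ψ, hi', hr'⟩ : ∃ ψ : S4 →* G, Function.Injective ψ ∧ ψ.range ≤ f.range :=
    ⟨f.comp (Perm.viaEmbeddingHom (Fin.castLEEmb (by norm_num : 4 ≤ 5))),
      hf.comp (Perm.viaEmbeddingHom_injective _), by rintro _ ⟨a, rfl⟩; exact ⟨_, rfl⟩⟩
  obtain ⟨g, -, hg⟩ := sylow_le_cj Nat.prime_two hS (piGrp_of_card_pow (n := 2) Nat.prime_two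
    (H18.card_cj.symm.trans (kleinV hi' 1).card_four)) le_top
  obtain ⟨_, c1⟩ := q.klein (kleinV hi' g) hg
  obtain ⟨_, c2⟩ := q.klein (kleinV hi 1) (by simpa using V4_le u.zS u.vS)
  obtain ⟨a, -, ha⟩ := q.cr_cj c1 c2 (iff_of_true c1.qd.sa c2.qd.sa)
  rw [cj_cj, cj_one] at ha
  have e : H18.cj (a * g) ψ.range = P := eq_of_card_eq (by rw [← nV, ← ha, cj_norm_iff]; exact range_nV ψ)
    (by rw [H18.card_cj, card_range hi', card_S4, cP])
  have c5 : Nat.card (H18.cj (a * g) f.range) = 120 := by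
    rw [H18.card_cj, card_range hf, Nat.card_perm]; simp [Nat.factorial]
  obtain e | e := w.co.le_iff.1 (e ▸ cj_mono hr') <;> rw [e] at c5
  · rw [card_top] at c5; omega
  · omega

theorem W0.s4 (w : W0 P) {φ : S4 →* G} (hi : Function.Injective φ) (hr : φ.range = P) (hh : h ∈ N(C1(z0).map φ))
    (hP : h ∉ P) : Res G := by
  have nV : N(V4 (φ z0) (φ v0)) = P := w.norm (hr ▸ V4_le ⟨_, rfl⟩ ⟨_, rfl⟩)
    (ne_bot_of_mem left_mem_V4 fun e => absurd (hi (e.trans (map_one φ).symm)) (by decide)) (hr ▸ range_nV φ)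
  have hz : h * φ z0 * h⁻¹ = φ z0 := by
    obtain ⟨e, e1, e2⟩ := act hh (d := v0 * s0) (by decide)
    have : φ (e * e) = h * φ z0 * h⁻¹ := by rw [map_mul, e2, conj_mul, ← map_mul]; congr 3; decide
    obtain k | k := (by decide : ∀ e : S4, e * z0 = z0 * e → e * e = 1 ∨ e * e = z0) e e1 <;> rw [k] at this
    · rw [map_one, eq_comm, conj_eq_one_iff, map_eq_one_iff φ hi] at this; exact absurd this (by decide)
    · exact this.symm
  obtain ⟨e, e1, e2⟩ := act hh (d := v0) (by decide)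
  have ee : e * e = 1 := hi (by rw [map_mul, e2, conj_mul, ← map_mul, show v0 * v0 = 1 by decide]; simp)
  obtain rfl | rfl | k := (by decide : ∀ e : S4, e * z0 = z0 * e → e * e = 1 →
    e = s0 ∨ e = s0 * z0 ∨ e = 1 ∨ e = z0 ∨ e = v0 ∨ e = z0 * v0) e e1 ee
  · exact w.s4a hi hr hh hP nV hz e2.symm
  · have k : ∀ a, φ v0 * h * a * (φ v0 * h)⁻¹ = φ v0 * (h * a * h⁻¹) * φ v0⁻¹ := fun a => by rw [map_inv]; group
    refine w.s4a (h := φ v0 * h) hi hr (mul_mem (le_N (mem_map_of_mem φ (mem_C1.2 (by decide)))) hh)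
      (mt (mul_mem_cancel_left (hr ▸ ⟨_, rfl⟩)).1 hP) nV ?_ ?_
    · rw [k, hz, ← map_mul, ← map_mul]; congr 1; decide
    · rw [k, ← e2, ← map_mul, ← map_mul]; congr 1; decide
  · exact absurd (nV ▸ mem_N_V4 (by rw [hz]; exact left_mem_V4) (e2 ▸ memV φ k)) hP

end H326.Wo
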