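import Cfsg.Agent.H26.Wo2

/-! Wong's theorem, part 3: the point stabilizer `S₄ × 2`. -/

set_option autoImplicit false
set_option linter.unusedSectionVars false
set_option linter.unusedVariables false
set_option synthInstance.maxSize 2048

namespace H326.Wo
open Cfsg H18 Subgroup H22 Equiv
open scoped MatrixGroups

variable {G : Type*} [Group G] [Finite G] {A K M N P S T : Subgroup G} {a b g h : G}

theorem mem_two (hn : h ∈ N(T)) (h2 : h * h ∈ T) (hg : g ∈ T ⊔ zpowers h) : g ∈ T ∨ g * h⁻¹ ∈ T := by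
  obtain ⟨t, ht, k, rfl⟩ := (H21.mem_sup_zpowers hn).1 hg
  have : ∀ m : ℤ, h ^ (2 * m) ∈ T := fun m => by rw [zpow_mul, zpow_two]; exact zpow_mem h2 m
  obtain ⟨m, rfl | rfl⟩ := Int.even_or_odd' k
  · exact .inl (mul_mem ht (this m))
  · exact .inr (by rw [zpow_add_one, ← mul_assoc, mul_inv_cancel_right]; exact mul_mem ht (this m))

theorem mem_three (hn : h ∈ N(T)) (h2 : h * h ∈ T) (ha : a ∈ T ⊔ zpowers h) (hb : b ∈ T ⊔ zpowers h) :
    a ∈ T ∨ b ∈ T ∨ a * b ∈ T := by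
  obtain ha | ha := mem_two hn h2 ha
  · exact .inl ha
  obtain hb | hb := mem_two hn h2 hb
  · exact .inr (.inl hb)
  · exact .inr (.inr (by convert mul_mem (mul_mem ha (conj_mem_N hn hb)) h2 using 1; group))

abbrev S42 := S4 × ℤˣ
def f0 : S4 := v0 * s0
def wa (i : Fin 4) (j k : Fin 2) : S42 := (f0, 1) ^ i.1 * (s0, 1) ^ j.1 * (1, -1) ^ k.1
def wb (w : S4) (i : Fin 4) (j k : Fin 2) : S42 := (s0 * w, 1) ^ i.1 * (w, 1) ^ j.1 * (z0, -1) ^ k.1

theorem dec : ∀ a : S42, a * (z0, 1) = (z0, 1) * a → ∃ i j k, a = wa i j k := by decide +kernel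
theorem dec0 : ∀ a : S4, a * z0 = z0 * a → ∃ i j, (a, 1) = wa i j 0 := by decide +kernel

structure X2 (φ : S42 →* G) (h : G) (w d : S4) : Prop where
  w0 : W0 φ.range
  inj : Function.Injective φ
  hz : h * φ (z0, 1) * h⁻¹ = φ (z0, 1)
  hc : h * φ (1, -1) * h⁻¹ = φ (z0, -1)
  hv : h * φ (v0, 1) * h⁻¹ = φ (s0, 1)
  hs : h * φ (s0, 1) * h⁻¹ = φ (w, 1)
  hh : h * h = φ (d, 1)
  wd : w = v0 ∧ (d = 1 ∨ d = z0) ∨ w = v0 * z0 ∧ (d = f0 ∨ d = f0 * z0)

theorem cenc {φ : S42 →* G} (a : S42) : φ a * φ (1, -1) = φ (1, -1) * φ a := by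
  rw [← map_mul, ← map_mul]; congr 1; ext <;> simp [mul_comm]

theorem cc {φ : S42 →* G} (w : W0 φ.range) (hi : Function.Injective φ) : C1(φ (1, -1)) = φ.range :=
  w.cen ⟨_, rfl⟩ (fun e => absurd (hi (e.trans (map_one φ).symm)) (by decide))
    (by rintro _ ⟨a, rfl⟩; exact mem_C1.2 (cenc a))

theorem act2 {φ : S42 →* G} {w : S4} (hc : h * φ (1, -1) * h⁻¹ = φ (z0, -1)) (hv : h * φ (v0, 1) * h⁻¹ = φ (s0, 1))
    (hs : h * φ (s0, 1) * h⁻¹ = φ (w, 1)) (i j k) : h * φ (wa i j k) * h⁻¹ = φ (wb w i j k) := by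
  have : h * φ (f0, 1) * h⁻¹ = φ (s0 * w, 1) := by
    rw [show ((f0, 1) : S42) = (v0, 1) * (s0, 1) by decide, map_mul, ← conj_mul, hv, hs, ← map_mul]; rfl
  simp only [wa, wb, map_mul, map_pow, ← this, ← hs, ← hc, conj_pow, conj_mul]

local notation "ψ[" φ "]" => MonoidHom.comp φ (MonoidHom.inl S4 ℤˣ)

theorem rangeV (φ : S42 →* G) : φ.range ≤ N(V4 (ψ[φ] z0) (ψ[φ] v0)) := by
  rintro _ ⟨⟨a, e⟩, rfl⟩
  obtain rfl | rfl := Int.units_eq_one_or e
  · exact range_nV ψ[φ] ⟨a, rfl⟩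
  · rw [show ((a, -1) : S42) = (a, 1) * (1, -1) by simp, map_mul]
    exact mul_mem (range_nV ψ[φ] ⟨a, rfl⟩) (C_le_N (by
      rw [C_V4]; exact ⟨mem_C1.2 (cenc _).symm, mem_C1.2 (cenc _).symm⟩))

namespace X2
variable {φ : S42 →* G} {w d : S4} (x : X2 φ h w d)
include x

local notation "TT" => Subgroup.map φ C1(((z0, 1) : S42))
local notation "ψ" => MonoidHom.comp φ (MonoidHom.inl S4 ℤˣ)
local notation "T0" => Subgroup.map ψ C1(z0)

theorem ww : w = v0 ∨ w = v0 * z0 := x.wd.imp And.left And.left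
theorem act (i j k) : h * φ (wa i j k) * h⁻¹ = φ (wb w i j k) := act2 x.hc x.hv x.hs i j k
theorem hP : h ∉ φ.range := fun e => by
  have := x.hc
  rw [conj_eq_self_of_C1 (cc x.w0 x.inj ▸ e)] at this
  exact absurd (x.inj this) (by decide)
theorem flip : X2 φ (h * φ (1, -1)) w (d * z0) := by
  have k : ∀ a, h * φ (1, -1) * φ a * (h * φ (1, -1))⁻¹ = h * φ a * h⁻¹ := fun a => by
    rw [mul_assoc h, ← cenc]; group
  refine ⟨x.w0, x.inj, k _ ▸ x.hz, k _ ▸ x.hc, k _ ▸ x.hv, k _ ▸ x.hs, ?_, ?_⟩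
  · rw [show h * φ (1, -1) * (h * φ (1, -1)) = h * φ (1, -1) * h⁻¹ * (h * h) * φ (1, -1) by group, x.hc, x.hh,
      ← map_mul, ← map_mul]
    congr 1
    obtain ⟨-, rfl | rfl⟩ | ⟨-, rfl | rfl⟩ := x.wd <;> decide
  · obtain ⟨rfl, rfl | rfl⟩ | ⟨rfl, rfl | rfl⟩ := x.wd <;> decide
theorem mT {a : S42} (ha : a * (z0, 1) = (z0, 1) * a) : φ a ∈ TT := mem_map_of_mem φ (mem_C1.2 ha)
theorem mT0 {a : S42} (ha : a * (z0, 1) = (z0, 1) * a) (h2 : a.2 = 1) : φ a ∈ T0 :=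
  ⟨a.1, mem_C1.2 (congrArg Prod.fst ha), congrArg φ (Prod.ext rfl h2.symm)⟩
theorem nT : h ∈ N(TT) := mem_N_of_finite (by
  rintro _ ⟨a, ha, rfl⟩
  obtain ⟨i, j, k, rfl⟩ := dec a (mem_C1.1 ha)
  rw [x.act]
  refine x.mT ?_
  clear ha; revert i j k; obtain rfl | rfl := x.ww <;> decide +kernel)
theorem nT0 : h ∈ N(T0) := mem_N_of_finite (by
  rintro _ ⟨a, ha, rfl⟩
  obtain ⟨i, j, e⟩ := dec0 a (mem_C1.1 ha)
  rw [show ψ a = φ (a, 1) from rfl, e, x.act]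
  refine x.mT0 ?_ ?_ <;> (clear ha e; revert i j; obtain rfl | rfl := x.ww <;> decide +kernel))
theorem hh0 : h * h ∈ T0 := x.hh ▸ x.mT0 (by obtain ⟨-, rfl | rfl⟩ | ⟨-, rfl | rfl⟩ := x.wd <;> decide) rfl
theorem le0 : T0 ≤ TT := by rintro _ ⟨a, ha, rfl⟩; exact x.mT (Prod.ext (mem_C1.1 ha) rfl)
theorem injψ : Function.Injective ψ := x.inj.comp fun _ _ e => congrArg Prod.fst e
theorem cT : Nat.card TT = 16 := by rw [card_map_of_injective x.inj, card_C1]; decide +kernel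
theorem cP : Nat.card φ.range = 48 := by rw [card_range x.inj, Nat.card_prod, card_S4]; simp
theorem cS : Nat.card (TT ⊔ zpowers h : Subgroup G) = 32 := by
  rw [← card_mul_relIndex (le_sup_left : TT ≤ _), x.cT, H21.relIndex_sup_zpowers Nat.prime_two x.nT
    (fun e => x.hP (map_le_range _ _ e)) (sq h ▸ x.le0 x.hh0)]
theorem cQ : Nat.card (T0 ⊔ zpowers h : Subgroup G) = 16 := by
  rw [← card_mul_relIndex (le_sup_left : T0 ≤ _), H21.relIndex_sup_zpowers Nat.prime_two x.nT0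
    (fun e => x.hP (map_le_range _ _ (x.le0 e))) (sq h ▸ x.hh0), card_map_of_injective x.injψ, card_C1]
  decide +kernel
theorem ncz (g : G) : g * φ (1, -1) * g⁻¹ ≠ φ (z0, 1) := fun e => by
  have : TT ⊔ zpowers h ≤ C1(φ (z0, 1)) := sup_le (by
    rintro _ ⟨a, ha, rfl⟩; rw [mem_C1, ← map_mul, ← map_mul, mem_C1.1 ha]) (zpowers_le.2 (mem_C1.2
      (mul_inv_eq_iff_eq_mul.1 x.hz)))
  have := card_dvd this
  rw [← e, ← cj_C1, H18.card_cj, cc x.w0 x.inj, x.cP, x.cS] at this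
  omega

theorem syl : Hall {2} (TT ⊔ zpowers h) ⊤ := by
  have p := piGrp_of_card_pow (n := 5) Nat.prime_two x.cS
  obtain ⟨S, hS, le⟩ := exists_sylow_le Nat.prime_two p le_top
  obtain rfl | lt := le.eq_or_lt
  · exact hS
  obtain ⟨y, ⟨yS, yN⟩, y1⟩ := SetLike.exists_of_lt (hS.pi.nil.lt_norm lt)
  have mS : ∀ a : S42, a * (z0, 1) = (z0, 1) * a → φ a ∈ TT ⊔ zpowers h := fun a ha => mem_sup_left (x.mT ha)
  have hS' : h ∈ TT ⊔ zpowers h := mem_sup_right (mem_zpowers h)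
  have hT : Hall {2} TT φ.range := hall_of_card_mul (map_le_range ..) (p.of_le le_sup_left) (n := 3)
    (odd_iff.2 (by decide)) (by rw [x.cP, x.cT])
  have back : ∀ g ∈ S, g * φ (1, -1) * g⁻¹ = φ (1, -1) → g ∈ TT ⊔ zpowers h := fun g hg e =>
    mem_sup_left (hT.eq_of_le (le_inf (le_sup_left.trans le) hT.le) inf_le_right hS.pi.inf_left ▸
      ⟨hg, cc x.w0 x.inj ▸ mem_C1.2 (mul_inv_eq_iff_eq_mul.1 e)⟩)
  have three : ∀ a ∈ TT ⊔ zpowers h, ∀ b ∈ TT ⊔ zpowers h, a ∈ C1(y * φ (1, -1) * y⁻¹) ∨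
      b ∈ C1(y * φ (1, -1) * y⁻¹) ∨ a * b ∈ C1(y * φ (1, -1) * y⁻¹) := fun a ha b hb => by
    have := mem_three x.nT (x.le0 x.hh0) (conj_mem_N' yN ha) (conj_mem_N' yN hb)
    rw [← cj_C1, cc x.w0 x.inj, H18.mem_cj, H18.mem_cj, H18.mem_cj]
    exact this.imp (map_le_range _ _ ·) (Or.imp (map_le_range _ _ ·) fun e => by
      convert map_le_range _ _ e using 1; group)
  have c2 : y * φ (1, -1) * y⁻¹ * (y * φ (1, -1) * y⁻¹) = 1 := by
    rw [conj_mul, ← map_mul, show ((1, -1) * (1, -1) : S42) = 1 by decide]; simp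
  obtain ⟨a, ha, e⟩ | ⟨a, ha, e⟩ := mem_two x.nT (x.le0 x.hh0) (conj_mem_N yN (mS (1, -1) (by decide)))
  · obtain ⟨i, j, k, rfl⟩ := dec a (mem_C1.1 ha)
    have t := three _ (mS (f0, 1) (by decide)) h hS'
    rw [← e] at t c2
    rw [← map_mul, map_eq_one_iff φ x.inj] at c2
    have : wa i j k = 1 ∨ wa i j k = (z0, 1) ∨ wa i j k = (1, -1) ∨ wa i j k = (z0, -1) := by
      have t' : (f0, 1) * wa i j k = wa i j k * (f0, 1) ∨ wb w i j k = wa i j k ∨
          (f0, 1) * wb w i j k = wa i j k * (f0, 1) := by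
        refine t.imp (fun k => x.inj ?_) (Or.imp (fun k => x.inj ?_) fun k => x.inj ?_)
        · rw [map_mul, map_mul, mem_C1.1 k]
        · rw [← x.act, conj_eq_self_of_C1 k]
        · rw [map_mul, map_mul, ← x.act, ← mul_assoc, ← mul_assoc, mem_C1.1 k]; group
      clear t e ha; revert i j k; obtain rfl | rfl := x.ww <;> decide +kernel
    obtain k | k | k | k := this <;> rw [k] at e
    · rw [map_one, eq_comm, conj_eq_one_iff, map_eq_one_iff φ x.inj] at e; exact absurd e (by decide)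
    · exact absurd e.symm (x.ncz y)
    · exact absurd (back y yS e.symm) y1
    · refine absurd ((mul_mem_cancel_left (inv_mem hS')).1 (back _ (mul_mem (inv_mem (le hS')) yS) ?_)) y1
      rw [← x.hc] at e
      rw [show h⁻¹ * y * φ (1, -1) * (h⁻¹ * y)⁻¹ = h⁻¹ * (y * φ (1, -1) * y⁻¹) * h by group, ← e]; group
  · rw [eq_mul_inv_iff_mul_eq] at e
    have t := three _ (mS (v0, 1) (by decide)) _ (mS (1, -1) (by decide))
    have k : ∀ b b', h * φ b * h⁻¹ = φ b' → φ b ∈ C1(φ a * h) → b * a = a * b' := fun b b' e k => x.inj (by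
      rw [map_mul, map_mul, ← e, ← mul_assoc, ← mul_assoc, ← mem_C1.1 k]; group)
    rw [← e, ← map_mul] at t
    have := t.imp (k _ _ x.hv) (Or.imp (k _ _ x.hc) (k _ ((s0, 1) * (z0, -1)) (by
      rw [map_mul, map_mul, ← conj_mul, x.hv, x.hc])))
    exact absurd this ((by decide +kernel : ∀ a : S42, a * (z0, 1) = (z0, 1) * a → ¬ ((v0, 1) * a = a * (s0, 1) ∨
      (1, -1) * a = a * (z0, -1) ∨ (v0, 1) * (1, -1) * a = a * ((s0, 1) * (z0, -1)))) a (mem_C1.1 ha))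

theorem exM (gd : w = v0 ∧ d = z0 ∨ w = v0 * z0 ∧ d = f0) : ∃ M : Subgroup G, M.index = 2 ∧ φ (1, -1) ∉ M := by
  have c2 : φ (1, -1) * φ (1, -1) = 1 := by rw [← map_mul, ← map_one φ]; congr 1
  obtain ⟨M, -, h1, h2⟩ := thompson (Q := T0 ⊔ zpowers h) x.syl (relIndex_eq_of_mul (sup_le_sup_right x.le0 _)
    (by rw [x.cS, x.cQ])) (mem_sup_left (x.mT (a := (1, -1)) (by decide))) c2 fun g _ k => by
      have c3 : g * φ (1, -1) * g⁻¹ * (g * φ (1, -1) * g⁻¹) = 1 := by rw [conj_mul, c2]; simp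
      obtain ⟨a, ha, e⟩ | ⟨a, ha, e⟩ := mem_two x.nT0 x.hh0 k
      · rw [← e, ← map_mul, map_eq_one_iff _ x.injψ] at c3
        obtain rfl | ⟨b, k | k⟩ := (by decide +kernel : ∀ a : S4, a * a = 1 → a = 1 ∨ ∃ b, b * a * b⁻¹ = z0 ∨
          b * a * b⁻¹ = s0) a c3
        · rw [map_one, eq_comm, conj_eq_one_iff, map_eq_one_iff φ x.inj] at e; exact absurd e (by decide)
        · refine x.ncz (ψ b * g) (Eq.trans ?_ (congrArg ψ k))
          rw [map_mul, map_mul, map_inv, e]; group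
        · have k' := (congrArg ψ k).trans x.hv.symm
          rw [show ((v0, 1) : S42) = (swap 1 2, 1) * (z0, 1) * (swap 1 2, 1)⁻¹ by decide] at k'
          simp only [map_mul, map_inv, e] at k'
          refine x.ncz ((h * φ (swap 1 2, 1))⁻¹ * ψ b * g) (conj_injective (x := h * φ (swap 1 2, 1)) ?_)
          convert k' using 1 <;> group
      · obtain ⟨i, j, k⟩ := dec0 a (mem_C1.1 ha)
        rw [show ψ a = φ (a, 1) from rfl, k, eq_mul_inv_iff_mul_eq] at e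
        rw [← e, show φ (wa i j 0) * h * (φ (wa i j 0) * h) = φ (wa i j 0) * (h * φ (wa i j 0) * h⁻¹) * (h * h) by
          group, x.act, x.hh, ← map_mul, ← map_mul, map_eq_one_iff φ x.inj] at c3
        clear k e; revert i j; obtain ⟨rfl, rfl⟩ | ⟨rfl, rfl⟩ := gd <;> decide +kernel
  exact ⟨M, relIndex_top_right M ▸ h1, h2⟩

theorem c2 : φ (1, -1) * φ (1, -1) = 1 := by rw [← map_mul, ← map_one φ]; congr 1
theorem z1 : φ (z0, 1) ≠ 1 := fun e => absurd (x.inj (e.trans (map_one φ).symm)) (by decide)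

section
variable (M2 : M.index = 2) (cM : φ (1, -1) ∉ M) (hM : h ∈ M)
include M2 cM hM

theorem PM (a : S4) : ψ a ∈ M := by
  have := normal_of_index_eq_two M2
  refine range_le norm_of_normal ?_ ⟨a, rfl⟩
  obtain ⟨a, e⟩ : ∃ a : S42, a * a = (v0, 1) := by decide +kernel
  rw [show ψ s0 = _ from x.hv.symm, ← e, map_mul]
  exact conj_mem_N (le_N hM) (mul_self_mem_of_index_two M2 _)

theorem two (a : S42) (ha : φ a ∈ M) : φ a = ψ a.1 := by
  obtain ⟨a, e⟩ := a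
  obtain rfl | rfl := Int.units_eq_one_or e
  · rfl
  · rw [show ((a, -1) : S42) = (a, 1) * (1, -1) by simp, map_mul] at ha
    exact absurd ((mul_mem_cancel_left (x.PM M2 cM hM a)).1 ha) cM

theorem u4 : U4 ((ψ).codRestrict M (x.PM M2 cM hM)) ⟨h, hM⟩ (((TT ⊔ zpowers h) ⊓ M).subgroupOf M) := by
  have := normal_of_index_eq_two M2
  have nV : N(V4 (ψ z0) (ψ v0)) = φ.range := x.w0.norm (V4_le ⟨_, rfl⟩ ⟨_, rfl⟩) (ne_bot_of_mem left_mem_V4 x.z1)
    (rangeV φ)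
  have s := x.syl.inf_nml (K := M) nml_top
  have QS : T0 ⊔ zpowers h ≤ (TT ⊔ zpowers h) ⊓ M := le_inf (sup_le_sup_right x.le0 _)
    (sup_le (by rintro _ ⟨a, -, rfl⟩; exact x.PM M2 cM hM a) (zpowers_le.2 hM))
  refine ⟨(MonoidHom.injective_codRestrict ..).2 x.injψ, fun ⟨g, gM⟩ h1 h2 => ?_, Subtype.ext x.hv,
    ⟨le_top, by rw [PiGrp, card_subgroupOf inf_le_right]; exact s.pi, by rw [relIndex_top_right]; exact s.idx⟩,
    QS (mem_sup_left ⟨v0, mem_C1.2 (by decide), rfl⟩), QS (mem_sup_left ⟨s0, mem_C1.2 (by decide), rfl⟩),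
    by rw [card_subgroupOf inf_le_right, ← x.cQ]; exact card_dvd QS⟩
  replace h1 : g * ψ v0 = ψ v0 * g := congrArg Subtype.val (mem_C1.1 h1)
  replace h2 : g * ψ z0 = ψ z0 * g := congrArg Subtype.val (mem_C1.1 h2)
  obtain ⟨a, rfl⟩ : g ∈ φ.range := nV ▸ C_le_N (by rw [C_V4]; exact ⟨mem_C1.2 h2, mem_C1.2 h1⟩)
  have e := x.two M2 cM hM a gM
  rw [e, ← map_mul, ← map_mul] at h1 h2
  obtain k | k | k | k := (by decide : ∀ b : S4, b * v0 = v0 * b → b * z0 = z0 * b →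
    b = 1 ∨ b = z0 ∨ b = v0 ∨ b = v0 * z0) a.1 (x.injψ h1) (x.injψ h2) <;> rw [k] at e
  exacts [.inl (Subtype.ext (e.trans (map_one _))), .inr (.inl (Subtype.ext e)), .inr (.inr (.inl (Subtype.ext e))),
    .inr (.inr (.inr (Subtype.ext e)))]

theorem simple : IsSimpleGroup M := by
  have := normal_of_index_eq_two M2
  have : Nontrivial M := ⟨⟨_, x.PM M2 cM hM z0⟩, 1, fun e => x.z1 (congrArg Subtype.val e)⟩
  refine ⟨fun K _ => or_iff_not_imp_left.2 fun k => ?_⟩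
  have n := nml_map_subtype (X := K)
  have PK : ∀ a, ψ a ∈ K.map M.subtype := fun a => mem_map_of_mem M.subtype ((x.u4 M2 cM hM).zin (fun s => x.w0.nsub n
    (mt (map_eq_bot_iff_of_injective _ M.subtype_injective).1 k) (solv_map_subtype.2 s)) ⟨a, rfl⟩)
  suffices M ≤ K.map M.subtype from eq_top_iff.2 fun m _ => by
    obtain ⟨m', h1, h2⟩ := this m.2
    exact Subtype.ext h2 ▸ h1
  generalize K.map M.subtype = L at n PK
  have n' : L ⊴ M → H18.cj (φ (1, -1)) L ⊴ M := fun n => by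
    simpa only [cj_eq_self (norm_of_normal (K := M) (mem_top _))] using n.cj (φ (1, -1))
  have : (L ⊓ H18.cj (φ (1, -1)) L).Normal := norm_top_iff.1 (by
    rw [← two_sup M2 cM]
    exact sup_le (norm_inf n.norm (n' n).norm)
      (zpowers_le.2 (mem_N_iff_cj.2 (by rw [cj_inf, cj_cj, x.c2, cj_one, inf_comm]))))
  have t := x.w0.sup (ne_bot_of_mem (H := L ⊓ H18.cj (φ (1, -1)) L)
    ⟨PK z0, H18.mem_cj.2 (by
      rw [mul_assoc, show ψ z0 * _ = _ from cenc (z0, 1), inv_mul_cancel_left]; exact PK z0)⟩ x.z1)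
  intro m hm
  obtain ⟨l, hl, _, ⟨a, rfl⟩, rfl⟩ := (mem_sup_of_norm' norm_of_normal).1 (t.ge (mem_top m))
  rw [x.two M2 cM hM a ((mul_mem_cancel_left (n.le hl.1)).1 hm)]
  exact mul_mem hl.1 (PK a.1)

theorem main' : Res G := by
  have := normal_of_index_eq_two M2
  have := x.simple M2 cM hM
  have hC := x.w0.cent M2
  obtain ⟨F, _, _, h1, h2, ⟨e⟩⟩ | k | ⟨k, -⟩ := (x.u4 M2 cM hM).cls
  · obtain ⟨f, hf, hE⟩ := exists_conj_hom e
    obtain ⟨L, hL⟩ := H25.exists_PG (H24.two_ne_zero_of_odd h1)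
    have nM : ∀ g, g ∈ N(M) := fun g => norm_of_normal (mem_top g)
    obtain ⟨t, ht⟩ : ∃ t, (φ (t, 1) * h) ^ 4 = φ (z0, 1) := by
      have e1 : (φ (1, 1) * h) ^ 4 = φ ((d, 1) * (d, 1)) := by
        rw [map_mul, ← x.hh, Prod.mk_one_one, map_one]; simp only [pow_succ, pow_zero, one_mul, mul_assoc]
      have e2 : (φ (v0, 1) * h) ^ 4 = φ (((v0, 1) * (s0, 1) * (d, 1)) * ((v0, 1) * (s0, 1) * (d, 1))) := by
        simp only [map_mul, ← x.hh, ← x.hv, pow_succ]; group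
      obtain ⟨-, rfl | rfl⟩ | ⟨-, rfl | rfl⟩ := x.wd
      exacts [⟨_, e2.trans (congrArg φ (by decide))⟩, ⟨_, e2.trans (congrArg φ (by decide))⟩,
        ⟨_, e1.trans (congrArg φ (by decide))⟩, ⟨_, e1.trans (congrArg φ (by decide))⟩]
    refine (no_r5 L (H24.two_ne_zero_of_odd h1) (a := mfun f (φ (1, -1))) (r := mfun f (φ (t, 1) * h))
      (by rw [← mfun_mul (nM _) (nM _), x.c2, mfun_one])
      (by rw [hL, ← hE]; exact mfun_mem_mim (mul_mem (x.PM M2 cM hM t) hM)) ?_ (fun k => x.z1 ?_) ?_).elim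
    · rw [← mfun_pow (nM _), show 8 = 4 + 4 from rfl, pow_add, ht, ← map_mul,
        show ((z0, 1) * (z0, 1) : S42) = 1 by decide, map_one, mfun_one]
    · rw [← mfun_pow (nM _), ht] at k
      rw [← mem_bot, ← hC, ← hf]; exact mem_mker.2 ⟨nM _, k⟩
    · rw [← mfun_pow (nM _), ← mfun_conj (nM _) (nM _), pow_succ', ht, ← mul_assoc, ← cenc]
      have k := x.hc
      rw [show ((z0, -1) : S42) = (1, -1) * (z0, 1) by decide, map_mul, ← x.hz, mul_inv_eq_iff_eq_mul] at k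
      rw [mul_assoc, mul_assoc, mul_assoc, inv_of_sq x.c2, k, ← mul_assoc (φ (1, -1)), ← mul_assoc (φ (1, -1)), x.c2]
      group
  · exact .inr (.inr (.inr (.inr (.inr (.inr (.inr ⟨M, inferInstance, M2, hC, k⟩))))))
  · exact absurd (m11_out k hC ▸ mem_top _) cM
end

theorem main : Res G := by
  obtain ⟨M, M2, cM⟩ : ∃ M : Subgroup G, M.index = 2 ∧ φ (1, -1) ∉ M := by
    obtain ⟨rfl, rfl | rfl⟩ | ⟨rfl, rfl | rfl⟩ := x.wd
    exacts [x.flip.exM (by decide), x.exM (by decide), x.exM (by decide), x.flip.exM (by decide)]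
  by_cases hM : h ∈ M
  · exact x.main' M2 cM hM
  · exact x.flip.main' M2 cM ((mul_mem_iff_of_index_two M2).2 (iff_of_false hM cM))

end X2

variable {φ : S42 →* G}

theorem dec2 : ∀ i j l e, wa i j l * (v0, 1) * (wa i j l)⁻¹ = (e, 1) → wa i j l = wb e i j l →
    ∃ d, wa i j l = (d, 1) ∧ (e = v0 ∧ (d = 1 ∨ d = z0) ∨ e = v0 * z0 ∧ (d = f0 ∨ d = f0 * z0)) := by decide +kernel

theorem s42a (w : W0 φ.range) (hi : Function.Injective φ) (hz : h * φ (z0, 1) * h⁻¹ = φ (z0, 1))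
    (hc : h * φ (1, -1) * h⁻¹ = φ (z0, -1)) (hv : h * φ (v0, 1) * h⁻¹ = φ (s0, 1))
    (hs : h * φ (s0, 1) * h⁻¹ ∈ φ.range) : Res G := by
  obtain ⟨⟨e, ε⟩, hs⟩ := hs
  have k : ∀ a, h * h * a * (h * h)⁻¹ = h * (h * a * h⁻¹) * h⁻¹ := fun a => by group
  obtain ⟨d, hd⟩ : h * h ∈ φ.range := cc w hi ▸ mem_C1.2 (mul_inv_eq_iff_eq_mul.1 (by
    rw [k, hc, show ((z0, -1) : S42) = (1, -1) * (z0, 1) by decide, map_mul, ← conj_mul, hc, hz, ← map_mul]
    congr 1; decide))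
  obtain ⟨i, j, l, rfl⟩ := dec d (hi (by rw [map_mul, map_mul, hd, ← mul_inv_eq_iff_eq_mul, k, hz, hz]))
  have e1 : wa i j l * (v0, 1) * (wa i j l)⁻¹ = (e, ε) := hi (by rw [map_mul, map_mul, map_inv, hd, k, hv, hs])
  obtain rfl : 1 = ε := by simpa using congrArg Prod.snd e1
  have e2 := act2 hc hv hs.symm i j l
  rw [hd, ← mul_assoc, mul_inv_cancel_right, ← hd] at e2
  obtain ⟨d, h1, h2⟩ := dec2 i j l e e1 (hi e2)
  rw [h1] at hd
  exact X2.main ⟨w, hi, hz, hc, hv, hs.symm, hd.symm, h2⟩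

def tw : S42 →* S42 := (MonoidHom.fst _ _).prod (MonoidHom.snd _ _ * Perm.sign.comp (MonoidHom.fst _ _))
theorem tw_tw (a : S42) : tw (tw a) = a := by simp [tw, mul_assoc]

theorem s42b (w : W0 φ.range) (hi : Function.Injective φ) (hh : h ∈ N(C1(((z0, 1) : S42)).map φ))
    (hz : h * φ (z0, 1) * h⁻¹ = φ (z0, 1)) (hc : h * φ (1, -1) * h⁻¹ = φ (z0, -1)) {e : ℤˣ}
    (hv : h * φ (v0, 1) * h⁻¹ = φ (s0, e)) : Res G := by
  obtain rfl | rfl := Int.units_eq_one_or e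
  · obtain ⟨e, -, k⟩ := act hh (d := (s0, 1)) (by decide)
    exact s42a w hi hz hc hv ⟨e, k⟩
  have r : (φ.comp tw).range = φ.range := by
    rw [MonoidHom.range_comp, MonoidHom.range_eq_top.2 fun a => ⟨_, tw_tw a⟩, ← MonoidHom.range_eq_map]
  obtain ⟨e, -, k⟩ := act hh (d := (s0, -1)) (by decide)
  refine s42a (φ := φ.comp tw) (h := h) (r ▸ w) (hi.comp (Function.LeftInverse.injective tw_tw)) ?_ ?_ ?_ (r ▸ ?_)
  all_goals simp only [MonoidHom.comp_apply, show tw (z0, 1) = (z0, 1) by decide +kernel,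
    show tw (v0, 1) = (v0, 1) by decide +kernel, show tw (s0, 1) = (s0, -1) by decide +kernel,
    show tw (1, -1) = (1, -1) by decide +kernel, show tw (z0, -1) = (z0, -1) by decide +kernel]
  exacts [hz, hc, hv, ⟨e, k⟩]

theorem W0.s42 (w : W0 P) (hi : Function.Injective φ) (hr : φ.range = P) (hh : h ∈ N(C1(((z0, 1) : S42)).map φ))
    (hP : h ∉ P) : Res G := by
  subst hr
  have hz : h * φ (z0, 1) * h⁻¹ = φ (z0, 1) := by
    obtain ⟨e, e1, e2⟩ := act hh (d := (f0, 1)) (by decide)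
    have : φ (e * e) = h * φ (z0, 1) * h⁻¹ := by rw [map_mul, e2, conj_mul, ← map_mul]; congr 3; decide
    obtain k | k := (by decide +kernel : ∀ e : S42, e * (z0, 1) = (z0, 1) * e → e * e = 1 ∨ e * e = (z0, 1)) e e1 <;>
      rw [k] at this
    · rw [map_one, eq_comm, conj_eq_one_iff, map_eq_one_iff φ hi] at this; exact absurd this (by decide)
    · exact this.symm
  have hc : h * φ (1, -1) * h⁻¹ = φ (z0, -1) := by
    obtain ⟨e, -, e2⟩ := act hh (d := (1, -1)) (by decide)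
    have c : ∀ b, b * (z0, 1) = (z0, 1) * b → e * b = b * e := fun b hb => hi (by
      obtain ⟨b', -, k⟩ := act (inv_mem hh) hb
      rw [map_mul, map_mul, e2, show φ b = h * φ b' * h⁻¹ by rw [k]; group, conj_mul, conj_mul, cenc])
    obtain rfl | rfl | rfl | rfl := (by decide +kernel : ∀ e : S42, e * (v0, 1) = (v0, 1) * e →
      e * (s0, 1) = (s0, 1) * e → e = 1 ∨ e = (z0, 1) ∨ e = (1, -1) ∨ e = (z0, -1)) e (c _ (by decide)) (c _ (by decide))
    · rw [map_one, eq_comm, conj_eq_one_iff, map_eq_one_iff φ hi] at e2; exact absurd e2 (by decide)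
    · exact absurd (hi (conj_injective (hz.trans e2))) (by decide)
    · exact absurd (cc w hi ▸ mem_C1.2 (mul_inv_eq_iff_eq_mul.1 e2.symm)) hP
    · exact e2.symm
  obtain ⟨⟨e, ε⟩, e1, e2⟩ := act hh (d := (v0, 1)) (by decide)
  have ee : (e, ε) * (e, ε) = 1 := hi (by
    rw [map_mul, e2, conj_mul, ← map_mul, show ((v0, 1) * (v0, 1) : S42) = 1 by decide]; simp)
  obtain rfl | rfl | k := (by decide : ∀ e : S4, e * z0 = z0 * e → e * e = 1 →
    e = s0 ∨ e = s0 * z0 ∨ e = 1 ∨ e = z0 ∨ e = v0 ∨ e = z0 * v0) e (congrArg Prod.fst e1) (congrArg Prod.fst ee)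
  · exact s42b w hi hh hz hc e2.symm
  · have k : ∀ a, φ (v0, 1) * h * a * (φ (v0, 1) * h)⁻¹ = φ (v0, 1) * (h * a * h⁻¹) * φ (v0, 1)⁻¹ := fun a => by
      rw [map_inv]; group
    refine s42b (h := φ (v0, 1) * h) (e := ε) w hi (mul_mem (le_N (mem_map_of_mem φ (mem_C1.2 (by decide)))) hh) ?_ ?_ ?_
    · rw [k, hz, ← map_mul, ← map_mul]; congr 1; decide
    · rw [k, hc, ← map_mul, ← map_mul]; congr 1; decide
    · rw [k, ← e2, ← map_mul, ← map_mul]; congr 1; clear e1 e2 ee; revert ε; decide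
  have mE : ∀ a ε, a = 1 ∨ a = z0 ∨ a = v0 ∨ a = z0 * v0 →
      φ (a, ε) ∈ V4 (φ (z0, 1)) (φ (v0, 1)) ⊔ zpowers (φ (1, -1)) := fun a ε ha => by
    obtain rfl | rfl := Int.units_eq_one_or ε
    · exact mem_sup_left (memV ψ[φ] ha)
    · rw [show ((a, -1) : S42) = (a, 1) * (1, -1) by simp, map_mul]
      exact mul_mem_sup (memV ψ[φ] ha) (mem_zpowers _)
  refine absurd (w.norm (A := V4 (φ (z0, 1)) (φ (v0, 1)) ⊔ zpowers (φ (1, -1)))
    (sup_le (V4_le ⟨_, rfl⟩ ⟨_, rfl⟩) (zpowers_le.2 ⟨_, rfl⟩))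
    (ne_bot_of_mem (mE 1 (-1) (.inl rfl)) fun e => absurd (hi (e.trans (map_one φ).symm)) (by decide))
    (norm_sup (rangeV φ) ((cc w hi).ge.trans C1_le_N_zpowers)) ▸ mem_N_of_cj_le ?_) hP
  rw [cj_sup, cj_V4, cj_zpowers, hz, hc, ← e2]
  exact sup_le (V4_le (mE _ _ (by simp)) (mE _ _ k)) (zpowers_le.2 (mE _ _ (by simp)))

end H326.Wo
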